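import Groth.Agent.H13Desc.Eff.Chart
import Groth.Prelude.Def_DescFam
import Mathlib.CategoryTheory.EffectiveEpi.Comp

/-!
Charts from effectiveness after refining the covering over an open of the base.
-/

set_option backward.isDefEq.respectTransparency false
set_option backward.isDefEq.respectTransparency.types false
set_option linter.style.haveILetI false
set_option linter.unusedSectionVars false

universe u

open CategoryTheory CategoryTheory.Limits AlgebraicGeometry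
open Desc

namespace Groth.Agent.H13Desc.Eff

variable {X S : Scheme.{u}} {p : X ⟶ S}

/-- The value of the gluing bijection only depends on the values. -/
theorem phi_congr'' (D : SchDD p) {T : Scheme.{u}} {x₀ x₀' x₁ x₁' : T ⟶ X} (h₀ : x₀ = x₀') (h₁ : x₁ = x₁')
    (h : x₀ ≫ p = x₁ ≫ p) (h' : x₀' ≫ p = x₁' ≫ p) (v : Lifts D.obj x₀) (v' : Lifts D.obj x₀')
    (hv : v.1 = v'.1) : (D.φ x₀ x₁ h v).1 = (D.φ x₀' x₁' h' v').1 := by
  subst h₀ h₁
  rw [Subtype.ext hv]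

theorem phi_self'' (D : SchDD p) {T : Scheme.{u}} {x₀ x₁ : T ⟶ X} (e : x₀ = x₁)
    (h : x₀ ≫ p = x₁ ≫ p) (v : Lifts D.obj x₀) : (D.φ x₀ x₁ h v).1 = v.1 := by
  subst e
  rw [D.φ_self]

variable (D : SchDD p) {V : S.Opens} {W : Scheme.{u}} (π : W ⟶ X) (c : W ⟶ V.toScheme)
  (hc : π ≫ p = c ≫ V.ι)

include hc in
theorem compat {T : Scheme.{u}} {x₀ x₁ : T ⟶ W} (h : x₀ ≫ c = x₁ ≫ c) :
    (x₀ ≫ π) ≫ p = (x₁ ≫ π) ≫ p := by
  rw [Category.assoc, Category.assoc, hc, ← Category.assoc, ← Category.assoc, h]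

/-- The pull-back of a descent datum to a refinement over an open of the base. -/
noncomputable def pullW : SchDD c where
  obj := Over.mk (pullback.snd D.obj.hom π)
  φ T x₀ x₁ h := (liftsPullbackEquiv D.obj π x₀).trans
    ((D.φ _ _ (compat π c hc h)).trans (liftsPullbackEquiv D.obj π x₁).symm)
  φ_natural T T' g x₀ x₁ h h' v v' hv := by
    apply pullback.hom_ext
    · simp only [Equiv.trans_apply, liftsPullbackEquiv, Equiv.coe_fn_mk, Equiv.coe_fn_symm_mk,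
        pullback.lift_fst, Category.assoc]
      have h2 : (g ≫ x₀ ≫ π) ≫ p = (g ≫ x₁ ≫ π) ≫ p := by
        simpa [Category.assoc] using compat π c hc h'
      refine (phi_congr'' D (Category.assoc _ _ _) (Category.assoc _ _ _) _ h2 _
        ⟨g ≫ v.1 ≫ pullback.fst D.obj.hom π, by
          rw [Category.assoc, Category.assoc, pullback.condition, ← Category.assoc v.1]
          exact congrArg (g ≫ · ≫ π) v.2⟩ ?_).trans (D.φ_natural g _ _ (compat π c hc h) h2 _ _ rfl)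
      show v'.1 ≫ _ = g ≫ v.1 ≫ _
      rw [hv, Category.assoc]
    · simp only [Equiv.trans_apply, liftsPullbackEquiv, Equiv.coe_fn_mk, Equiv.coe_fn_symm_mk,
        pullback.lift_snd, Category.assoc]
  φ_self T x v := by simp [D.φ_self]
  φ_comp T x₀ x₁ x₂ h₀₁ h₁₂ v := by simp [D.φ_comp]

/-- Value of the pulled-back bijection. -/
theorem pullW_fst {T : Scheme.{u}} (x₀ x₁ : T ⟶ W) (h : x₀ ≫ c = x₁ ≫ c)
    (v : Lifts (pullW D π c hc).obj x₀) :
    ((pullW D π c hc).φ x₀ x₁ h v).1 ≫ pullback.fst D.obj.hom π =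
      (D.φ (x₀ ≫ π) (x₁ ≫ π) (compat π c hc h) (liftsPullbackEquiv D.obj π x₀ v)).1 :=
  pullback.lift_fst _ _ _

set_option maxHeartbeats 800000 in
/-- Effectiveness after refinement over an open gives a chart over that open. -/
theorem exists_chart_of_refinement [Flat c] [Surjective c] [IsCover c] (Z : Over V.toScheme)
    (e : (toDD c).obj Z ≅ pullW D π c hc) :
    ∃ C : Chart D, (D.obj.hom ≫ p) ⁻¹ᵁ V ≤ C.O := by
  let U := pullback D.obj.hom π
  let E : pullback c Z.hom ⟶ U := e.hom.hom.left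
  let E' : U ⟶ pullback c Z.hom := e.inv.hom.left
  have hEE' : E ≫ E' = 𝟙 _ := by
    show e.hom.hom.left ≫ e.inv.hom.left = _
    rw [← Over.comp_left, ← SchDD.comp_hom, e.hom_inv_id]; rfl
  have hE'E : E' ≫ E = 𝟙 _ := by
    show e.inv.hom.left ≫ e.hom.hom.left = _
    rw [← Over.comp_left, ← SchDD.comp_hom, e.inv_hom_id]; rfl
  have hEw : E ≫ pullback.snd D.obj.hom π = pullback.fst c Z.hom := Over.w e.hom.hom
  have hE'w : E' ≫ pullback.fst c Z.hom = pullback.snd D.obj.hom π := Over.w e.inv.hom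
  let Zs : Over S := Over.mk (Z.hom ≫ V.ι)
  let P := pullback p Zs.hom
  let K := pullback (pullback.snd p Zs.hom ≫ Z.hom) c
  let k₁ : K ⟶ P := pullback.fst _ _
  let k₂ : K ⟶ W := pullback.snd _ _
  let b : K ⟶ pullback c Z.hom := pullback.lift k₂ (k₁ ≫ pullback.snd p Zs.hom) (by
    rw [Category.assoc]; exact pullback.condition.symm)
  let x : K ⟶ X := k₁ ≫ pullback.fst p Zs.hom
  have hkx : (k₂ ≫ π) ≫ p = x ≫ p := by
    show (k₂ ≫ π) ≫ p = (k₁ ≫ pullback.fst p Zs.hom) ≫ p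
    rw [Category.assoc, hc, Category.assoc, pullback.condition, ← Category.assoc k₂,
      ← pullback.condition (f := pullback.snd p Zs.hom ≫ Z.hom) (g := c), Category.assoc, Category.assoc]
    rfl
  let a : Lifts D.obj (k₂ ≫ π) := ⟨b ≫ E ≫ pullback.fst D.obj.hom π, by
    rw [Category.assoc, Category.assoc, pullback.condition, reassoc_of% hEw]
    exact pullback.lift_fst_assoc _ _ _ _⟩
  let F : Lifts D.obj x := D.φ _ _ hkx a
  -- values of `F` at points of `K`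
  have hF : ∀ {T : Scheme.{u}} (g : T ⟶ K) (y₀ y₁ : T ⟶ X) (h : y₀ ≫ p = y₁ ≫ p)
      (v : Lifts D.obj y₀), g ≫ k₂ ≫ π = y₀ → g ≫ x = y₁ → v.1 = g ≫ a.1 →
      g ≫ F.1 = (D.φ y₀ y₁ h v).1 := by
    intro T g y₀ y₁ h v h0 h1 hv
    subst h0 h1
    exact (D.φ_natural g _ _ hkx h a v hv).symm
  have hmove : ∀ {T : Scheme.{u}} (g₁ g₂ : T ⟶ K)
      (_ : g₁ ≫ k₁ ≫ pullback.snd p Zs.hom = g₂ ≫ k₁ ≫ pullback.snd p Zs.hom)
      (hh : (g₁ ≫ k₂ ≫ π) ≫ p = (g₂ ≫ k₂ ≫ π) ≫ p),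
      g₂ ≫ a.1 = (D.φ _ _ hh ⟨g₁ ≫ a.1, by rw [Category.assoc, a.2]⟩).1 := by
    intro T g₁ g₂ hz hh
    have hcc : (g₁ ≫ k₂) ≫ c = (g₂ ≫ k₂) ≫ c := by
      simp only [Category.assoc, k₂, ← pullback.condition (f := pullback.snd p Zs.hom ≫ Z.hom) (g := c)]
      simpa [Category.assoc] using congrArg (· ≫ Z.hom) hz
    let v : Lifts ((toDD c).obj Z).obj (g₁ ≫ k₂) := ⟨g₁ ≫ b, by
      rw [Category.assoc]; exact congrArg (g₁ ≫ ·) (pullback.lift_fst _ _ _)⟩
    let w : Lifts (pullW D π c hc).obj (g₁ ≫ k₂) := ⟨g₁ ≫ b ≫ E, by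
      rw [Category.assoc, Category.assoc]
      exact congrArg (g₁ ≫ ·) ((congrArg (b ≫ ·) hEw).trans (pullback.lift_fst _ _ _))⟩
    have h1 := e.hom.comm (g₁ ≫ k₂) (g₂ ≫ k₂) hcc v w (Category.assoc _ _ _).symm
    have h2 : (((toDD c).obj Z).φ _ _ hcc v).1 = g₂ ≫ b := by
      refine pullback.hom_ext ?_ ?_
      · refine (pullback.lift_fst _ _ _).trans ?_
        rw [Category.assoc]; exact congrArg (g₂ ≫ ·) (pullback.lift_fst _ _ _).symm
      · refine (pullback.lift_snd _ _ _).trans ?_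
        simp only [v, b, Category.assoc, pullback.lift_snd]
        exact hz
    have h3 := congrArg (· ≫ pullback.fst D.obj.hom π) (h1.trans (congrArg (· ≫ E) h2))
    simp only [Category.assoc] at h3
    rw [pullW_fst] at h3
    refine Eq.trans ?_ (Eq.trans h3.symm ?_)
    · rfl
    · exact phi_congr'' D (Category.assoc _ _ _) (Category.assoc _ _ _) _ hh _ _ (by
        show (g₁ ≫ b ≫ E) ≫ pullback.fst D.obj.hom π = _
        simp only [a, Category.assoc])
  have hker : ∀ {T : Scheme.{u}} (g₁ g₂ : T ⟶ K), g₁ ≫ k₁ = g₂ ≫ k₁ → g₁ ≫ F.1 = g₂ ≫ F.1 := by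
    intro T g₁ g₂ hg
    have hx : g₁ ≫ x = g₂ ≫ x := by simp only [x, reassoc_of% hg]
    have h1 : (g₁ ≫ k₂ ≫ π) ≫ p = (g₁ ≫ x) ≫ p := by simpa [Category.assoc] using congrArg (g₁ ≫ ·) hkx
    have h2 : (g₂ ≫ k₂ ≫ π) ≫ p = (g₂ ≫ x) ≫ p := by simpa [Category.assoc] using congrArg (g₂ ≫ ·) hkx
    have hh : (g₁ ≫ k₂ ≫ π) ≫ p = (g₂ ≫ k₂ ≫ π) ≫ p := by rw [h1, hx, h2]
    rw [hF g₁ _ _ h1 ⟨g₁ ≫ a.1, by rw [Category.assoc, a.2]⟩ rfl rfl rfl,
      hF g₂ _ _ h2 ⟨g₂ ≫ a.1, by rw [Category.assoc, a.2]⟩ rfl rfl rfl]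
    refine Eq.trans ?_ (phi_congr'' D rfl rfl h2 h2 (D.φ _ _ hh ⟨g₁ ≫ a.1, by rw [Category.assoc, a.2]⟩) _
      (hmove g₁ g₂ (by simp only [reassoc_of% hg]) hh).symm)
    rw [D.φ_comp]
    exact phi_congr'' D rfl hx _ _ _ _ rfl
  have : IsCover k₁ := IsCover.of_isPullback c (IsPullback.of_hasPullback _ c).flip
  let c₀ : P ⟶ D.obj.left := EffectiveEpi.desc k₁ F.1 fun g₁ g₂ h => hker g₁ g₂ h
  have hc₀ : k₁ ≫ c₀ = F.1 := EffectiveEpi.fac _ _ _
  have hc₀w : c₀ ≫ D.obj.hom = pullback.fst p Zs.hom := by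
    rw [← cancel_epi k₁, reassoc_of% hc₀]
    exact F.2
  let C₀ : (toDD p).obj Zs ⟶ D := ⟨Over.homMk c₀ hc₀w, fun T x₀ x₁ h v w hw => by
    let v' : Lifts ((toDD p).obj Zs).obj x₁ := ((toDD p).obj Zs).φ x₀ x₁ h v
    show _ = v'.1 ≫ c₀
    let r := pullback.fst v.1 k₁
    let g₀ := pullback.snd v.1 k₁
    have : Surjective k₁ := inferInstanceAs (Surjective (pullback.fst _ c))
    have : Flat k₁ := inferInstanceAs (Flat (pullback.fst _ c))
    have : Epi r := Flat.epi_of_flat_of_surjective _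
    have hr : r ≫ v.1 = g₀ ≫ k₁ := pullback.condition
    have hv' : v'.1 ≫ pullback.snd p Zs.hom = v.1 ≫ pullback.snd p Zs.hom := pullback.lift_snd _ _ _
    let g₁ : pullback v.1 k₁ ⟶ K := pullback.lift (r ≫ v'.1) (g₀ ≫ k₂) (by
      simp only [Category.assoc, reassoc_of% hv']
      rw [reassoc_of% hr]
      exact congrArg (g₀ ≫ ·) pullback.condition)
    have hg1 : g₁ ≫ k₁ = r ≫ v'.1 := pullback.lift_fst _ _ _
    have hg2 : g₁ ≫ k₂ = g₀ ≫ k₂ := pullback.lift_snd _ _ _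
    have hx0 : g₀ ≫ x = r ≫ x₀ := by
      simp only [x, ← reassoc_of% hr]
      exact congrArg (r ≫ ·) v.2
    have hx1 : g₁ ≫ x = r ≫ x₁ := by
      simp only [x, reassoc_of% hg1]
      exact congrArg (r ≫ ·) v'.2
    have hb : g₁ ≫ b = g₀ ≫ b := pullback.hom_ext
      (by simp only [b, Category.assoc, pullback.lift_fst, hg2])
      (by simp only [b, Category.assoc, pullback.lift_snd, reassoc_of% hg1, hv', reassoc_of% hr])
    have ha : g₁ ≫ a.1 = g₀ ≫ a.1 := by simp only [a, reassoc_of% hb]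
    have h01 : (r ≫ x₀) ≫ p = (r ≫ x₁) ≫ p := by simp only [Category.assoc, h]
    have h0 : (g₀ ≫ k₂ ≫ π) ≫ p = (r ≫ x₀) ≫ p := by
      rw [← hx0]; simpa [Category.assoc] using congrArg (g₀ ≫ ·) hkx
    rw [← cancel_epi r, ← reassoc_of% hg1, hc₀,
      ← D.φ_natural r x₀ x₁ h h01 w ⟨r ≫ w.1, by rw [Category.assoc, w.2]⟩ rfl,
      hF g₁ _ _ (h0.trans h01) ⟨g₀ ≫ a.1, by rw [Category.assoc, a.2]⟩ (by rw [reassoc_of% hg2]) hx1
        ha.symm, ← D.φ_comp _ (r ≫ x₀) (r ≫ x₁) h0 h01]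
    exact phi_congr'' D rfl rfl _ _ _ _ (by
      show r ≫ w.1 = _
      rw [show w.1 = v.1 ≫ c₀ from hw, reassoc_of% hr, hc₀]
      exact hF g₀ _ _ h0 _ rfl hx0 rfl)⟩
  let O := (D.obj.hom ≫ p) ⁻¹ᵁ V
  have hcO : Set.range c₀ ⊆ (O : Set D.obj.left) := by
    rintro _ ⟨y, rfl⟩
    show (c₀ ≫ D.obj.hom ≫ p) y ∈ V
    rw [reassoc_of% hc₀w, pullback.condition]
    exact (Z.hom (pullback.snd p Zs.hom y)).2
  let c₁ : P ⟶ O.toScheme := IsOpenImmersion.lift O.ι c₀ (by rwa [Scheme.Opens.range_ι])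
  have hc₁ : c₁ ≫ O.ι = c₀ := IsOpenImmersion.lift_fac _ _ _
  let toV : O.toScheme ⟶ V.toScheme := IsOpenImmersion.lift V.ι (O.ι ≫ D.obj.hom ≫ p) (by
    rw [Scheme.Opens.range_ι]; rintro _ ⟨y, rfl⟩; exact y.2)
  have htoV : toV ≫ V.ι = O.ι ≫ D.obj.hom ≫ p := IsOpenImmersion.lift_fac _ _ _
  have hPV : c₁ ≫ toV = pullback.snd p Zs.hom ≫ Z.hom := by
    rw [← cancel_mono V.ι, Category.assoc, htoV, reassoc_of% hc₁, reassoc_of% hc₀w, pullback.condition,
      Category.assoc]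
    rfl
  let KO := pullback toV c
  let τ : K ⟶ KO := pullback.lift (k₁ ≫ c₁) k₂ (by
    rw [Category.assoc, hPV]; exact pullback.condition)
  have sqτ : IsPullback τ k₁ (pullback.fst toV c) c₁ := by
    refine (IsPullback.of_right ?_ ?_ (IsPullback.of_hasPullback toV c).flip)
    · rw [hPV, show τ ≫ pullback.snd toV c = k₂ from pullback.lift_snd _ _ _]
      exact (IsPullback.of_hasPullback (pullback.snd p Zs.hom ≫ Z.hom) c).flip
    · exact pullback.lift_fst _ _ _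
  -- the inverse over the refinement
  let y : KO ⟶ D.obj.left := pullback.fst toV c ≫ O.ι
  let w₂ : KO ⟶ W := pullback.snd toV c
  have hy : (y ≫ D.obj.hom) ≫ p = (w₂ ≫ π) ≫ p := by
    simp only [y, Category.assoc, hc, ← htoV]
    rw [pullback.condition_assoc]
  let yw : Lifts D.obj (w₂ ≫ π) := D.φ (y ≫ D.obj.hom) _ hy ⟨y, rfl⟩
  let zz : KO ⟶ pullback c Z.hom := pullback.lift yw.1 w₂ yw.2 ≫ E'
  have hz1 : zz ≫ pullback.fst c Z.hom = w₂ := by
    simp only [zz, Category.assoc, hE'w, pullback.lift_snd]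
  let ρ₁ : KO ⟶ P := pullback.lift (y ≫ D.obj.hom) (zz ≫ pullback.snd c Z.hom) (by
    rw [hy, Category.assoc, hc, ← hz1, Category.assoc, pullback.condition_assoc, Category.assoc]
    rfl)
  let ρ : KO ⟶ K := pullback.lift ρ₁ w₂ (by
    rw [← hz1, Category.assoc, pullback.condition]
    simp only [ρ₁, zz, pullback.lift_snd_assoc, Category.assoc])
  have hρb : ρ ≫ b = zz := pullback.hom_ext
    (by simp only [b, ρ, k₂, Category.assoc, pullback.lift_fst, pullback.lift_snd, hz1])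
    (by simp only [b, ρ, k₁, ρ₁, Category.assoc, pullback.lift_snd, pullback.lift_fst_assoc])
  have hρx : ρ ≫ x = y ≫ D.obj.hom := by
    simp only [x, ρ, k₁, ρ₁, pullback.lift_fst_assoc, pullback.lift_fst]
  have hρw : ρ ≫ k₂ = w₂ := pullback.lift_snd _ _ _
  have hρa : ρ ≫ a.1 = yw.1 := by
    simp only [a, reassoc_of% hρb]
    simp only [zz, Category.assoc, reassoc_of% hE'E, pullback.lift_fst]
  have hρF : ρ ≫ F.1 = y := by
    rw [hF ρ _ _ hy.symm yw (by rw [reassoc_of% hρw]) hρx hρa.symm, D.φ_comp, D.φ_self]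
  have hτc₁ : k₁ ≫ c₁ ≫ O.ι = F.1 := by rw [hc₁, hc₀]
  have h1 : ρ ≫ τ = 𝟙 KO := by
    refine pullback.hom_ext ?_ ?_
    · rw [Category.assoc, pullback.lift_fst, Category.id_comp, ← cancel_mono O.ι]
      simp only [Category.assoc, hτc₁, hρF]
      rfl
    · rw [Category.assoc, pullback.lift_snd, Category.id_comp]
      exact hρw
  have hτy : τ ≫ y = F.1 := by
    simp only [y, τ, pullback.lift_fst_assoc, Category.assoc, hτc₁]
  have hτw : τ ≫ w₂ = k₂ := pullback.lift_snd _ _ _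
  have hτx : τ ≫ y ≫ D.obj.hom = x := by rw [reassoc_of% hτy]; exact F.2
  have h2 : τ ≫ ρ = 𝟙 K := by
    have hτyw : τ ≫ yw.1 = a.1 := by
      have h : (τ ≫ y ≫ D.obj.hom) ≫ p = (τ ≫ w₂ ≫ π) ≫ p := by
        simpa [Category.assoc] using congrArg (τ ≫ ·) hy
      rw [← D.φ_natural τ _ _ hy h ⟨y, rfl⟩ ⟨τ ≫ y, by rw [Category.assoc]⟩ rfl]
      refine (phi_congr'' D hτx ((reassoc_of% hτw) π) h hkx.symm _ F hτy).trans ?_
      rw [D.φ_comp, D.φ_self]
    have hz : τ ≫ zz = b := by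
      have e1 : τ ≫ pullback.lift yw.1 w₂ yw.2 = b ≫ E := pullback.hom_ext
        (by simp only [Category.assoc, pullback.lift_fst, hτyw]; rfl)
        (by simp only [Category.assoc, pullback.lift_snd, hτw, hEw, b, pullback.lift_fst])
      simp only [zz, reassoc_of% e1, hEE', Category.comp_id]
    refine pullback.hom_ext (pullback.hom_ext ?_ ?_) ?_
    · simp only [Category.assoc, ρ, ρ₁, pullback.lift_fst, Category.id_comp, hτx]
      rfl
    · simp only [Category.assoc, ρ, ρ₁, pullback.lift_fst_assoc, pullback.lift_snd, Category.id_comp,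
        reassoc_of% hz, b]
      rfl
    · simp only [Category.assoc, ρ, pullback.lift_snd, Category.id_comp, hτw]
      rfl
  have : IsIso τ := ⟨ρ, h2, h1⟩
  have : IsCover (pullback.fst toV c) := IsCover.of_isPullback c (IsPullback.of_hasPullback toV c).flip
  have : IsIso c₁ := IsCover.descend (pullback.fst toV c) (MorphismProperty.isomorphisms Scheme.{u}) sqτ
    (inferInstanceAs (IsIso τ))
  have : IsOpenImmersion c₀ := by rw [← hc₁]; infer_instance
  refine ⟨⟨Zs, C₀, this⟩, fun z hz => ?_⟩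
  show z ∈ Set.range c₀
  obtain ⟨y, hy⟩ := (inferInstance : Surjective c₁).surj ⟨z, hz⟩
  exact ⟨y, by rw [← hc₁, Scheme.Hom.comp_apply, hy]; rfl⟩

end Groth.Agent.H13Desc.Eff
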