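import Groth.Agent.H13Desc.Eff.Glue
import Groth.Agent.H13Desc.Eff.Refine

/-!
Invariant opens of a descent datum and saturation.
-/

set_option backward.isDefEq.respectTransparency false
set_option backward.isDefEq.respectTransparency.types false
set_option linter.style.haveILetI false
set_option linter.unusedSectionVars false

universe u

open CategoryTheory CategoryTheory.Limits AlgebraicGeometry
open Desc TopologicalSpace

namespace Groth.Agent.H13Desc.Eff

variable {X S : Scheme.{u}} {p : X ⟶ S} (D : SchDD p)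

/-- The scheme of pairs of a point of the datum and a point of the cover with the same image. -/
noncomputable abbrev Rel₂ : Scheme.{u} := pullback (D.obj.hom ≫ p) p

/-- The source map of the equivalence relation on the datum. -/
noncomputable def src : Rel₂ D ⟶ D.obj.left := pullback.fst _ _

theorem act_compat : (src D ≫ D.obj.hom) ≫ p = pullback.snd (D.obj.hom ≫ p) p ≫ p := by
  rw [src, Category.assoc]
  exact pullback.condition

/-- The target map of the equivalence relation on the datum. -/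
noncomputable def act : Rel₂ D ⟶ D.obj.left :=
  (D.φ (src D ≫ D.obj.hom) (pullback.snd (D.obj.hom ≫ p) p) (act_compat D) ⟨src D, rfl⟩).1

theorem act_hom : act D ≫ D.obj.hom = pullback.snd (D.obj.hom ≫ p) p :=
  (D.φ (src D ≫ D.obj.hom) (pullback.snd (D.obj.hom ≫ p) p) (act_compat D) ⟨src D, rfl⟩).2

theorem pair_compat {T : Scheme.{u}} {x₀ x₁ : T ⟶ X} (h : x₀ ≫ p = x₁ ≫ p) (v : Lifts D.obj x₀) :
    v.1 ≫ D.obj.hom ≫ p = x₁ ≫ p := by
  rw [← Category.assoc, v.2, h]

/-- The gluing bijections are given by the target map. -/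
theorem phi_eq_act {T : Scheme.{u}} (x₀ x₁ : T ⟶ X) (h : x₀ ≫ p = x₁ ≫ p) (v : Lifts D.obj x₀) :
    (D.φ x₀ x₁ h v).1 = pullback.lift v.1 x₁ (pair_compat D h v) ≫ act D := by
  let r : T ⟶ Rel₂ D := pullback.lift v.1 x₁ (pair_compat D h v)
  have e₀ : r ≫ src D ≫ D.obj.hom = x₀ := by
    rw [← Category.assoc, src, pullback.lift_fst, v.2]
  have e₁ : r ≫ pullback.snd (D.obj.hom ≫ p) p = x₁ := pullback.lift_snd _ _ _
  have hr : (r ≫ src D ≫ D.obj.hom) ≫ p = (r ≫ pullback.snd (D.obj.hom ≫ p) p) ≫ p := by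
    rw [e₀, e₁, h]
  exact (phi_congr'' D e₀.symm e₁.symm h hr v
    ⟨r ≫ src D, Category.assoc _ _ _⟩ (pullback.lift_fst _ _ _).symm).trans
    (D.φ_natural r _ _ (act_compat D) hr ⟨src D, rfl⟩ _ rfl)

/-- The symmetry of the equivalence relation. -/
noncomputable def swap : Rel₂ D ⟶ Rel₂ D :=
  pullback.lift (act D) (src D ≫ D.obj.hom) (by
    rw [← Category.assoc, act_hom, act_compat])

theorem swap_src : swap D ≫ src D = act D := pullback.lift_fst _ _ _

theorem swap_act : swap D ≫ act D = src D := by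
  rw [swap, ← phi_eq_act D (pullback.snd (D.obj.hom ≫ p) p) (src D ≫ D.obj.hom) (act_compat D).symm
    ⟨act D, act_hom D⟩]
  have := D.φ_comp _ _ _ (act_compat D) (act_compat D).symm ⟨src D, rfl⟩
  exact (congrArg Subtype.val this).trans (phi_self'' D rfl _ _)

theorem swap_swap : swap D ≫ swap D = 𝟙 _ := by
  apply pullback.hom_ext
  · show (swap D ≫ swap D) ≫ src D = 𝟙 _ ≫ src D
    rw [Category.assoc, swap_src, swap_act, Category.id_comp]
  · rw [Category.assoc, Category.id_comp]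
    rw [show swap D ≫ pullback.snd (D.obj.hom ≫ p) p = src D ≫ D.obj.hom from pullback.lift_snd _ _ _,
      ← Category.assoc, swap_src, act_hom]

instance : IsIso (swap D) := ⟨swap D, swap_swap D, swap_swap D⟩

/-- An open set of the datum stable under the gluing. -/
def Saturated (O : D.obj.left.Opens) : Prop :=
  ∀ ⦃T : Scheme.{u}⦄ (x₀ x₁ : T ⟶ X) (h : x₀ ≫ p = x₁ ≫ p) (v : Lifts D.obj x₀),
    Set.range v.1 ⊆ (O : Set D.obj.left) → Set.range (D.φ x₀ x₁ h v).1 ⊆ (O : Set D.obj.left)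

variable {D} {O : D.obj.left.Opens}

theorem range_lift_subset {T : Scheme.{u}} {x : T ⟶ X} (a : Lifts (Over.mk (O.ι ≫ D.obj.hom)) x) :
    Set.range (a.1 ≫ O.ι) ⊆ (O : Set D.obj.left) := by
  rintro _ ⟨t, rfl⟩
  exact (a.1 t).2

/-- The transported point of the open part. -/
noncomputable def restrictMap (hO : Saturated D O) {T : Scheme.{u}} (x₀ x₁ : T ⟶ X)
    (h : x₀ ≫ p = x₁ ≫ p) (a : Lifts (Over.mk (O.ι ≫ D.obj.hom)) x₀) :
    Lifts (Over.mk (O.ι ≫ D.obj.hom)) x₁ :=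
  ⟨IsOpenImmersion.lift O.ι (D.φ x₀ x₁ h ⟨a.1 ≫ O.ι, (Category.assoc _ _ _).trans a.2⟩).1 (by
      exact (hO x₀ x₁ h _ (range_lift_subset a)).trans (Scheme.Opens.range_ι O).ge),
    (IsOpenImmersion.lift_fac_assoc _ _ _ _).trans (D.φ x₀ x₁ h _).2⟩

theorem restrictMap_val (hO : Saturated D O) {T : Scheme.{u}} (x₀ x₁ : T ⟶ X) (h : x₀ ≫ p = x₁ ≫ p)
    (a : Lifts (Over.mk (O.ι ≫ D.obj.hom)) x₀) :
    (restrictMap hO x₀ x₁ h a).1 ≫ O.ι =
      (D.φ x₀ x₁ h ⟨a.1 ≫ O.ι, (Category.assoc _ _ _).trans a.2⟩).1 :=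
  IsOpenImmersion.lift_fac _ _ _

theorem restrictMap_comp (hO : Saturated D O) {T : Scheme.{u}} (x₀ x₁ x₂ : T ⟶ X)
    (h₀₁ : x₀ ≫ p = x₁ ≫ p) (h₁₂ : x₁ ≫ p = x₂ ≫ p) (a : Lifts (Over.mk (O.ι ≫ D.obj.hom)) x₀) :
    restrictMap hO x₁ x₂ h₁₂ (restrictMap hO x₀ x₁ h₀₁ a) = restrictMap hO x₀ x₂ (h₀₁.trans h₁₂) a := by
  apply Subtype.ext
  rw [← cancel_mono O.ι]
  refine ((restrictMap_val hO x₁ x₂ h₁₂ _).trans ?_).trans (restrictMap_val hO x₀ x₂ _ a).symm
  rw [← D.φ_comp x₀ x₁ x₂ h₀₁ h₁₂]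
  exact phi_congr'' D rfl rfl _ _ _ _ (restrictMap_val hO x₀ x₁ h₀₁ a)

theorem restrictMap_self (hO : Saturated D O) {T : Scheme.{u}} (x : T ⟶ X)
    (a : Lifts (Over.mk (O.ι ≫ D.obj.hom)) x) : restrictMap hO x x rfl a = a := by
  apply Subtype.ext
  rw [← cancel_mono O.ι, restrictMap_val, D.φ_self]

/-- The descent datum on an invariant open. -/
noncomputable def restrict (hO : Saturated D O) : SchDD p where
  obj := Over.mk (O.ι ≫ D.obj.hom)
  φ T x₀ x₁ h :=
    { toFun := restrictMap hO x₀ x₁ h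
      invFun := restrictMap hO x₁ x₀ h.symm
      left_inv := fun a => (restrictMap_comp hO x₀ x₁ x₀ h h.symm a).trans (restrictMap_self hO x₀ a)
      right_inv := fun a => (restrictMap_comp hO x₁ x₀ x₁ h.symm h a).trans (restrictMap_self hO x₁ a) }
  φ_natural T T' g x₀ x₁ h h' a a' ha := by
    show (restrictMap hO (g ≫ x₀) (g ≫ x₁) h' a').1 = g ≫ (restrictMap hO x₀ x₁ h a).1
    rw [← cancel_mono O.ι, Category.assoc, restrictMap_val, restrictMap_val]
    exact D.φ_natural g x₀ x₁ h h' _ _ (by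
      show a'.1 ≫ O.ι = g ≫ a.1 ≫ O.ι
      rw [ha, Category.assoc])
  φ_self T x a := restrictMap_self hO x a
  φ_comp T x₀ x₁ x₂ h₀₁ h₁₂ a := restrictMap_comp hO x₀ x₁ x₂ h₀₁ h₁₂ a

/-- The inclusion of an invariant open. -/
noncomputable def restrictIncl (hO : Saturated D O) : restrict hO ⟶ D :=
  ⟨Over.homMk O.ι rfl, fun T x₀ x₁ h v w hw => by
    show _ = (restrictMap hO x₀ x₁ h v).1 ≫ O.ι
    rw [restrictMap_val]
    exact phi_congr'' D rfl rfl _ _ _ _ hw⟩

/-- An effective invariant open is a chart. -/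
theorem exists_chart_of_restrict (hO : Saturated D O) (Z : Over S) (e : (toDD p).obj Z ≅ restrict hO) :
    ∃ C : Chart D, C.O = O := by
  have : IsOpenImmersion (e.hom ≫ restrictIncl hO).hom.left := by
    show IsOpenImmersion (e.hom.hom.left ≫ O.ι)
    infer_instance
  refine ⟨⟨Z, e.hom ≫ restrictIncl hO, this⟩, ?_⟩
  show (e.hom.hom.left ≫ O.ι).opensRange = O
  rw [Scheme.Hom.opensRange_comp_of_isIso, Scheme.Opens.opensRange_ι]

variable (D) [Flat p] [LocallyOfFinitePresentation p]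

theorem isOpenMap_src : IsOpenMap (src D) := by
  unfold src
  exact (pullback.fst (D.obj.hom ≫ p) p).isOpenMap

theorem isOpenMap_act : IsOpenMap (act D) := by
  rw [← swap_src, Scheme.Hom.comp_base, TopCat.coe_comp]
  exact (isOpenMap_src D).comp (swap D).homeomorph.isOpenMap

/-- The saturation of an open. -/
noncomputable def sat (U : D.obj.left.Opens) : D.obj.left.Opens :=
  ⟨act D '' (src D ⁻¹' (U : Set D.obj.left)), isOpenMap_act D _ (U.2.preimage (src D).continuous)⟩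

variable {D}

theorem le_sat (U : D.obj.left.Opens) : U ≤ sat D U := by
  intro v hv
  refine ⟨pullback.lift (𝟙 _) D.obj.hom (by rw [Category.id_comp]) v, ?_, ?_⟩
  · show (pullback.lift (𝟙 _) D.obj.hom _ ≫ pullback.fst (D.obj.hom ≫ p) p) v ∈ U
    rw [pullback.lift_fst]
    exact hv
  · rw [← Scheme.Hom.comp_apply, ← phi_eq_act D D.obj.hom D.obj.hom rfl ⟨𝟙 _, Category.id_comp _⟩,
      D.φ_self]
    rfl

theorem saturated_sat (U : D.obj.left.Opens) : Saturated D (sat D U) := by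
  rintro T x₀ x₁ h v hv _ ⟨z, rfl⟩
  obtain ⟨q, hq, hqz⟩ := hv ⟨z, rfl⟩
  obtain ⟨π, hπ₀, hπ₁⟩ := Scheme.Pullback.exists_preimage_pullback (f := v.1) (g := act D) z q hqz.symm
  let g : pullback v.1 (act D) ⟶ T := pullback.fst _ _
  let k : pullback v.1 (act D) ⟶ Rel₂ D := pullback.snd _ _
  let y₀ := k ≫ src D ≫ D.obj.hom
  let u₀ : Lifts D.obj y₀ := ⟨k ≫ src D, Category.assoc _ _ _⟩
  have hgk : g ≫ v.1 = k ≫ act D := pullback.condition
  have e : k ≫ pullback.snd (D.obj.hom ≫ p) p = g ≫ x₀ := by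
    rw [← act_hom, ← reassoc_of% hgk, v.2]
  have h₀ : y₀ ≫ p = (g ≫ x₀) ≫ p := by
    rw [← e]
    simp only [y₀, Category.assoc]
    congr 1
    simpa [Category.assoc] using act_compat D
  have h₁ : (g ≫ x₀) ≫ p = (g ≫ x₁) ≫ p := by rw [Category.assoc, Category.assoc, h]
  have hu : (D.φ y₀ (g ≫ x₀) h₀ u₀).1 = g ≫ v.1 := by
    rw [phi_eq_act, hgk]
    congr 1
    exact pullback.hom_ext (pullback.lift_fst _ _ _) ((pullback.lift_snd _ _ _).trans e.symm)
  have key : g ≫ (D.φ x₀ x₁ h v).1 =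
      pullback.lift (k ≫ src D) (g ≫ x₁) (pair_compat D (h₀.trans h₁) u₀) ≫ act D := by
    rw [← phi_eq_act D y₀ (g ≫ x₁) (h₀.trans h₁) u₀, ← D.φ_comp y₀ (g ≫ x₀) (g ≫ x₁) h₀ h₁]
    exact (D.φ_natural g x₀ x₁ h h₁ v _ hu).symm
  refine ⟨pullback.lift (k ≫ src D) (g ≫ x₁) (pair_compat D (h₀.trans h₁) u₀) π, ?_, ?_⟩
  · show (_ ≫ pullback.fst (D.obj.hom ≫ p) p) π ∈ U
    rw [pullback.lift_fst, Scheme.Hom.comp_apply, hπ₁]
    exact hq
  · rw [← Scheme.Hom.comp_apply, ← key, Scheme.Hom.comp_apply, hπ₀]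

theorem isCompact_sat [QuasiCompact p] {U : D.obj.left.Opens} (hU : IsCompact (U : Set D.obj.left)) :
    IsCompact (sat D U : Set D.obj.left) := by
  have : QuasiCompact (src D) := by unfold src; infer_instance
  exact (QuasiCompact.isCompact_preimage (f := src D) _ U.2 hU).image (act D).continuous

end Groth.Agent.H13Desc.Eff
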