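import Groth.Agent.H13Desc.Eff.Affine
import Groth.Agent.H13Desc.Eff.Saturate

/-!
Descent of separated locally quasi-finite schemes along fppf coverings.
-/

set_option backward.isDefEq.respectTransparency false
set_option backward.isDefEq.respectTransparency.types false
set_option linter.style.haveILetI false
set_option linter.unusedSectionVars false

universe u

open CategoryTheory CategoryTheory.Limits AlgebraicGeometry
open Desc TopologicalSpace

namespace Groth.Agent.H13Desc.Eff

theorem isEffective_lqf_affine {X S : Scheme.{u}} [IsAffine X] [IsAffine S] (p : X ⟶ S) [Flat p]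
    [Surjective p] [LocallyOfFinitePresentation p] (D : SchDD p) [IsSeparated D.obj.hom]
    [LocallyQuasiFinite D.obj.hom] [LocallyOfFiniteType D.obj.hom] :
    ∃ Z : Over S, Nonempty ((toDD p).obj Z ≅ D) := by
  refine isEffective_of_charts fun v => ?_
  obtain ⟨_, ⟨U : D.obj.left.Opens, hU, rfl⟩, hvU, -⟩ :=
    D.obj.left.isBasis_affineOpens.exists_subset_of_mem_open (Set.mem_univ v) isOpen_univ
  have hO := saturated_sat (D := D) U
  have hc : CompactSpace (sat D U).toScheme :=
    isCompact_iff_compactSpace.mp (isCompact_sat hU.isCompact)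
  have hs : IsSeparated ((sat D U).ι ≫ D.obj.hom) := inferInstance
  have hq : LocallyQuasiFinite ((sat D U).ι ≫ D.obj.hom) := inferInstance
  have ht : LocallyOfFiniteType ((sat D U).ι ≫ D.obj.hom) := inferInstance
  have hqa : ∀ {W : Scheme.{u}} (π : W ⟶ X), IsAffine W →
      (pullback (restrict hO).obj.hom π).IsQuasiAffine := by
    intro W π hW
    let f : (sat D U).toScheme ⟶ X := (sat D U).ι ≫ D.obj.hom
    have : QuasiCompact f := (quasiCompact_iff_compactSpace f).2 hc
    have : CompactSpace ↥(pullback f π) := (quasiCompact_iff_compactSpace (pullback.snd f π)).1 inferInstance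
    exact @Groth.Agent.H12AlgSp.isQuasiAffine_of_lqf (pullback f π) W hW this (pullback.snd f π) inferInstance
      inferInstance inferInstance
  suffices h : ∃ Z : Over S, Nonempty ((toDD p).obj Z ≅ restrict hO) by
    obtain ⟨Z, ⟨e⟩⟩ := h
    obtain ⟨C, hC⟩ := exists_chart_of_restrict hO Z e
    exact ⟨C, hC.ge (le_sat U hvU)⟩
  refine isEffective_of_charts fun a => ?_
  obtain ⟨C, hC⟩ := exists_chart_of_affine_over (restrict hO) (isAffineOpen_top S) hqa
  exact ⟨C, hC trivial⟩

theorem isEffective_lqf {X S : Scheme.{u}} (p : X ⟶ S) [Flat p]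
    [Surjective p] [LocallyOfFinitePresentation p] (D : SchDD p) [IsSeparated D.obj.hom]
    [LocallyQuasiFinite D.obj.hom] [LocallyOfFiniteType D.obj.hom] :
    ∃ Z : Over S, Nonempty ((toDD p).obj Z ≅ D) := by
  refine isEffective_of_charts fun a => ?_
  obtain ⟨_, ⟨W : S.Opens, hW, rfl⟩, haW, -⟩ := S.isBasis_affineOpens.exists_subset_of_mem_open
    (Set.mem_univ ((D.obj.hom ≫ p) a)) isOpen_univ
  obtain ⟨n, k, V, g, hV, hg, _, _, _⟩ := fpqc_exists_affine_refinement (IsCover.ofArrows p) W hW
  have : ∀ l, IsAffine (V l).toScheme := hV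
  have : IsAffine W.toScheme := hW
  have : ∀ l, LocallyOfFinitePresentation (g l) := fun l =>
    MorphismProperty.of_isPullback
      (show IsPullback (𝟙 _) (g l) ((V l).ι ≫ p) W.ι from
          ⟨⟨by rw [Category.id_comp, hg]⟩, ⟨PullbackCone.IsLimit.mk _ (fun s => s.fst)
            (fun s => Category.comp_id _)
            (fun s => (cancel_mono W.ι).mp (by rw [Category.assoc, hg]; exact s.condition))
            (fun s m h₁ _ => (Category.comp_id m).symm.trans h₁)⟩⟩)
      (inferInstanceAs (LocallyOfFinitePresentation ((V l).ι ≫ p)))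
  let π : (∐ fun l => (V l).toScheme) ⟶ X := Sigma.desc fun l => (V l).ι
  have hc : π ≫ p = Sigma.desc g ≫ W.ι := Sigma.hom_ext _ _ fun l => by simp [π, hg]
  have : LocallyOfFinitePresentation (Sigma.desc g) :=
    IsZariskiLocalAtSource.sigmaDesc fun l => inferInstance
  have h1 : IsSeparated (pullW D π (Sigma.desc g) hc).obj.hom :=
    inferInstanceAs (IsSeparated (pullback.snd D.obj.hom π))
  have h2 : LocallyQuasiFinite (pullW D π (Sigma.desc g) hc).obj.hom :=
    inferInstanceAs (LocallyQuasiFinite (pullback.snd D.obj.hom π))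
  have h3 : LocallyOfFiniteType (pullW D π (Sigma.desc g) hc).obj.hom :=
    inferInstanceAs (LocallyOfFiniteType (pullback.snd D.obj.hom π))
  obtain ⟨Z, ⟨e⟩⟩ := isEffective_lqf_affine (Sigma.desc g) (pullW D π (Sigma.desc g) hc)
  obtain ⟨C, hC⟩ := exists_chart_of_refinement D π (Sigma.desc g) hc Z e
  exact ⟨C, hC haW⟩

end Groth.Agent.H13Desc.Eff
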