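import Groth.Agent.H13Desc.Eff.FinLocFree
import Groth.Agent.H11Ample.Ample
import Groth.Agent.H17.AmpleSep
import Groth.Prelude.Def_LCI2
import Mathlib.AlgebraicGeometry.AlgClosed.Basic

/-!
Consequences of descent along finite locally free morphisms.
-/

set_option backward.isDefEq.respectTransparency false
set_option backward.isDefEq.respectTransparency.types false
set_option linter.style.haveILetI false
set_option linter.unusedSectionVars false

universe u

open CategoryTheory CategoryTheory.Limits AlgebraicGeometry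
open Desc TopologicalSpace

namespace Groth.Agent.H13Desc.Eff

/-- A finite set of points of a scheme with an ample module lies in an affine open. -/
theorem exists_affine_of_isAmple {V : Scheme.{u}} {L : V.Modules} (hL : CohB1.IsAmple L) (s : Finset V) :
    ∃ U : V.Opens, IsAffineOpen U ∧ ∀ v ∈ s, v ∈ U := by
  have := Groth.Agent.H17.AmpleSep.isSeparated_of_isAmple hL
  have : CompactSpace V := hL.2.1
  obtain ⟨k, t, -, h, -, ha⟩ := Groth.Agent.H11Ample.exists_affine_gen_nhd_finite hL s.finite_toSet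
    (U := ⊤) (fun _ _ => trivial)
  exact ⟨_, ha, fun v hv => h hv⟩

variable {X S : Scheme.{u}} {p : X ⟶ S} (D : SchDD p)

theorem exists_affine_of_isRelAmple [IsFinite p] {L : D.obj.left.Modules}
    (hL : RelAmple.IsRelAmple D.obj.hom L) (y : S) (s : Finset D.obj.left)
    (hs : ∀ v ∈ s, p (D.obj.hom v) = y) :
    ∃ U : D.obj.left.Opens, IsAffineOpen U ∧ ∀ v ∈ s, v ∈ U := by
  classical
  obtain ⟨_, ⟨W : S.Opens, hW, rfl⟩, hyW, -⟩ := S.isBasis_affineOpens.exists_subset_of_mem_open
    (Set.mem_univ y) isOpen_univ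
  let O : D.obj.left.Opens := D.obj.hom ⁻¹ᵁ (p ⁻¹ᵁ W)
  have hmem : ∀ v ∈ s, v ∈ O := fun v hv => by
    show p (D.obj.hom v) ∈ W
    rw [hs v hv]; exact hyW
  let s' : Finset O.toScheme := s.attach.image fun v => (⟨v.1, hmem v.1 v.2⟩ : O.toScheme)
  have key : ∃ U : O.toScheme.Opens, IsAffineOpen U ∧ ∀ v ∈ s', v ∈ U :=
    exists_affine_of_isAmple (V := O.toScheme) (hL.2 ⟨p ⁻¹ᵁ W, hW.preimage p⟩) s'
  obtain ⟨U, hU, hsU⟩ := key
  refine ⟨O.ι ''ᵁ U, hU.image_of_isOpenImmersion O.ι, fun v hv => ?_⟩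
  exact ⟨⟨v, hmem v hv⟩, hsU _ (Finset.mem_image.mpr ⟨⟨v, hv⟩, Finset.mem_attach _ _, rfl⟩), rfl⟩

set_option maxHeartbeats 800000 in
/-- The fibres of the source map are bounded by the geometric fibres of the cover. -/
theorem ncard_src_fibre_le [IsFinite p] {d : ℕ}
    (hfib : ∀ (k : Type u) [Field k] [IsAlgClosed k] (y : Spec (CommRingCat.of k) ⟶ S),
      Set.encard {x : Spec (CommRingCat.of k) ⟶ X | x ≫ p = y} ≤ d) (v : D.obj.left) :
    Set.encard (src D ⁻¹' {v}) ≤ d := by
  classical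
  let k := AlgebraicClosure (D.obj.left.residueField v)
  let a : Spec (CommRingCat.of k) ⟶ D.obj.left :=
    Spec.map (CommRingCat.ofHom (algebraMap (D.obj.left.residueField v) k)) ≫ D.obj.left.fromSpecResidueField v
  have ha : ∀ z, a z = v := fun z => by
    simp only [a, Scheme.Hom.comp_apply]
    exact Scheme.fromSpecResidueField_apply _ _
  have : IsFinite (src D) := inferInstanceAs (IsFinite (pullback.fst (D.obj.hom ≫ p) p))
  let f := pullback.snd (src D) a
  have hdisc : ∀ q : (pullback (src D) a : Scheme.{u}), IsClosed ({q} : Set (pullback (src D) a : Scheme.{u})) := by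
    intro q
    have h := f.isDiscrete_preimage_singleton (IsLocalRing.closedPoint k)
    have huniv : f ⁻¹' {IsLocalRing.closedPoint k} = Set.univ :=
      Set.eq_univ_of_forall fun z => Subsingleton.elim (f z) _
    rw [huniv] at h
    have : DiscreteTopology (pullback (src D) a : Scheme.{u}) :=
      discreteTopology_iff_forall_isOpen.mpr fun A => by
        have := (isDiscrete_iff_discreteTopology.mp h)
        have hA := (isOpen_discrete (Subtype.val ⁻¹' A : Set (Set.univ : Set (pullback (src D) a : Scheme.{u}))))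
        have := isOpen_univ.isOpenMap_subtype_val _ hA
        simpa using this
    exact isClosed_discrete _
  refine le_trans ?_ (hfib k (a ≫ D.obj.hom ≫ p))
  have hlift : ∀ r : src D ⁻¹' {v}, ∃ m : Spec (CommRingCat.of k) ⟶ Rel₂ D,
      m ≫ src D = a ∧ m (IsLocalRing.closedPoint k) = r.1 := by
    intro r
    obtain ⟨q, hq, -⟩ := Scheme.Pullback.exists_preimage_pullback (f := src D) (g := a) r.1
      (IsLocalRing.closedPoint k) (r.2.trans (ha _).symm)
    let g := (pointEquivClosedPoint f).symm ⟨q, hdisc q⟩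
    have hg : g.1 (IsLocalRing.closedPoint k) = q :=
      congrArg Subtype.val ((pointEquivClosedPoint f).apply_symm_apply ⟨q, hdisc q⟩)
    refine ⟨g.1 ≫ pullback.fst (src D) a, ?_, ?_⟩
    · rw [Category.assoc, pullback.condition, reassoc_of% g.2]
    · rw [Scheme.Hom.comp_apply, hg, hq]
  choose m hm₁ hm₂ using hlift
  refine Set.encard_le_encard_of_injOn (f := fun r => if h : r ∈ src D ⁻¹' {v}
      then m ⟨r, h⟩ ≫ pullback.snd (D.obj.hom ≫ p) p else a ≫ D.obj.hom) ?_ ?_
  · intro r hr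
    simp only [dif_pos hr]
    show (m ⟨r, hr⟩ ≫ pullback.snd (D.obj.hom ≫ p) p) ≫ p = a ≫ D.obj.hom ≫ p
    rw [Category.assoc, ← src_snd_compat, ← Category.assoc (m ⟨r, hr⟩), hm₁]
  · intro r hr r' hr' he
    simp only [dif_pos hr, dif_pos hr'] at he
    have : m ⟨r, hr⟩ = m ⟨r', hr'⟩ := rel_ext D ((hm₁ _).trans (hm₁ _).symm) he
    exact (hm₂ ⟨r, hr⟩).symm.trans
      ((congrArg (fun z : Spec (CommRingCat.of k) ⟶ Rel₂ D => z (IsLocalRing.closedPoint k)) this).trans
        (hm₂ ⟨r', hr'⟩))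

theorem isEffective_finLocFree_of_bound [Surjective p] [IsFinite p] [Flat p] [LocallyOfFinitePresentation p]
    {d : ℕ} (hfib : ∀ (k : Type u) [Field k] [IsAlgClosed k] (y : Spec (CommRingCat.of k) ⟶ S),
      Set.encard {x : Spec (CommRingCat.of k) ⟶ X | x ≫ p = y} ≤ d)
    (hV : ∀ (y : S) (v : Fin d → D.obj.left), (∀ i, p (D.obj.hom (v i)) = y) →
      ∃ U : D.obj.left.Opens, IsAffineOpen U ∧ ∀ i, v i ∈ U) :
    ∃ Z : Over S, Nonempty ((toDD p).obj Z ≅ D) := by
  classical
  refine isEffective_finLocFree D fun y s hs ⟨v₀, h⟩ => ?_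
  rcases s.eq_empty_or_nonempty with rfl | ⟨v, hv⟩
  · exact ⟨⊥, isAffineOpen_bot _, fun v hv => absurd hv (Finset.notMem_empty v)⟩
  have hle : Set.encard (s : Set D.obj.left) ≤ d := by
    refine le_trans ?_ (ncard_src_fibre_le D hfib v₀)
    refine le_trans (Set.encard_le_encard (t := act D '' (src D ⁻¹' {v₀})) fun w hw => ?_)
      (Set.encard_image_le _ _)
    obtain ⟨r, hr, hr'⟩ := h w hw
    exact ⟨r, hr, hr'⟩
  rw [Set.encard_coe_eq_coe_finsetCard, Nat.cast_le] at hle
  let g : Fin d → D.obj.left := fun i => if hi : i.1 < s.card then (s.equivFin.symm ⟨i.1, hi⟩).1 else v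
  obtain ⟨U, hU, hgU⟩ := hV y g fun i => by
    simp only [g]
    split
    · exact hs _ (s.equivFin.symm _).2
    · exact hs v hv
  refine ⟨U, hU, fun w hw => ?_⟩
  have := hgU ⟨(s.equivFin ⟨w, hw⟩).1, lt_of_lt_of_le (s.equivFin ⟨w, hw⟩).2 hle⟩
  simpa [g, (s.equivFin ⟨w, hw⟩).2] using this

end Groth.Agent.H13Desc.Eff
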