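import Groth.Agent.H13AlgSp.FlatEqualizer
import Groth.Agent.H12AlgSp.DescentLQF
import Mathlib.AlgebraicGeometry.Morphisms.Flat
import Mathlib.AlgebraicGeometry.Morphisms.FlatRank
import Mathlib.CategoryTheory.EffectiveEpi.Basic
import Mathlib.AlgebraicGeometry.QuasiAffine

/-!
The quotient of a flat base-change quasi-affine equivalence relation is quasi-affine.
-/

universe u

open CategoryTheory CategoryTheory.Limits AlgebraicGeometry

namespace Groth.Agent.H13Desc.Eff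

open Groth.Agent.H13AlgSp

set_option backward.isDefEq.respectTransparency.types false in
theorem exists_envelope {Z W U R U' R' Q' : Scheme.{u}} [IsAffine Z] [IsAffine W] [U.IsQuasiAffine]
    [R.IsQuasiAffine] [U'.IsQuasiAffine] [R'.IsQuasiAffine] [Q'.IsQuasiAffine] (c : W ⟶ Z) [Flat c] (uu : U ⟶ Z)
    (s t : R ⟶ U) (hst : s ≫ uu = t ≫ uu) {cU : U' ⟶ U} {cW : U' ⟶ W}
    (sqU : IsPullback cU cW uu c) {cR : R' ⟶ R} {wR : R' ⟶ W} (sqR : IsPullback cR wR (s ≫ uu) c)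
    (p₁ p₂ : R' ⟶ U') (h₁ : p₁ ≫ cU = cR ≫ s) (h₁' : p₁ ≫ cW = wR) (h₂ : p₂ ≫ cU = cR ≫ t)
    (h₂' : p₂ ≫ cW = wR) (e : U' ⟶ Q') [EffectiveEpi e] (ker : IsPullback p₁ p₂ e e) :
    ∃ (Z₀ : Scheme.{u}) (z₀ : Z₀ ⟶ Z) (u₀ : U ⟶ Z₀) (φ : Q' ⟶ pullback z₀ c),
      IsAffine Z₀ ∧ u₀ ≫ z₀ = uu ∧ s ≫ u₀ = t ≫ u₀ ∧ IsOpenImmersion φ ∧
      e ≫ φ ≫ pullback.fst z₀ c = cU ≫ u₀ ∧ e ≫ φ ≫ pullback.snd z₀ c = cW := by
  let A₀ := RingHom.eqLocus s.appTop.hom t.appTop.hom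
  let ι₀ : CommRingCat.of A₀ ⟶ Γ(U, ⊤) := CommRingCat.ofHom A₀.subtype
  have huu : ∀ x, uu.appTop.hom x ∈ A₀ := fun x => congr(($(hst)).appTop.hom x)
  let α₀ : Γ(Z, ⊤) ⟶ CommRingCat.of A₀ := CommRingCat.ofHom (uu.appTop.hom.codRestrict A₀ huu)
  have hαι : α₀ ≫ ι₀ = uu.appTop := rfl
  let u₀ : U ⟶ Spec (CommRingCat.of A₀) := U.toSpecΓ ≫ Spec.map ι₀
  let z₀ : Spec (CommRingCat.of A₀) ⟶ Z := Spec.map α₀ ≫ Z.isoSpec.inv
  have hu₀ : u₀ ≫ z₀ = uu := by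
    simp only [u₀, z₀, Category.assoc]
    rw [← Spec.map_comp_assoc, hαι, ← Scheme.toSpecΓ_naturality_assoc]
    simp [Scheme.isoSpec]
  have happ : u₀.appTop = (Scheme.ΓSpecIso (CommRingCat.of A₀)).hom ≫ ι₀ := by
    rw [show u₀ = U.toSpecΓ ≫ Spec.map ι₀ from rfl, Scheme.Hom.comp_appTop, Scheme.toSpecΓ_appTop,
      Scheme.ΓSpecIso_naturality]
  have hinj : Function.Injective u₀.appTop.hom := by
    rw [happ, CommRingCat.hom_comp, RingHom.coe_comp]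
    exact Subtype.val_injective.comp
      (ConcreteCategory.bijective_of_isIso (Scheme.ΓSpecIso (CommRingCat.of A₀)).hom).injective
  have hrange : ∀ x, s.appTop.hom x = t.appTop.hom x ↔ x ∈ Set.range u₀.appTop.hom := by
    intro x
    rw [happ, CommRingCat.hom_comp, RingHom.coe_comp, Set.range_comp,
      (ConcreteCategory.bijective_of_isIso (Scheme.ΓSpecIso (CommRingCat.of A₀)).hom).surjective.range_eq,
      Set.image_univ]
    exact ⟨fun h => ⟨⟨x, h⟩, rfl⟩, by rintro ⟨⟨y, hy⟩, rfl⟩; exact hy⟩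
  have hst₀ : s ≫ u₀ = t ≫ u₀ := ext_of_isAffine (by
    ext x
    exact (hrange _).2 ⟨x, rfl⟩)
  have sqA := IsPullback.of_hasPullback z₀ c
  have : IsAffine (pullback z₀ c) := inferInstance
  let u₀' : U' ⟶ pullback z₀ c :=
    pullback.lift (cU ≫ u₀) cW (by rw [Category.assoc, hu₀, sqU.w])
  have hu₀'₁ : u₀' ≫ pullback.fst z₀ c = cU ≫ u₀ := pullback.lift_fst _ _ _
  have hu₀'₂ : u₀' ≫ pullback.snd z₀ c = cW := pullback.lift_snd _ _ _
  obtain ⟨hinj', hrange'⟩ := injective_and_range_of_flat (r := c.appTop) c.flat_appTop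
    (isPushout_appTop_of_isPullback sqA).flip (H12AlgSp.isPushout_appTop_of_flat sqU).flip
    (H12AlgSp.isPushout_appTop_of_flat sqR).flip
    (ι := u₀.appTop) (by rw [← Scheme.Hom.comp_appTop, hu₀])
    (f := s.appTop) (g := t.appTop) (by rw [← Scheme.Hom.comp_appTop])
    (by rw [← Scheme.Hom.comp_appTop, hst]) hinj hrange
    (ι' := u₀'.appTop) (by rw [← Scheme.Hom.comp_appTop, hu₀'₂])
    (by rw [← Scheme.Hom.comp_appTop, ← Scheme.Hom.comp_appTop, hu₀'₁])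
    (f' := p₁.appTop) (g' := p₂.appTop) (by rw [← Scheme.Hom.comp_appTop, h₁'])
    (by rw [← Scheme.Hom.comp_appTop, ← Scheme.Hom.comp_appTop, h₁])
    (by rw [← Scheme.Hom.comp_appTop, h₂'])
    (by rw [← Scheme.Hom.comp_appTop, ← Scheme.Hom.comp_appTop, h₂])
  have hp : p₁ ≫ u₀' = p₂ ≫ u₀' := by
    apply pullback.hom_ext
    · rw [Category.assoc, Category.assoc, hu₀'₁, reassoc_of% h₁, reassoc_of% h₂, hst₀]
    · rw [Category.assoc, Category.assoc, hu₀'₂, h₁', h₂']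
  let φ : Q' ⟶ pullback z₀ c := EffectiveEpi.desc e u₀' fun g₁ g₂ hg => by
    have h3 := congrArg (ker.lift g₁ g₂ hg ≫ ·) hp
    simp only [← Category.assoc, ker.lift_fst, ker.lift_snd] at h3
    exact h3
  have hφ : e ≫ φ = u₀' := EffectiveEpi.fac _ _ _
  have he : ∀ x, e.appTop.hom x ∈ u₀'.appTop.hom.range := fun x =>
    hrange' _ congr(($(ker.w)).appTop.hom x)
  let E := RingEquiv.ofBijective u₀'.appTop.hom.rangeRestrict
    ⟨fun a b h => hinj' (congrArg Subtype.val h), RingHom.rangeRestrict_surjective _⟩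
  let ρ : Γ(Q', ⊤) ⟶ Γ(pullback z₀ c, ⊤) :=
    CommRingCat.ofHom (E.symm.toRingHom.comp (e.appTop.hom.codRestrict _ he))
  have hρ : ρ ≫ u₀'.appTop = e.appTop := by
    ext x
    exact congr(($(E.apply_symm_apply ⟨e.appTop.hom x, he x⟩)).1)
  let ψ : pullback z₀ c ⟶ Spec Γ(Q', ⊤) := (pullback z₀ c).isoSpec.hom ≫ Spec.map ρ
  have hψ : u₀' ≫ ψ = e ≫ Q'.toSpecΓ := by
    simp only [ψ]
    rw [show (pullback z₀ c).isoSpec.hom = (pullback z₀ c).toSpecΓ from rfl,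
      Scheme.toSpecΓ_naturality_assoc u₀', ← Spec.map_comp, hρ, Scheme.toSpecΓ_naturality e]
  have h1 : φ ≫ ψ = Q'.toSpecΓ := by rw [← cancel_epi e, reassoc_of% hφ, hψ]
  have h2 : ρ ≫ φ.appTop = 𝟙 _ := by
    have h3 := congrArg (fun f => (Scheme.Hom.appTop f)) h1
    simp only [ψ, Scheme.Hom.comp_appTop, Scheme.isoSpec_hom, Scheme.toSpecΓ_appTop,
      Scheme.ΓSpecIso_naturality_assoc, Category.assoc] at h3
    rw [← Iso.cancel_iso_hom_left (Scheme.ΓSpecIso Γ(Q', ⊤)), h3, Category.comp_id]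
  have : IsIso φ.appTop := by
    refine (ConcreteCategory.isIso_iff_bijective _).2 ⟨fun a b h => hinj' ?_, fun x => ⟨ρ.hom x, congr($(h2).hom x)⟩⟩
    rw [← hφ, Scheme.Hom.comp_appTop]
    exact congrArg e.appTop.hom h
  have : IsOpenImmersion φ := by
    have h4 : φ = Q'.toSpecΓ ≫ Spec.map φ.appTop ≫ (pullback z₀ c).isoSpec.inv := by
      rw [← Scheme.toSpecΓ_naturality_assoc]
      simp [Scheme.isoSpec]
    rw [h4]
    infer_instance
  exact ⟨_, z₀, u₀, φ, inferInstance, hu₀, hst₀, this,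
    by rw [reassoc_of% hφ, hu₀'₁], by rw [reassoc_of% hφ, hu₀'₂]⟩

/-- The quotient of a quasi-affine relation by a flat surjective base change. -/
theorem exists_qaff_quotient {Z W U R U' R' Q' : Scheme.{u}} [IsAffine Z] [IsAffine W] [U.IsQuasiAffine]
    [R.IsQuasiAffine] [U'.IsQuasiAffine] [R'.IsQuasiAffine] [Q'.IsQuasiAffine] (c : W ⟶ Z) [Flat c] [Surjective c]
    (uu : U ⟶ Z) (s t : R ⟶ U) (hst : s ≫ uu = t ≫ uu) {cU : U' ⟶ U} {cW : U' ⟶ W}
    (sqU : IsPullback cU cW uu c) {cR : R' ⟶ R} {wR : R' ⟶ W} (sqR : IsPullback cR wR (s ≫ uu) c)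
    (p₁ p₂ : R' ⟶ U') (h₁ : p₁ ≫ cU = cR ≫ s) (h₁' : p₁ ≫ cW = wR) (h₂ : p₂ ≫ cU = cR ≫ t)
    (h₂' : p₂ ≫ cW = wR) (e : U' ⟶ Q') [EffectiveEpi e] [Surjective e] (ker : IsPullback p₁ p₂ e e) :
    ∃ (Z₀ : Scheme.{u}) (z₀ : Z₀ ⟶ Z) (u₀ : U ⟶ Z₀) (φ : Q' ⟶ pullback z₀ c),
      u₀ ≫ z₀ = uu ∧ s ≫ u₀ = t ≫ u₀ ∧ IsIso φ ∧
      e ≫ φ ≫ pullback.fst z₀ c = cU ≫ u₀ ∧ e ≫ φ ≫ pullback.snd z₀ c = cW := by
  obtain ⟨Z₀, z₀, u₀, φ, hZ₀, hu₀, hinv, hφ, hφ1, hφ2⟩ :=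
    exists_envelope c uu s t hst sqU sqR p₁ p₂ h₁ h₁' h₂ h₂' e ker
  have : Surjective (pullback.fst z₀ c) := inferInstance
  have : Flat (pullback.fst z₀ c) := inferInstance
  have : IsAffine (pullback z₀ c) := inferInstance
  let v : U' ⟶ pullback z₀ c := pullback.lift (cU ≫ u₀) cW (by rw [Category.assoc, hu₀, sqU.w])
  have hv : e ≫ φ = v := pullback.hom_ext (by rw [Category.assoc, hφ1, pullback.lift_fst])
    (by rw [Category.assoc, hφ2, pullback.lift_snd])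
  have sqv : IsPullback v cU (pullback.fst z₀ c) u₀ := by
    refine (IsPullback.of_right ?_ ?_ (IsPullback.of_hasPullback z₀ c).flip)
    · rw [pullback.lift_snd, hu₀]; exact sqU.flip
    · exact pullback.lift_fst _ _ _
  have hrange : pullback.fst z₀ c ⁻¹' Set.range u₀ = Set.range φ := by
    rw [show Set.range φ = Set.range (e ≫ φ) by
      rw [Scheme.Hom.comp_base, TopCat.coe_comp, e.surjective.range_comp], hv]
    refine Set.Subset.antisymm (fun y ⟨x, hx⟩ => ?_) ?_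
    · obtain ⟨z, hz, -⟩ := Scheme.exists_preimage_of_isPullback sqv y x hx.symm
      exact ⟨z, hz⟩
    · rintro _ ⟨z, rfl⟩
      exact ⟨cU z, by rw [← Scheme.Hom.comp_apply, ← Scheme.Hom.comp_apply, sqv.w]⟩
  have hopen : IsOpen (Set.range u₀) := by
    have hq : Topology.IsQuotientMap (pullback.fst z₀ c).base := Flat.isQuotientMap_of_surjective _
    rw [← hq.isOpen_preimage, hrange]
    exact φ.isOpenEmbedding.isOpen_range
  let O : Z₀.Opens := ⟨Set.range u₀, hopen⟩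
  let u₁ : U ⟶ O.toScheme := IsOpenImmersion.lift O.ι u₀ (by rw [Scheme.Opens.range_ι]; rfl)
  have hu₁ : u₁ ≫ O.ι = u₀ := IsOpenImmersion.lift_fac _ _ _
  let m : pullback (O.ι ≫ z₀) c ⟶ pullback z₀ c :=
    pullback.map _ _ _ _ O.ι (𝟙 W) (𝟙 Z) (by simp) (by simp)
  have sqm : IsPullback m (pullback.fst (O.ι ≫ z₀) c) (pullback.fst z₀ c) O.ι := by
    refine (IsPullback.of_right ?_ ?_ (IsPullback.of_hasPullback z₀ c).flip)
    · rw [show m ≫ pullback.snd z₀ c = pullback.snd (O.ι ≫ z₀) c from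
        (pullback.lift_snd _ _ _).trans (Category.comp_id _)]
      exact (IsPullback.of_hasPullback (O.ι ≫ z₀) c).flip
    · exact pullback.lift_fst _ _ _
  have : IsOpenImmersion m :=
    MorphismProperty.of_isPullback sqm.flip (inferInstanceAs (IsOpenImmersion O.ι))
  have hm : Set.range m = Set.range φ := by
    rw [← hrange]
    refine Set.Subset.antisymm ?_ fun y hy => ?_
    · rintro _ ⟨z, rfl⟩
      show pullback.fst z₀ c (m z) ∈ (O : Set Z₀)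
      rw [← Scheme.Hom.comp_apply, sqm.w]
      exact (pullback.fst (O.ι ≫ z₀) c z).2
    · obtain ⟨z, hz, -⟩ := Scheme.exists_preimage_of_isPullback sqm y
        (⟨pullback.fst z₀ c y, hy⟩ : O.toScheme) rfl
      exact ⟨z, hz⟩
  let φ₁ := IsOpenImmersion.isoOfRangeEq φ m hm.symm
  have hφ₁ : φ₁.hom ≫ m = φ := IsOpenImmersion.isoOfRangeEq_hom_fac _ _ _
  refine ⟨_, O.ι ≫ z₀, u₁, φ₁.hom, by rw [reassoc_of% hu₁, hu₀],
    by rw [← cancel_mono O.ι, Category.assoc, Category.assoc, hu₁, hinv], inferInstance, ?_, ?_⟩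
  · rw [← cancel_mono O.ι, Category.assoc, Category.assoc, Category.assoc, ← sqm.w,
      reassoc_of% hφ₁, hφ1, hu₁]
  · rw [show pullback.snd (O.ι ≫ z₀) c = m ≫ pullback.snd z₀ c from
      ((pullback.lift_snd _ _ _).trans (Category.comp_id _)).symm, reassoc_of% hφ₁, hφ2]

end Groth.Agent.H13Desc.Eff
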