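import Groth.Agent.H13Desc.Eff.Chart
import Groth.Agent.H13Desc.Eff.QAff
import Mathlib.AlgebraicGeometry.Morphisms.LocalIso
import Mathlib.CategoryTheory.EffectiveEpi.Comp

/-!
Charts of a descent datum over affine opens, when the pulled back pieces are quasi-affine.
-/

set_option backward.isDefEq.respectTransparency false
set_option backward.isDefEq.respectTransparency.types false
set_option linter.style.haveILetI false
set_option linter.unusedSectionVars false

universe u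

open CategoryTheory CategoryTheory.Limits AlgebraicGeometry
open Desc

namespace Groth.Agent.H13Desc.Eff

theorem isPullback_postcomp_mono {C : Type*} [Category C] {P X Y Z W : C} {fst : P ⟶ X} {snd : P ⟶ Y}
    {f : X ⟶ Z} {g : Y ⟶ Z} (j : Z ⟶ W) [Mono j] (sq : IsPullback fst snd f g) :
    IsPullback fst snd (f ≫ j) (g ≫ j) :=
  ⟨⟨by rw [reassoc_of% sq.w]⟩,
    ⟨PullbackCone.IsLimit.mk _
      (fun s => sq.lift s.fst s.snd ((cancel_mono j).mp (by simpa using s.condition)))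
      (fun s => sq.lift_fst _ _ _) (fun s => sq.lift_snd _ _ _)
      fun s m h1 h2 => sq.hom_ext (by simp [h1]) (by simp [h2])⟩⟩

variable {X S : Scheme.{u}} {p : X ⟶ S}

/-- The value of the gluing bijection only depends on the values. -/
theorem phi_congr' (D : SchDD p) {T : Scheme.{u}} {x₀ x₀' x₁ x₁' : T ⟶ X} (h₀ : x₀ = x₀') (h₁ : x₁ = x₁')
    (h : x₀ ≫ p = x₁ ≫ p) (h' : x₀' ≫ p = x₁' ≫ p) (v : Lifts D.obj x₀) (v' : Lifts D.obj x₀')
    (hv : v.1 = v'.1) : (D.φ x₀ x₁ h v).1 = (D.φ x₀' x₁' h' v').1 := by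
  subst h₀ h₁
  rw [Subtype.ext hv]

theorem phi_self' (D : SchDD p) {T : Scheme.{u}} {x₀ x₁ : T ⟶ X} (e : x₀ = x₁)
    (h : x₀ ≫ p = x₁ ≫ p) (v : Lifts D.obj x₀) : (D.φ x₀ x₁ h v).1 = v.1 := by
  subst e
  rw [D.φ_self]

/-- A descent datum whose pullback to an affine scheme covering the preimage of an affine open is quasi-affine
is effective over this open. -/
theorem exists_chart_of_affine [Surjective p] [Flat p] [QuasiCompact p] (D : SchDD p) {V : S.Opens}
    (hV : IsAffineOpen V) {W : Scheme.{u}} [IsAffine W] (π : W ⟶ X) [Flat π] [LocallyOfFinitePresentation π]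
    (c : W ⟶ V.toScheme) [Flat c] [Surjective c] (hc : π ≫ p = c ≫ V.ι)
    (hπ : ∀ x : X, p x ∈ V → x ∈ Set.range π) [(pullback D.obj.hom π).IsQuasiAffine] :
    ∃ C : Chart D, (D.obj.hom ≫ p) ⁻¹ᵁ V ≤ C.O := by
  have : IsAffine V.toScheme := hV
  let U := pullback D.obj.hom π
  let A : U ⟶ D.obj.left := pullback.fst _ _
  let wU : U ⟶ W := pullback.snd _ _
  let uu : U ⟶ V.toScheme := wU ≫ c
  let R := pullback uu c
  let s : R ⟶ U := pullback.fst _ _
  let cW : R ⟶ W := pullback.snd _ _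
  have hR : (s ≫ wU ≫ π) ≫ p = (cW ≫ π) ≫ p := by
    simp only [Category.assoc, hc]
    rw [← Category.assoc wU c, ← Category.assoc s, ← Category.assoc cW c]
    exact congrArg (· ≫ V.ι) pullback.condition
  let vR : Lifts D.obj (s ≫ wU ≫ π) :=
    ⟨s ≫ A, by rw [Category.assoc]; exact congrArg (s ≫ ·) pullback.condition⟩
  let t : R ⟶ U := pullback.lift (D.φ _ _ hR vR).1 cW (D.φ _ _ hR vR).2
  have htw : t ≫ wU = cW := pullback.lift_snd _ _ _
  have htA : t ≫ A = (D.φ _ _ hR vR).1 := pullback.lift_fst _ _ _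
  -- points of `U` above `T`, transported
  have hwc : ∀ {T : Scheme.{u}} (a : T ⟶ U), (a ≫ wU) ≫ π = a ≫ A ≫ D.obj.hom := fun a => by
    rw [Category.assoc]; exact congrArg (a ≫ ·) pullback.condition.symm
  have tA : ∀ {T : Scheme.{u}} (g : T ⟶ R) (h : ((g ≫ s ≫ wU) ≫ π) ≫ p = ((g ≫ cW) ≫ π) ≫ p)
      (v : Lifts D.obj ((g ≫ s ≫ wU) ≫ π)), v.1 = g ≫ s ≫ A → g ≫ t ≫ A = (D.φ _ _ h v).1 := by
    intro T g h v hv
    rw [htA]
    have h' : (g ≫ s ≫ wU ≫ π) ≫ p = (g ≫ cW ≫ π) ≫ p := by simpa [Category.assoc] using h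
    refine (D.φ_natural g _ _ hR h' vR ⟨v.1, by simpa [Category.assoc] using v.2⟩ hv).symm.trans ?_
    exact phi_congr' D (by simp) (by simp) h' h _ v rfl
  have hst : s ≫ uu = t ≫ uu := by
    show s ≫ uu = t ≫ wU ≫ c
    rw [reassoc_of% htw]
    exact pullback.condition
  let R' := pullback (s ≫ uu) c
  let cR : R' ⟶ R := pullback.fst _ _
  let wR : R' ⟶ W := pullback.snd _ _
  let p₁ : R' ⟶ R := pullback.lift (cR ≫ s) wR (by rw [Category.assoc]; exact pullback.condition)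
  let p₂ : R' ⟶ R := pullback.lift (cR ≫ t) wR (by
    rw [Category.assoc, ← hst]; exact pullback.condition)
  have hp₁s : p₁ ≫ s = cR ≫ s := pullback.lift_fst _ _ _
  have hp₁c : p₁ ≫ cW = wR := pullback.lift_snd _ _ _
  have hp₂s : p₂ ≫ s = cR ≫ t := pullback.lift_fst _ _ _
  have hp₂c : p₂ ≫ cW = wR := pullback.lift_snd _ _ _
  have hp : p₁ ≫ t = p₂ ≫ t := by
    refine pullback.hom_ext ?_ ?_
    · simp only [Category.assoc]
      show p₁ ≫ t ≫ A = p₂ ≫ t ≫ A
      have hb : ∀ {b : R' ⟶ R}, ((b ≫ s ≫ wU) ≫ π) ≫ p = ((b ≫ cW) ≫ π) ≫ p := fun {b} => by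
        simpa [Category.assoc] using congrArg (b ≫ ·) hR
      have hv : ∀ {b : R' ⟶ R}, (b ≫ s ≫ A) ≫ D.obj.hom = (b ≫ s ≫ wU) ≫ π := fun {b} => by
        simpa [Category.assoc] using (hwc (b ≫ s)).symm
      rw [tA p₁ hb ⟨p₁ ≫ s ≫ A, hv⟩ rfl, tA p₂ hb ⟨p₂ ≫ s ≫ A, hv⟩ rfl]
      have h01 : ((cR ≫ s ≫ wU) ≫ π) ≫ p = ((cR ≫ cW) ≫ π) ≫ p := hb
      have e1 : cR ≫ t ≫ A = (D.φ _ _ h01 ⟨cR ≫ s ≫ A, hv⟩).1 := tA cR hb _ rfl
      have h12 : ((cR ≫ cW) ≫ π) ≫ p = (wR ≫ π) ≫ p := by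
        rw [← h01, ← hp₁c, ← hb (b := p₁), reassoc_of% hp₁s]
      refine Eq.trans ?_ (phi_congr' D (x₀ := (cR ≫ cW) ≫ π) (x₁ := wR ≫ π)
        (by rw [← htw, reassoc_of% hp₂s, Category.assoc]) (by rw [hp₂c]) h12 _
        (D.φ _ _ h01 ⟨cR ≫ s ≫ A, hv⟩) _ (by rw [← e1]; exact ((reassoc_of% hp₂s) A).symm))
      rw [D.φ_comp]
      exact phi_congr' D (by rw [reassoc_of% hp₁s, Category.assoc]) (by rw [hp₁c]) _ _ _ _
        ((reassoc_of% hp₁s) A)
    · show (p₁ ≫ t) ≫ wU = (p₂ ≫ t) ≫ wU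
      rw [Category.assoc, Category.assoc, htw, hp₁c, hp₂c]
  let σ : U ⟶ R := pullback.lift (𝟙 U) wU (Category.id_comp _)
  have hσs : σ ≫ s = 𝟙 U := pullback.lift_fst _ _ _
  have hσc : σ ≫ cW = wU := pullback.lift_snd _ _ _
  have hσ : σ ≫ t = 𝟙 U := by
    refine pullback.hom_ext ?_ ?_
    · show (σ ≫ t) ≫ A = 𝟙 U ≫ A
      rw [Category.assoc, tA σ (by rw [reassoc_of% hσs, hσc]) ⟨A, by
        rw [reassoc_of% hσs]; exact pullback.condition⟩ ((reassoc_of% hσs) A).symm,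
        phi_self' D (by rw [reassoc_of% hσs, hσc]), Category.id_comp]
    · show (σ ≫ t) ≫ wU = 𝟙 U ≫ wU
      rw [Category.assoc, htw, hσc, Category.id_comp]
  have : IsSplitEpi t := ⟨⟨⟨σ, hσ⟩⟩⟩
  -- transport depends only on the source point and the target in `W`
  have trans_mv : ∀ {T : Scheme.{u}} (g g' : T ⟶ R), g' ≫ s = g ≫ t →
      ∀ g'' : T ⟶ R, g'' ≫ s = g ≫ s → g'' ≫ cW = g' ≫ cW → g' ≫ t = g'' ≫ t := by
    intro T g g' h1 g'' h2 h3
    let m : T ⟶ R' := pullback.lift g (g' ≫ cW) (by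
      rw [hst, ← Category.assoc, ← h1, Category.assoc, Category.assoc]
      exact congrArg (g' ≫ ·) pullback.condition)
    have e2 : m ≫ p₂ = g' := pullback.hom_ext
      (by show (m ≫ p₂) ≫ s = g' ≫ s; rw [Category.assoc, hp₂s, pullback.lift_fst_assoc, h1])
      (by show (m ≫ p₂) ≫ cW = g' ≫ cW; rw [Category.assoc, hp₂c, pullback.lift_snd])
    have e1 : m ≫ p₁ = g'' := pullback.hom_ext
      (by show (m ≫ p₁) ≫ s = g'' ≫ s; rw [Category.assoc, hp₁s, pullback.lift_fst_assoc, h2])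
      (by show (m ≫ p₁) ≫ cW = g'' ≫ cW; rw [Category.assoc, hp₁c, pullback.lift_snd, h3])
    rw [← e2, ← e1, Category.assoc, Category.assoc, hp]
  have ker : IsPullback p₁ p₂ t t := by
    refine ⟨⟨hp⟩, ⟨PullbackCone.IsLimit.mk _ (fun q => pullback.lift
      (pullback.lift (q.fst ≫ s) (q.snd ≫ s ≫ wU) ?_) (q.fst ≫ cW) ?_) (fun q => ?_) (fun q => ?_) ?_⟩⟩
    · have h1 := congrArg (· ≫ uu) q.condition
      simp only [Category.assoc, ← hst] at h1 ⊢
      exact h1
    · rw [← Category.assoc, pullback.lift_fst, Category.assoc, Category.assoc]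
      exact congrArg (q.fst ≫ ·) pullback.condition
    · refine pullback.hom_ext ?_ ?_
      · show (_ ≫ p₁) ≫ s = q.fst ≫ s
        rw [Category.assoc, hp₁s, pullback.lift_fst_assoc, pullback.lift_fst]
      · show (_ ≫ p₁) ≫ cW = q.fst ≫ cW
        rw [Category.assoc, hp₁c, pullback.lift_snd]
    · refine pullback.hom_ext ?_ ?_
      · show (_ ≫ p₂) ≫ s = q.snd ≫ s
        rw [Category.assoc, hp₂s, pullback.lift_fst_assoc]
        let g : q.pt ⟶ R := pullback.lift (q.fst ≫ s) (q.snd ≫ s ≫ wU) (by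
          have h1 := congrArg (· ≫ uu) q.condition
          simp only [Category.assoc, ← hst] at h1 ⊢
          exact h1)
        show g ≫ t = _
        let g' : q.pt ⟶ R := pullback.lift (q.snd ≫ t) (q.snd ≫ s ≫ wU) (by
          rw [Category.assoc, ← hst]
          simp only [Category.assoc]
          rfl)
        have e1 : g' ≫ t = g ≫ t := trans_mv q.fst g'
          ((pullback.lift_fst _ _ _).trans q.condition.symm) g (pullback.lift_fst _ _ _)
          ((pullback.lift_snd _ _ _).trans (pullback.lift_snd _ _ _).symm)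
        have e2 : g' ≫ t = (q.snd ≫ s ≫ σ) ≫ t := trans_mv q.snd g' (pullback.lift_fst _ _ _)
          (q.snd ≫ s ≫ σ) (by simp only [Category.assoc, hσs, Category.comp_id])
          (by simp only [Category.assoc, hσc]; exact (pullback.lift_snd _ _ _).symm)
        rw [← e1, e2, Category.assoc, Category.assoc, hσ, Category.comp_id]
      · show (_ ≫ p₂) ≫ cW = q.snd ≫ cW
        rw [Category.assoc, hp₂c, pullback.lift_snd, ← htw, ← Category.assoc, ← Category.assoc,
          q.condition]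
    · intro q m h1 h2
      refine pullback.hom_ext (pullback.hom_ext ?_ ?_) ?_
      · rw [pullback.lift_fst, pullback.lift_fst]
        show (m ≫ cR) ≫ s = _
        rw [← h1, Category.assoc, Category.assoc, hp₁s]
      · rw [pullback.lift_fst, pullback.lift_snd]
        show (m ≫ cR) ≫ cW = _
        rw [← h2]
        simp only [Category.assoc, reassoc_of% hp₂s, htw]
      · rw [pullback.lift_snd]
        show m ≫ wR = _
        rw [← h1, Category.assoc, hp₁c]
  have : U.IsQuasiAffine := inferInstanceAs (pullback D.obj.hom π).IsQuasiAffine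
  have : IsAffineHom s := MorphismProperty.pullback_fst uu c (inferInstanceAs (IsAffineHom c))
  have : R.IsQuasiAffine := Scheme.IsQuasiAffine.of_isAffineHom s
  have : IsAffineHom cR := MorphismProperty.pullback_fst (s ≫ uu) c (inferInstanceAs (IsAffineHom c))
  have : R'.IsQuasiAffine := Scheme.IsQuasiAffine.of_isAffineHom cR
  have : Surjective t := ⟨fun u => ⟨σ u, by rw [← Scheme.Hom.comp_apply, hσ]; rfl⟩⟩
  obtain ⟨Z₀, z₀, u₀, φ, -, hinv, hφ, hφ1, hφ2⟩ :=
    exists_qaff_quotient c uu s t hst (IsPullback.of_hasPullback uu c)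
      (IsPullback.of_hasPullback (s ≫ uu) c) p₁ p₂ hp₁s hp₁c hp₂s hp₂c t ker
  have hφfst : φ ≫ pullback.fst z₀ c = u₀ := by
    have := congrArg (σ ≫ ·) hφ1
    simp only [reassoc_of% hσ] at this
    exact this.trans ((reassoc_of% hσs) u₀)
  have hφsnd : φ ≫ pullback.snd z₀ c = wU := by
    have := congrArg (σ ≫ ·) hφ2
    simp only [reassoc_of% hσ] at this
    exact this.trans hσc
  -- points with the same image in the quotient are related
  have rel : ∀ {T : Scheme.{u}} (a₀ a₁ : T ⟶ U) (h0 : a₀ ≫ u₀ = a₁ ≫ u₀)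
      (h : ((a₀ ≫ wU) ≫ π) ≫ p = ((a₁ ≫ wU) ≫ π) ≫ p),
      a₁ ≫ A = (D.φ _ _ h ⟨a₀ ≫ A, by rw [Category.assoc]; exact (hwc a₀).symm⟩).1 := by
    intro T a₀ a₁ h0 h
    let g : T ⟶ R := pullback.lift a₀ (a₁ ≫ wU) (by
      rw [← cancel_mono V.ι]
      simp only [uu, Category.assoc] at h ⊢
      rwa [hc] at h)
    have e : g ≫ t = a₁ := by
      rw [← cancel_mono φ]
      refine pullback.hom_ext ?_ ?_
      · rw [Category.assoc, Category.assoc, hφfst, Category.assoc, hφfst, ← h0]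
        have := congrArg (g ≫ ·) hinv
        simp only [g, pullback.lift_fst_assoc, s] at this
        exact this.symm
      · rw [Category.assoc, Category.assoc, hφsnd, Category.assoc, hφsnd, htw]
        exact pullback.lift_snd _ _ _
    conv_lhs => rw [← e, Category.assoc]
    rw [tA g (by simpa [g, s, cW] using h) ⟨a₀ ≫ A, by
      simpa [g, s] using (hwc a₀).symm⟩ (by simp [g, s])]
    exact phi_congr' D (by simp [g, s]) (by simp [g, cW]) _ _ _ _ rfl
  let Z : Over S := Over.mk (z₀ ≫ V.ι)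
  have hZp : (pullback.snd z₀ c ≫ π) ≫ p = pullback.fst z₀ c ≫ Z.hom := by
    show _ = pullback.fst z₀ c ≫ z₀ ≫ V.ι
    rw [Category.assoc, hc, pullback.condition_assoc]
  let π' : pullback z₀ c ⟶ pullback p Z.hom :=
    pullback.lift (pullback.snd z₀ c ≫ π) (pullback.fst z₀ c) hZp
  have sqπ : IsPullback π' (pullback.snd z₀ c) (pullback.fst p Z.hom) π := by
    refine IsPullback.of_right ?_ (pullback.lift_fst _ _ _) (IsPullback.of_hasPullback p Z.hom).flip
    rw [pullback.lift_snd, hc]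
    exact isPullback_postcomp_mono V.ι (IsPullback.of_hasPullback z₀ c)
  have : Flat π' := MorphismProperty.of_isPullback sqπ.flip (inferInstanceAs (Flat π))
  have : LocallyOfFinitePresentation π' :=
    MorphismProperty.of_isPullback sqπ.flip (inferInstanceAs (LocallyOfFinitePresentation π))
  have : Surjective π' := ⟨fun y => by
    obtain ⟨w, hw⟩ := hπ (pullback.fst p Z.hom y) (by
      rw [← Scheme.Hom.comp_apply, pullback.condition]
      exact (z₀ (pullback.snd p Z.hom y)).2)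
    obtain ⟨z, hz, -⟩ := Scheme.exists_preimage_of_isPullback sqπ y w hw.symm
    exact ⟨z, hz⟩⟩
  let ψ := inv φ
  have hψfst : ψ ≫ u₀ = pullback.fst z₀ c := by rw [← hφfst]; simp [ψ]
  have hψsnd : ψ ≫ wU = pullback.snd z₀ c := by rw [← hφsnd]; simp [ψ]
  have hker : ∀ {T : Scheme.{u}} (g₁ g₂ : T ⟶ pullback z₀ c), g₁ ≫ π' = g₂ ≫ π' →
      g₁ ≫ ψ ≫ A = g₂ ≫ ψ ≫ A := by
    intro T g₁ g₂ e
    have e1 := congrArg (· ≫ pullback.snd p Z.hom) e
    have e2 := congrArg (· ≫ pullback.fst p Z.hom) e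
    simp only [π', Category.assoc, pullback.lift_fst, pullback.lift_snd] at e1 e2
    have hh : ((g₁ ≫ ψ) ≫ wU) ≫ π = ((g₂ ≫ ψ) ≫ wU) ≫ π := by
      simp only [Category.assoc, reassoc_of% hψsnd]
      exact e2
    have h3 := rel (g₁ ≫ ψ) (g₂ ≫ ψ) (by simp only [Category.assoc, hψfst, e1]) (congrArg (· ≫ p) hh)
    rw [phi_self' D hh] at h3
    simpa using h3.symm
  let c₀ : pullback p Z.hom ⟶ D.obj.left := EffectiveEpi.desc π' (ψ ≫ A) fun g₁ g₂ e => hker g₁ g₂ e
  have hc₀ : π' ≫ c₀ = ψ ≫ A := EffectiveEpi.fac _ _ _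
  have hc₀w : c₀ ≫ D.obj.hom = pullback.fst p Z.hom := by
    rw [← cancel_epi π', reassoc_of% hc₀, show A ≫ D.obj.hom = wU ≫ π from pullback.condition,
      reassoc_of% hψsnd, pullback.lift_fst]
  let C₀ : (toDD p).obj Z ⟶ D := ⟨Over.homMk c₀ hc₀w, fun T x₀ x₁ h v w hw => by
    let v' : Lifts ((toDD p).obj Z).obj x₁ := ((toDD p).obj Z).φ x₀ x₁ h v
    show _ = v'.1 ≫ c₀
    let g := pullback.fst v.1 π'
    let b₀ := pullback.snd v.1 π'
    have hb₀ : g ≫ v.1 = b₀ ≫ π' := pullback.condition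
    let k := pullback.fst (g ≫ v'.1) π'
    let b₁ := pullback.snd (g ≫ v'.1) π'
    have hb₁ : k ≫ g ≫ v'.1 = b₁ ≫ π' := pullback.condition
    have : Epi g := Flat.epi_of_flat_of_surjective _
    have : Epi k := Flat.epi_of_flat_of_surjective _
    rw [← cancel_epi g, ← cancel_epi k]
    have hv0 : v.1 ≫ pullback.fst p Z.hom = x₀ := v.2
    have hv1 : v'.1 ≫ pullback.fst p Z.hom = x₁ := v'.2
    have hv2 : v'.1 ≫ pullback.snd p Z.hom = v.1 ≫ pullback.snd p Z.hom := pullback.lift_snd _ _ _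
    have q0 : ((k ≫ b₀ ≫ ψ) ≫ wU) ≫ π = k ≫ g ≫ x₀ := by
      have := congrArg (k ≫ · ≫ pullback.fst p Z.hom) hb₀
      simp only [Category.assoc, π', pullback.lift_fst, hv0] at this
      simp only [Category.assoc, reassoc_of% hψsnd]
      exact this.symm
    have q1 : ((b₁ ≫ ψ) ≫ wU) ≫ π = k ≫ g ≫ x₁ := by
      have := congrArg (· ≫ pullback.fst p Z.hom) hb₁
      simp only [Category.assoc, π', pullback.lift_fst, hv1] at this
      simp only [Category.assoc, reassoc_of% hψsnd]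
      exact this.symm
    have q2 : (k ≫ b₀ ≫ ψ) ≫ u₀ = (b₁ ≫ ψ) ≫ u₀ := by
      have h0 := congrArg (k ≫ · ≫ pullback.snd p Z.hom) hb₀
      have h1 := congrArg (· ≫ pullback.snd p Z.hom) hb₁
      simp only [Category.assoc, π', pullback.lift_snd, hv2] at h0 h1
      simp only [Category.assoc, hψfst]
      exact h0.symm.trans h1
    have hh : ((k ≫ g) ≫ x₀) ≫ p = ((k ≫ g) ≫ x₁) ≫ p := by
      simp only [Category.assoc, h]
    have h' : (((k ≫ b₀ ≫ ψ) ≫ wU) ≫ π) ≫ p = (((b₁ ≫ ψ) ≫ wU) ≫ π) ≫ p := by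
      rw [q0, q1, ← Category.assoc k g, ← Category.assoc k g, hh]
    have h3 := rel _ _ q2 h'
    have hw' : (k ≫ g ≫ w.1) = (k ≫ b₀ ≫ ψ) ≫ A := by
      rw [show w.1 = v.1 ≫ c₀ from hw, reassoc_of% hb₀, hc₀]
      simp only [Category.assoc]
    refine Eq.trans (Category.assoc k g _).symm ((D.φ_natural (k ≫ g) x₀ x₁ h hh w
      ⟨k ≫ g ≫ w.1, by simp only [Category.assoc, w.2]⟩ (Category.assoc _ _ _).symm).symm.trans ?_)
    refine Eq.trans ?_ (show (b₁ ≫ ψ) ≫ A = k ≫ g ≫ v'.1 ≫ c₀ by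
      rw [reassoc_of% hb₁, hc₀, Category.assoc])
    rw [h3]
    exact phi_congr' D (by rw [q0, Category.assoc]) (by rw [q1, Category.assoc]) _ _ _ _ hw'⟩
  let O := (D.obj.hom ≫ p) ⁻¹ᵁ V
  have hA : Set.range A ⊆ (O : Set D.obj.left) := by
    rintro _ ⟨u, rfl⟩
    show (A ≫ D.obj.hom ≫ p) u ∈ V
    rw [← Category.assoc, show A ≫ D.obj.hom = wU ≫ π from pullback.condition, Category.assoc, hc]
    exact (c (wU u)).2
  have hcO : Set.range c₀ ⊆ (O : Set D.obj.left) := by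
    rintro _ ⟨y, rfl⟩
    show (c₀ ≫ D.obj.hom ≫ p) y ∈ V
    rw [reassoc_of% hc₀w, pullback.condition]
    exact (z₀ (pullback.snd p Z.hom y)).2
  let A₁ : U ⟶ O.toScheme := IsOpenImmersion.lift O.ι A (by rwa [Scheme.Opens.range_ι])
  have hA₁ : A₁ ≫ O.ι = A := IsOpenImmersion.lift_fac _ _ _
  let c₁ : pullback p Z.hom ⟶ O.toScheme := IsOpenImmersion.lift O.ι c₀ (by rwa [Scheme.Opens.range_ι])
  have hc₁ : c₁ ≫ O.ι = c₀ := IsOpenImmersion.lift_fac _ _ _
  have sqA : IsPullback A₁ wU (O.ι ≫ D.obj.hom) π :=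
    ⟨⟨by rw [reassoc_of% hA₁]; exact pullback.condition⟩,
      ⟨PullbackCone.IsLimit.mk _ (fun q => pullback.lift (q.fst ≫ O.ι) q.snd (by simpa using q.condition))
        (fun q => by rw [← cancel_mono O.ι, Category.assoc, hA₁]; exact pullback.lift_fst _ _ _)
        (fun q => pullback.lift_snd _ _ _)
        fun q m h1 h2 => pullback.hom_ext (by rw [pullback.lift_fst, ← h1, Category.assoc, hA₁])
          (by rw [pullback.lift_snd, ← h2])⟩⟩
  have : Flat A₁ := MorphismProperty.of_isPullback sqA.flip (inferInstanceAs (Flat π))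
  have : LocallyOfFinitePresentation A₁ :=
    MorphismProperty.of_isPullback sqA.flip (inferInstanceAs (LocallyOfFinitePresentation π))
  have : Surjective A₁ := ⟨fun y => by
    obtain ⟨w, hw⟩ := hπ ((O.ι ≫ D.obj.hom) y) y.2
    obtain ⟨z, hz, -⟩ := Scheme.exists_preimage_of_isPullback sqA y w hw.symm
    exact ⟨z, hz⟩⟩
  have hA₁π : ∀ {T : Scheme.{u}} (g₁ g₂ : T ⟶ U), g₁ ≫ A₁ = g₂ ≫ A₁ → g₁ ≫ φ ≫ π' = g₂ ≫ φ ≫ π' := by
    intro T g₁ g₂ e
    have eA : g₁ ≫ A = g₂ ≫ A := by rw [← hA₁, reassoc_of% e]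
    have ex : (g₁ ≫ wU) ≫ π = (g₂ ≫ wU) ≫ π := by rw [hwc, hwc, reassoc_of% eA]
    refine pullback.hom_ext ?_ ?_
    · simp only [Category.assoc, π', pullback.lift_fst, reassoc_of% hφsnd] at ex ⊢
      exact ex
    · simp only [Category.assoc, π', pullback.lift_snd, hφfst]
      let g : T ⟶ R := pullback.lift g₁ (g₂ ≫ wU) (by
        rw [← cancel_mono V.ι]
        simp only [uu, Category.assoc, ← hc]
        simpa using congrArg (· ≫ p) ex)
      have : g ≫ t = g₂ := by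
        refine pullback.hom_ext ?_ ?_
        · show (g ≫ t) ≫ A = g₂ ≫ A
          rw [Category.assoc, tA g (by simpa [g, s, cW] using congrArg (· ≫ p) ex)
            ⟨g₁ ≫ A, by simpa [g, s] using (hwc g₁).symm⟩ (by simp [g, s]),
            phi_self' D (by simpa [g, s, cW] using ex)]
          exact eA
        · show (g ≫ t) ≫ wU = g₂ ≫ wU
          rw [Category.assoc, htw]; exact pullback.lift_snd _ _ _
      rw [← this, Category.assoc, ← hinv, pullback.lift_fst_assoc]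
  let d : O.toScheme ⟶ pullback p Z.hom := EffectiveEpi.desc A₁ (φ ≫ π') fun g₁ g₂ e => hA₁π g₁ g₂ e
  have hd : A₁ ≫ d = φ ≫ π' := EffectiveEpi.fac _ _ _
  have hπc₁ : π' ≫ c₁ = ψ ≫ A₁ := by
    rw [← cancel_mono O.ι, Category.assoc, hc₁, hc₀, Category.assoc, hA₁]
  have : IsIso c₁ := by
    refine ⟨d, ?_, ?_⟩
    · rw [← cancel_epi π', reassoc_of% hπc₁, hd, Category.comp_id]
      simp [ψ]
    · rw [← cancel_epi A₁, reassoc_of% hd, hπc₁, Category.comp_id]
      simp [ψ]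
  have : IsOpenImmersion c₀ := by rw [← hc₁]; infer_instance
  refine ⟨⟨Z, C₀, this⟩, fun x hx => ?_⟩
  show x ∈ Set.range c₀
  obtain ⟨y, hy⟩ := (inferInstance : Surjective c₁).surj ⟨x, hx⟩
  exact ⟨y, by rw [← hc₁, Scheme.Hom.comp_apply, hy]; rfl⟩

end Groth.Agent.H13Desc.Eff

namespace Groth.Agent.H13Desc.Eff

/-- An affine scheme with a local isomorphism onto the preimage of an affine open. -/
theorem exists_affine_cover_preimage {X S : Scheme.{u}} (p : X ⟶ S) [Surjective p] [Flat p] [QuasiCompact p]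
    {V : S.Opens} (hV : IsAffineOpen V) :
    ∃ (W : Scheme.{u}) (_ : IsAffine W) (σ : W ⟶ (p ⁻¹ᵁ V).toScheme), Surjective σ ∧ IsLocalIso σ := by
  have : IsAffine V.toScheme := hV
  have : CompactSpace (p ⁻¹ᵁ V).toScheme :=
    isCompact_iff_compactSpace.mp (QuasiCompact.isCompact_preimage (f := p) _ V.2 hV.isCompact)
  obtain ⟨W, σ, h1, h2, h3⟩ :=
    Scheme.exists_hom_isAffine_of_isZariskiLocalAtSource (P := @IsLocalIso) (p ⁻¹ᵁ V).toScheme
  exact ⟨W, h3, σ, h1, h2⟩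

/-- A descent datum is effective over an affine open as soon as it pulls back to quasi-affine schemes. -/
theorem exists_chart_of_affine_over {X S : Scheme.{u}} {p : X ⟶ S} [Surjective p] [Flat p] [QuasiCompact p]
    (D : SchDD p) {V : S.Opens} (hV : IsAffineOpen V)
    (hD : ∀ {W : Scheme.{u}} (π : W ⟶ X), IsAffine W → (pullback D.obj.hom π).IsQuasiAffine) :
    ∃ C : Chart D, (D.obj.hom ≫ p) ⁻¹ᵁ V ≤ C.O := by
  obtain ⟨W, hW, σ, hσs, hσl⟩ := exists_affine_cover_preimage p hV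
  have : Flat σ := IsLocalIso.le_of_isZariskiLocalAtSource @Flat _ _ σ hσl
  have : MorphismProperty.ContainsIdentities (@LocallyOfFinitePresentation : MorphismProperty Scheme.{u}) :=
    ⟨fun _ => inferInstance⟩
  have : Surjective (p ∣_ V) := IsZariskiLocalAtTarget.restrict ‹Surjective p› V
  have : LocallyOfFinitePresentation σ :=
    IsLocalIso.le_of_isZariskiLocalAtSource @LocallyOfFinitePresentation _ _ σ hσl
  have : (pullback D.obj.hom (σ ≫ (p ⁻¹ᵁ V).ι)).IsQuasiAffine := hD _ hW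
  refine exists_chart_of_affine D hV (σ ≫ (p ⁻¹ᵁ V).ι) (σ ≫ p ∣_ V)
    (by simp only [Category.assoc, morphismRestrict_ι]) fun x hx => ?_
  obtain ⟨w, hw⟩ := σ.surjective (⟨x, hx⟩ : (p ⁻¹ᵁ V).toScheme)
  exact ⟨w, (Scheme.Hom.comp_apply σ _ w).trans (congrArg _ hw)⟩

end Groth.Agent.H13Desc.Eff
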