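import Groth.Agent.H13Desc.Eff.Fam
import Groth.Agent.H13Desc.Eff.Affine
import Groth.Agent.H13Desc.DescFamApps
import Groth.Agent.S0083
import Mathlib.AlgebraicGeometry.IdealSheaf.Functorial

/-!
Descent of closed subschemes along fpqc families.
-/

set_option backward.isDefEq.respectTransparency false
set_option backward.isDefEq.respectTransparency.types false
set_option linter.style.haveILetI false
set_option linter.unusedSectionVars false

universe u

open CategoryTheory CategoryTheory.Limits AlgebraicGeometry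
open Desc

namespace Groth.Agent.H13Desc.Eff

variable {ι : Type u} {S : Scheme.{u}} {X : ι → Scheme.{u}} {f : ∀ i, X i ⟶ S}

theorem lifts_subsingleton {Y : Scheme.{u}} (A : Over Y) [Mono A.hom] {T : Scheme.{u}} (x : T ⟶ Y)
    (a b : Lifts A x) : a = b :=
  Subtype.ext ((cancel_mono A.hom).mp (a.2.trans b.2.symm))

/-- A point factors through a closed subscheme iff the ideal pulls back to zero. -/
theorem nonempty_lifts_iff {Y : Scheme.{u}} (I : Y.IdealSheafData) {T : Scheme.{u}} (x : T ⟶ Y) :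
    Nonempty (Lifts (Over.mk I.subschemeι) x) ↔ I.comap x = ⊥ := by
  rw [eq_bot_iff, ← Scheme.IdealSheafData.le_map_iff_comap_le, Scheme.IdealSheafData.map_bot]
  constructor
  · rintro ⟨a, ha⟩
    exact (I.ker_subschemeι.symm.le).trans ((Scheme.Hom.le_ker_comp a I.subschemeι).trans (by rw [show a ≫ I.subschemeι = x from ha]))
  · intro h
    exact ⟨⟨IsClosedImmersion.lift I.subschemeι x (by rw [Scheme.IdealSheafData.ker_subschemeι]; exact h),
      IsClosedImmersion.lift_fac _ _ _⟩⟩

/-- The descent datum of a compatible family of closed subschemes. -/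
noncomputable def idealDD (I : ∀ i, (X i).IdealSheafData)
    (h : ∀ i j, (I i).comap (pullback.fst (f i) (f j)) = (I j).comap (pullback.snd (f i) (f j))) :
    SchDDFam f where
  obj i := Over.mk (I i).subschemeι
  φ T i j x₀ x₁ hx :=
    have key : (I i).comap x₀ = (I j).comap x₁ := by
      rw [← pullback.lift_fst (f := f i) (g := f j) x₀ x₁ hx, Scheme.IdealSheafData.comap_comp, h i j,
        ← Scheme.IdealSheafData.comap_comp, pullback.lift_snd]
    { toFun := fun v => ((nonempty_lifts_iff (I j) x₁).2 (key ▸ (nonempty_lifts_iff (I i) x₀).1 ⟨v⟩)).some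
      invFun := fun v => ((nonempty_lifts_iff (I i) x₀).2 (key.trans ((nonempty_lifts_iff (I j) x₁).1 ⟨v⟩))).some
      left_inv := fun v => @lifts_subsingleton _ _ (inferInstanceAs (Mono (I i).subschemeι)) _ _ _ _
      right_inv := fun v => @lifts_subsingleton _ _ (inferInstanceAs (Mono (I j).subschemeι)) _ _ _ _ }
  φ_natural T T' g i j x₀ x₁ hx y₀ y₁ hy₀ hy₁ h' v v' hv := by
    subst hy₁
    apply (cancel_mono (I j).subschemeι).mp
    refine (?_ : _ = g ≫ x₁).trans ?_
    · exact Subtype.property (α := T' ⟶ _) (p := fun a => a ≫ (I j).subschemeι = g ≫ x₁) _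
    · refine Eq.trans ?_ (Category.assoc _ _ _).symm
      exact congrArg (g ≫ ·) (Subtype.property (α := T ⟶ _) (p := fun a => a ≫ (I j).subschemeι = x₁) _).symm
  φ_self T i x v := @lifts_subsingleton _ _ (inferInstanceAs (Mono (I i).subschemeι)) _ _ _ _
  φ_comp T i j k x₀ x₁ x₂ h₀₁ h₁₂ v := @lifts_subsingleton _ _ (inferInstanceAs (Mono (I k).subschemeι)) _ _ _ _

theorem isEffective_closedImmersion (hf : Presieve.ofArrows X f ∈ Scheme.fpqcPrecoverage S) (D : SchDDFam f)
    (hD : ∀ i, IsClosedImmersion (D.obj i).hom) :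
    ∃ Z : Over S, IsClosedImmersion Z.hom ∧ Nonempty ((toDDFam f).obj Z ≅ D) := by
  have h2 : ∀ (m : ℕ) (Y V : Fin m → Scheme.{u}) (q : ∀ j, Y j ⟶ V j),
      (∀ j, IsClosedImmersion (q j)) → IsClosedImmersion (Limits.Sigma.map q) := by
    intro m Y V q hq
    refine (IsZariskiLocalAtTarget.iff_of_openCover (P := @IsClosedImmersion) (sigmaOpenCover V)).mpr fun k => ?_
    have : IsPullback (q k) (Sigma.ι Y k) (Sigma.ι V k) (Limits.Sigma.map q) := by
      refine IsOpenImmersion.isPullback _ _ _ _ (Limits.Sigma.ι_map q k) ?_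
      apply le_antisymm
      · rintro x ⟨y, hxy⟩
        obtain ⟨l, z, rfl⟩ := (sigmaOpenCover Y).exists_eq x
        rw [show (sigmaOpenCover Y).f l = Sigma.ι Y l from rfl, ← Scheme.Hom.comp_apply, Limits.Sigma.ι_map,
          Scheme.Hom.comp_apply] at hxy
        obtain ⟨rfl⟩ := (sigmaι_eq_iff V k l y (q l z)).mp hxy
        exact ⟨z, rfl⟩
      · rintro _ ⟨x, rfl⟩
        refine ⟨q k x, ?_⟩
        rw [← Scheme.Hom.comp_apply, ← Scheme.Hom.comp_apply, Limits.Sigma.ι_map]
    show IsClosedImmersion (pullback.snd (Limits.Sigma.map q) (Sigma.ι V k))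
    rw [← this.flip.isoPullback_inv_snd]
    exact (MorphismProperty.cancel_left_of_respectsIso @IsClosedImmersion _ _).mpr (hq k)
  have h3 : ∀ (X S : Scheme.{u}) (p : X ⟶ S), IsAffine X → IsAffine S → Flat p → Surjective p →
      ∀ D : Desc.SchDD p, IsClosedImmersion D.obj.hom → ∃ U : Over S, Nonempty ((Desc.toDD p).obj U ≅ D) := by
    intro X S p _ _ _ _ D hD
    refine isEffective_of_charts fun a => ?_
    obtain ⟨C, hC⟩ := exists_chart_of_affine_over D (isAffineOpen_top S) fun {W} π hW => by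
      have : IsAffine (pullback D.obj.hom π) := isAffine_of_isAffineHom (pullback.snd D.obj.hom π)
      infer_instance
    exact ⟨C, hC trivial⟩
  obtain ⟨Z, ⟨e⟩⟩ := isEffective_of_affine_case @IsClosedImmersion h2 h3 hf D hD
  refine ⟨Z, ?_, ⟨e⟩⟩
  have := Groth.Agent.S0083.result
  refine of_fpqc_target @IsClosedImmersion hf Z.hom fun i => ?_
  have hi : IsClosedImmersion (pullback.fst (f i) Z.hom) := by
    have w : (e.hom.hom i).left ≫ (D.obj i).hom = pullback.fst (f i) Z.hom := Over.w (e.hom.hom i)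
    have : IsIso (e.hom.hom i).left :=
      ⟨(e.inv.hom i).left, by rw [← Over.comp_left, ← SchDDFam.comp_hom, e.hom_inv_id]; rfl,
        by rw [← Over.comp_left, ← SchDDFam.comp_hom, e.inv_hom_id]; rfl⟩
    rw [← w]
    exact (MorphismProperty.cancel_left_of_respectsIso @IsClosedImmersion _ _).mpr (hD i)
  rw [← pullbackSymmetry_hom_comp_fst]
  exact (MorphismProperty.cancel_left_of_respectsIso @IsClosedImmersion _ _).mpr hi

/-- Isomorphisms of data with monomorphic structure maps only need isomorphisms of the components. -/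
noncomputable def ddFamIsoOfMono {D E : SchDDFam f} [∀ i, Mono (E.obj i).hom] (e : ∀ i, D.obj i ≅ E.obj i) :
    D ≅ E :=
  ddFamIso e fun T i j x₀ x₁ h v w hw =>
    congrArg Subtype.val (lifts_subsingleton (E.obj j) x₁ (E.φ x₀ x₁ h w)
      ⟨(D.φ x₀ x₁ h v).1 ≫ (e j).hom.left, by rw [Category.assoc, Over.w (e j).hom]; exact (D.φ x₀ x₁ h v).2⟩)

/-- Unique descent of closed subschemes. -/
theorem existsUnique_ideal (hf : Presieve.ofArrows X f ∈ Scheme.fpqcPrecoverage S)
    (I : ∀ i, (X i).IdealSheafData)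
    (h : ∀ i j, (I i).comap (pullback.fst (f i) (f j)) = (I j).comap (pullback.snd (f i) (f j))) :
    ∃! J : S.IdealSheafData, ∀ i, J.comap (f i) = I i := by
  obtain ⟨Z, hZ, ⟨e⟩⟩ := isEffective_closedImmersion hf (idealDD I h) fun i =>
    inferInstanceAs (IsClosedImmersion (I i).subschemeι)
  have : ∀ i, Mono ((idealDD I h).obj i).hom := fun i => inferInstanceAs (Mono (I i).subschemeι)
  have fiber : ∀ (J : S.IdealSheafData) (i : ι),
      (J.comap (f i) = I i) → Nonempty (((toDDFam f).obj (Over.mk J.subschemeι)).obj i ≅ (idealDD I h).obj i) := by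
    intro J i hJ
    let e₁ : ((toDDFam f).obj (Over.mk J.subschemeι)).obj i ≅ Over.mk (J.comap (f i)).subschemeι :=
      Over.isoMk (J.comapIso (f i)).symm (J.comapIso_inv_subschemeι (f i))
    exact ⟨e₁ ≪≫ eqToIso (by rw [hJ]; rfl)⟩
  refine ⟨Z.hom.ker, fun i => ?_, fun J hJ => ?_⟩
  · let ez : Z.left ≅ Z.hom.ker.subscheme := asIso Z.hom.toImage
    let k : pullback (f i) Z.hom ⟶ pullback (f i) Z.hom.ker.subschemeι :=
      pullback.map _ _ _ _ (𝟙 _) ez.hom (𝟙 _) (by simp) (by simp [ez])
    have hk : k ≫ pullback.fst (f i) Z.hom.ker.subschemeι = pullback.fst (f i) Z.hom := by simp [k]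
    rw [Scheme.IdealSheafData.comap, ← Scheme.Hom.ker_comp_of_isIso k, hk]
    have w : (e.hom.hom i).left ≫ (I i).subschemeι = pullback.fst (f i) Z.hom := Over.w (e.hom.hom i)
    have : IsIso (e.hom.hom i).left :=
      ⟨(e.inv.hom i).left, by rw [← Over.comp_left, ← SchDDFam.comp_hom, e.hom_inv_id]; rfl,
        by rw [← Over.comp_left, ← SchDDFam.comp_hom, e.inv_hom_id]; rfl⟩
    rw [← w, Scheme.Hom.ker_comp_of_isIso, Scheme.IdealSheafData.ker_subschemeι]
  · obtain ⟨_, _⟩ := toDDFam_full_faithful f hf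
    let e' : (toDDFam f).obj (Over.mk J.subschemeι) ≅ (toDDFam f).obj Z :=
      (ddFamIsoOfMono fun i => (fiber J i (hJ i)).some) ≪≫ e.symm
    let g := (toDDFam f).preimageIso e'
    have w : g.hom.left ≫ Z.hom = J.subschemeι := Over.w g.hom
    have : IsIso g.hom.left := inferInstanceAs (IsIso ((Over.forget S).map g.hom))
    rw [← J.ker_subschemeι, ← w, Scheme.Hom.ker_comp_of_isIso]

end Groth.Agent.H13Desc.Eff
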