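import Groth.Agent.H13Desc.Fpqc
import Mathlib.AlgebraicGeometry.Morphisms.FlatDescent

/-!
Single morphisms which are fpqc coverings (not necessarily quasi-compact).
-/

set_option linter.style.haveILetI false

universe u

open CategoryTheory CategoryTheory.Limits AlgebraicGeometry

namespace Groth.Agent.H13Desc.Eff

variable {X S : Scheme.{u}} (p : X ⟶ S)

/-- The morphism `p` alone is an fpqc covering. -/
class IsCover : Prop where
  mem : Presieve.singleton p ∈ Scheme.fpqcPrecoverage S

instance (priority := 900) [Flat p] [Surjective p] [QuasiCompact p] : IsCover p :=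
  ⟨Scheme.Hom.singleton_mem_fpqcPrecoverage p⟩

instance (priority := 800) [Flat p] [Surjective p] [LocallyOfFinitePresentation p] : IsCover p :=
  ⟨Scheme.fppfPrecoverage_le_fpqcPrecoverage _ (Scheme.Hom.singleton_mem_fppfPrecoverage p)⟩

theorem IsCover.ofArrows [IsCover p] :
    Presieve.ofArrows (fun _ : PUnit.{u + 1} => X) (fun _ => p) ∈ Scheme.fpqcPrecoverage S := by
  rw [Presieve.ofArrows_pUnit]
  exact IsCover.mem

theorem IsCover.of_isPullback [IsCover p] {P Y : Scheme.{u}} {fst : P ⟶ X} {q : P ⟶ Y} {g : Y ⟶ S}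
    (h : IsPullback fst q p g) : IsCover q := ⟨by
  have := Precoverage.mem_coverings_of_isPullback (J := Scheme.fpqcPrecoverage) _ (IsCover.ofArrows p) g
    (fun _ : PUnit.{u + 1} => q) (fun _ => fst) (fun _ => h.flip)
  rwa [Presieve.ofArrows_pUnit] at this⟩

instance [IsCover p] {Y : Scheme.{u}} (g : Y ⟶ S) : IsCover (pullback.snd p g) :=
  IsCover.of_isPullback p (IsPullback.of_hasPullback p g)

instance [IsCover p] : EffectiveEpi p := by
  rw [← Sieve.effectiveEpimorphic_singleton, Presieve.EffectiveEpimorphic.iff_forall_isSheafFor_yoneda]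
  intro Z
  exact (GrothendieckTopology.Subcanonical.isSheaf_of_isRepresentable _).isSheafFor _
    (Precoverage.generate_mem_toGrothendieck IsCover.mem)

theorem IsCover.isOpen_of_preimage [IsCover p] (s : Set S) (h : IsOpen (p ⁻¹' s)) : IsOpen s :=
  isOpen_of_fpqc (IsCover.ofArrows p) s fun _ => h

theorem IsCover.descend (P : MorphismProperty Scheme.{u}) [IsZariskiLocalAtTarget P]
    [P.DescendsAlong (@Surjective ⊓ @Flat ⊓ @QuasiCompact : MorphismProperty Scheme.{u})]
    [IsCover p] {Q T : Scheme.{u}} {fst : Q ⟶ X} {snd : Q ⟶ T} {q : T ⟶ S}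
    (h : IsPullback fst snd p q) (hq : P fst) : P q := by
  refine of_fpqc_target P (IsCover.ofArrows p) q fun _ => ?_
  rw [← P.cancel_left_of_respectsIso h.flip.isoPullback.hom, IsPullback.isoPullback_hom_snd]
  exact hq

end Groth.Agent.H13Desc.Eff
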