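import Groth.Agent.H13Desc.Eff.Chart
import Mathlib.AlgebraicGeometry.Gluing
import Mathlib.AlgebraicGeometry.Morphisms.LocalIso
import Mathlib.AlgebraicGeometry.Morphisms.UniversallyOpen

/-!
A descent datum for schemes covered by effective open sub-data is effective.
-/

set_option backward.isDefEq.respectTransparency false
set_option backward.isDefEq.respectTransparency.types false
set_option linter.style.haveILetI false
set_option linter.unusedSectionVars false

universe u

open CategoryTheory CategoryTheory.Limits AlgebraicGeometry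
open Desc TopologicalSpace

namespace Groth.Agent.H13Desc.Eff

variable {X S : Scheme.{u}} {p : X ⟶ S} [Surjective p] [Flat p] [IsCover p] {D : SchDD p}

variable (D) in
/-- The effective opens of a descent datum. -/
abbrev EffOpen : Type u := {O : D.obj.left.Opens // ∃ C : Chart D, C.O = O}

namespace EffOpen

/-- A chosen chart of an effective open. -/
noncomputable def chart (i : EffOpen D) : Chart D := i.2.choose

theorem chart_O (i : EffOpen D) : i.chart.O = i.1 := i.2.choose_spec

theorem exists_trans {i j : EffOpen D} (h : i ≤ j) :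
    ∃ g : i.chart.U ⟶ j.chart.U, (toDD p).map g ≫ j.chart.c = i.chart.c :=
  j.chart.exists_lift i.chart.c (by
    rw [chart_O]
    intro x hx
    exact h (by rw [← chart_O i]; exact hx))

/-- The transition morphisms. -/
noncomputable def trans {i j : EffOpen D} (h : i ≤ j) : i.chart.U ⟶ j.chart.U := (exists_trans h).choose

theorem trans_spec {i j : EffOpen D} (h : i ≤ j) :
    (toDD p).map (trans h) ≫ j.chart.c = i.chart.c := (exists_trans h).choose_spec

end EffOpen

variable (D) in
/-- The diagram of the descended pieces. -/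
noncomputable def diagram : EffOpen D ⥤ Scheme.{u} where
  obj i := i.chart.U.left
  map {i j} f := (EffOpen.trans f.le).left
  map_id i := by
    rw [show EffOpen.trans (le_refl i) = 𝟙 i.chart.U from i.chart.hom_unique (by
      rw [EffOpen.trans_spec, CategoryTheory.Functor.map_id, Category.id_comp]), Over.id_left]
  map_comp {i j k} f g := by
    rw [← Over.comp_left, show EffOpen.trans (f ≫ g).le = EffOpen.trans f.le ≫ EffOpen.trans g.le from
      k.chart.hom_unique (by
        rw [EffOpen.trans_spec, CategoryTheory.Functor.map_comp, Category.assoc, EffOpen.trans_spec,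
          EffOpen.trans_spec])]

instance {i j : EffOpen D} (f : i ⟶ j) : IsOpenImmersion ((diagram D).map f) :=
  Chart.isOpenImmersion_of_comm _ _ _ (EffOpen.trans_spec f.le)

theorem trans_c {i j : EffOpen D} (h : i ≤ j) :
    ((toDD p).map (EffOpen.trans h)).hom.left ≫ j.chart.c.hom.left = i.chart.c.hom.left := by
  rw [← Over.comp_left, ← SchDD.comp_hom, EffOpen.trans_spec]

instance : ((diagram D) ⋙ Scheme.forget).IsLocallyDirected where
  cond {i j k} fi fj xi xj heq := by
    change (EffOpen.trans fi.le).left xi = (EffOpen.trans fj.le).left xj at heq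
    obtain ⟨z, hz⟩ := (pullback.snd p i.chart.U.hom).surjective xi
    obtain ⟨z', hz', hz'2⟩ := Scheme.exists_preimage_of_isPullback
      (isPullback_map p (EffOpen.trans fj.le)) (((toDD p).map (EffOpen.trans fi.le)).hom.left z) xj (by
        rw [← Scheme.Hom.comp_apply, (isPullback_map p (EffOpen.trans fi.le)).w, ← heq, ← hz]
        rfl)
    have hd : i.chart.c.hom.left z = j.chart.c.hom.left z' := by
      rw [← trans_c fi.le, ← trans_c fj.le, Scheme.Hom.comp_apply, Scheme.Hom.comp_apply]
      exact congrArg _ hz'.symm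
    obtain ⟨C, hC⟩ := Chart.exists_inf i.chart j.chart
    let l : EffOpen D := ⟨i.1 ⊓ j.1, C, by rw [hC, EffOpen.chart_O, EffOpen.chart_O]⟩
    have hli : l ≤ i := fun _ hx => hx.1
    have hlj : l ≤ j := fun _ hx => hx.2
    obtain ⟨w, hw⟩ : i.chart.c.hom.left z ∈ l.chart.O := by
      rw [EffOpen.chart_O]
      exact ⟨(EffOpen.chart_O i).le ⟨z, rfl⟩, (EffOpen.chart_O j).le ⟨z', hd.symm⟩⟩
    refine ⟨l, homOfLE hli, homOfLE hlj, pullback.snd p l.chart.U.hom w, ?_, ?_⟩
    · show (pullback.snd p l.chart.U.hom ≫ (EffOpen.trans hli).left) w = xi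
      rw [← (isPullback_map p (EffOpen.trans hli)).w, ← hz, Scheme.Hom.comp_apply]
      congr 1
      apply i.chart.c.hom.left.injective
      rw [← hw, ← trans_c hli]
      rfl
    · show (pullback.snd p l.chart.U.hom ≫ (EffOpen.trans hlj).left) w = xj
      rw [← (isPullback_map p (EffOpen.trans hlj)).w, ← hz'2, Scheme.Hom.comp_apply]
      congr 1
      apply j.chart.c.hom.left.injective
      rw [← hd, ← hw, ← trans_c hlj]
      rfl

variable (D) in
/-- The glued scheme over the base. -/
noncomputable def glued : Over S :=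
  Over.mk (colimit.desc (diagram D)
    { pt := S
      ι :=
        { app := fun i => i.chart.U.hom
          naturality := fun _ _ f => by
            show (EffOpen.trans f.le).left ≫ _ = _ ≫ 𝟙 S
            rw [Over.w, Category.comp_id] } })

/-- The inclusion of a piece. -/
noncomputable def incl (i : EffOpen D) : i.chart.U ⟶ glued D :=
  Over.homMk (colimit.ι (diagram D) i) (colimit.ι_desc _ i)

instance (i : EffOpen D) : IsOpenImmersion (incl i).left :=
  inferInstanceAs (IsOpenImmersion (colimit.ι (diagram D) i))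

instance (i : EffOpen D) : IsOpenImmersion ((toDD p).map (incl i)).hom.left :=
  MorphismProperty.of_isPullback (isPullback_map p (incl i)).flip
    (inferInstanceAs (IsOpenImmersion (incl i).left))

theorem trans_incl {i j : EffOpen D} (h : i ≤ j) : EffOpen.trans h ≫ incl j = incl i :=
  Over.OverMorphism.ext (colimit.w (diagram D) (homOfLE h))

/-- The projection of a piece of the datum. -/
noncomputable def piece (i : EffOpen D) : i.chart.O.toScheme ⟶ (glued D).left :=
  i.chart.c.hom.left.isoOpensRange.inv ≫ pullback.snd p i.chart.U.hom ≫ (incl i).left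

theorem lift_piece {i j : EffOpen D} (h : i ≤ j) {T : Scheme.{u}} (a : T ⟶ i.chart.O.toScheme)
    (b : T ⟶ j.chart.O.toScheme) (hab : a ≫ i.chart.O.ι = b ≫ j.chart.O.ι) :
    a ≫ piece i = b ≫ piece j := by
  have e : a ≫ i.chart.c.hom.left.isoOpensRange.inv ≫ ((toDD p).map (EffOpen.trans h)).hom.left =
      b ≫ j.chart.c.hom.left.isoOpensRange.inv := by
    rw [← cancel_mono j.chart.c.hom.left, Category.assoc, Category.assoc, Category.assoc, trans_c,
      Scheme.Hom.isoOpensRange_inv_comp, Scheme.Hom.isoOpensRange_inv_comp]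
    exact hab
  rw [piece, piece, ← reassoc_of% e, ← trans_incl h, Over.comp_left,
    reassoc_of% toDD_map_left p (EffOpen.trans h)]

/-- A descent datum covered by charts is effective. -/
theorem isEffective_of_charts (h : ∀ v : D.obj.left, ∃ C : Chart D, v ∈ C.O) :
    ∃ U : Over S, Nonempty ((toDD p).obj U ≅ D) := by
  have hcov : IsOpenCover fun i : EffOpen D => i.chart.O := by
    refine eq_top_iff.mpr fun v _ => ?_
    obtain ⟨C, hC⟩ := h v
    rw [Opens.mem_iSup]
    exact ⟨⟨C.O, C, rfl⟩, (EffOpen.chart_O (⟨C.O, C, rfl⟩ : EffOpen D)).ge hC⟩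
  let 𝒰 := D.obj.left.openCoverOfIsOpenCover _ hcov
  have hpair : ∀ i j : EffOpen D, pullback.fst (𝒰.f i) (𝒰.f j) ≫ piece i =
      pullback.snd (𝒰.f i) (𝒰.f j) ≫ piece j := by
    intro i j
    obtain ⟨C, hC⟩ := Chart.exists_inf i.chart j.chart
    let l : EffOpen D := ⟨i.1 ⊓ j.1, C, by rw [hC, EffOpen.chart_O, EffOpen.chart_O]⟩
    let A := pullback (𝒰.f i) (𝒰.f j)
    have hr : Set.range (pullback.fst (𝒰.f i) (𝒰.f j) ≫ i.chart.O.ι) ⊆ Set.range l.chart.O.ι := by
      rintro _ ⟨z, rfl⟩
      rw [Scheme.Opens.range_ι, SetLike.mem_coe, EffOpen.chart_O]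
      refine ⟨(EffOpen.chart_O i).le (pullback.fst (𝒰.f i) (𝒰.f j) z).2, ?_⟩
      have e := congr(($(pullback.condition (f := 𝒰.f i) (g := 𝒰.f j))) z)
      show (pullback.fst (𝒰.f i) (𝒰.f j) ≫ i.chart.O.ι) z ∈ j.1
      rw [show (pullback.fst (𝒰.f i) (𝒰.f j) ≫ i.chart.O.ι) z = _ from e]
      exact (EffOpen.chart_O j).le (pullback.snd (𝒰.f i) (𝒰.f j) z).2
    let r := IsOpenImmersion.lift l.chart.O.ι _ hr
    have hr1 : r ≫ l.chart.O.ι = pullback.fst (𝒰.f i) (𝒰.f j) ≫ i.chart.O.ι :=
      IsOpenImmersion.lift_fac _ _ _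
    have hr2 : r ≫ l.chart.O.ι = pullback.snd (𝒰.f i) (𝒰.f j) ≫ j.chart.O.ι :=
      hr1.trans pullback.condition
    rw [← lift_piece (fun _ hx => hx.1 : l ≤ i) r _ hr1, ← lift_piece (fun _ hx => hx.2 : l ≤ j) r _ hr2]
  let q : D.obj.left ⟶ (glued D).left := 𝒰.glueMorphisms piece hpair
  have hq : ∀ i : EffOpen D, i.chart.c.hom.left ≫ q = pullback.snd p i.chart.U.hom ≫ (incl i).left := by
    intro i
    have e : i.chart.O.ι ≫ q = piece i := Scheme.Cover.ι_glueMorphisms 𝒰 piece hpair i
    conv_lhs => rw [← i.chart.c.hom.left.isoOpensRange_hom_ι]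
    show (_ ≫ i.chart.O.ι) ≫ q = _
    rw [Category.assoc, e, piece, Iso.hom_inv_id_assoc]
  have hw : q ≫ (glued D).hom = D.obj.hom ≫ p := by
    refine Scheme.Cover.hom_ext 𝒰 _ _ fun i => ?_
    show i.chart.O.ι ≫ q ≫ (glued D).hom = i.chart.O.ι ≫ D.obj.hom ≫ p
    rw [← cancel_epi i.chart.c.hom.left.isoOpensRange.hom]
    change _ ≫ i.chart.c.hom.left.opensRange.ι ≫ _ = _ ≫ i.chart.c.hom.left.opensRange.ι ≫ _
    rw [Scheme.Hom.isoOpensRange_hom_ι_assoc, Scheme.Hom.isoOpensRange_hom_ι_assoc, reassoc_of% hq,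
      reassoc_of% Over.w i.chart.c.hom, Over.w (incl i)]
    exact pullback.condition.symm
  let k : D.obj.left ⟶ pullback p (glued D).hom := pullback.lift D.obj.hom q hw.symm
  have hk : ∀ i : EffOpen D, i.chart.c.hom.left ≫ k = ((toDD p).map (incl i)).hom.left := by
    intro i
    refine pullback.hom_ext ?_ ?_
    · simp only [Category.assoc, k, pullback.lift_fst]
      exact (Over.w i.chart.c.hom).trans (Over.w ((toDD p).map (incl i)).hom).symm
    · rw [Category.assoc, pullback.lift_snd, hq]
      exact (toDD_map_left p (incl i)).symm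
  have hloc : IsLocalIso k := ⟨fun v => by
    obtain ⟨C, hC⟩ := h v
    let i : EffOpen D := ⟨C.O, C, rfl⟩
    refine ⟨i.chart.O, (EffOpen.chart_O i).ge hC, ?_⟩
    have : IsOpenImmersion (i.chart.c.hom.left.isoOpensRange.hom ≫ i.chart.O.ι ≫ k) := by
      show IsOpenImmersion (i.chart.c.hom.left.isoOpensRange.hom ≫ i.chart.c.hom.left.opensRange.ι ≫ k)
      rw [Scheme.Hom.isoOpensRange_hom_ι_assoc, hk]
      infer_instance
    exact (MorphismProperty.cancel_left_of_respectsIso @IsOpenImmersion _ _).mp this⟩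
  have hmem : ∀ v : D.obj.left, ∃ (i : EffOpen D) (z : _), i.chart.c.hom.left z = v := by
    intro v
    obtain ⟨C, hC⟩ := h v
    exact ⟨⟨C.O, C, rfl⟩, (EffOpen.chart_O (⟨C.O, C, rfl⟩ : EffOpen D)).ge hC⟩
  have hinj : Function.Injective k := by
    intro d d' hdd
    obtain ⟨i, z, rfl⟩ := hmem d
    obtain ⟨j, z', rfl⟩ := hmem d'
    rw [← Scheme.Hom.comp_apply, ← Scheme.Hom.comp_apply, hk, hk] at hdd
    have e : (incl i).left (pullback.snd p i.chart.U.hom z) =
        (incl j).left (pullback.snd p j.chart.U.hom z') := by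
      rw [← Scheme.Hom.comp_apply, ← Scheme.Hom.comp_apply, ← toDD_map_left, ← toDD_map_left,
        Scheme.Hom.comp_apply, Scheme.Hom.comp_apply]
      exact congrArg (pullback.snd p (glued D).hom) hdd
    obtain ⟨l, fi, fj, x, hxi, hxj⟩ := (Scheme.IsLocallyDirected.ι_eq_ι_iff (F := diagram D)).mp e
    obtain ⟨y, hy, hy2⟩ := Scheme.exists_preimage_of_isPullback
      (isPullback_map p (EffOpen.trans fi.le)) z x hxi.symm
    have hj' : ((toDD p).map (EffOpen.trans fj.le)).hom.left y = z' := by
      apply ((toDD p).map (incl j)).hom.left.injective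
      refine Eq.trans ?_ hdd
      rw [← hy, ← Scheme.Hom.comp_apply, ← Scheme.Hom.comp_apply, ← Over.comp_left,
        ← Over.comp_left, ← SchDD.comp_hom, ← SchDD.comp_hom, ← CategoryTheory.Functor.map_comp, ← CategoryTheory.Functor.map_comp,
        trans_incl, trans_incl]
      rfl
    rw [← hy, ← hj', ← Scheme.Hom.comp_apply, ← Scheme.Hom.comp_apply, trans_c, trans_c]
  have hsur : Function.Surjective k := by
    intro z
    obtain ⟨i, x, hx⟩ := Scheme.IsLocallyDirected.ι_jointly_surjective (diagram D)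
      (pullback.snd p (glued D).hom z)
    obtain ⟨y, hy, -⟩ := Scheme.exists_preimage_of_isPullback (isPullback_map p (incl i)) z x hx.symm
    exact ⟨i.chart.c.hom.left y, by rw [← Scheme.Hom.comp_apply, hk]; exact hy⟩
  have : UniversallyOpen k := IsLocalIso.le_of_isZariskiLocalAtSource @UniversallyOpen _ _ k hloc
  have hst : ∀ x, IsIso (k.stalkMap x) := fun x => by
    obtain ⟨U, hxU, hU⟩ := hloc.exists_isOpenImmersion x
    have e := Scheme.Hom.stalkMap_comp U.ι k ⟨x, hxU⟩
    have : IsIso ((U.ι ≫ k).stalkMap ⟨x, hxU⟩) := inferInstance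
    rw [e] at this
    exact IsIso.of_isIso_comp_right (k.stalkMap (U.ι ⟨x, hxU⟩)) (U.ι.stalkMap ⟨x, hxU⟩)
  have : IsOpenImmersion k := IsOpenImmersion.of_isIso_stalkMap k
    (.of_continuous_injective_isOpenMap k.continuous hinj k.isOpenMap)
  have : Surjective k := ⟨hsur⟩
  have : IsIso k := (isIso_iff_isOpenImmersion_and_surjective k).mpr ⟨inferInstance, inferInstance⟩
  have inv : ∀ ⦃T : Scheme.{u}⦄ (x₀ x₁ : T ⟶ X) (hx : x₀ ≫ p = x₁ ≫ p) (v : Lifts D.obj x₀),
      (D.φ x₀ x₁ hx v).1 ≫ q = v.1 ≫ q := by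
    intro T x₀ x₁ hx v
    refine Scheme.Cover.hom_ext (𝒰.pullback₁ v.1) _ _ fun i => ?_
    let g := pullback.fst v.1 (𝒰.f i)
    show g ≫ _ = g ≫ _
    let u := pullback.snd v.1 (𝒰.f i) ≫ i.chart.c.hom.left.isoOpensRange.inv
    have hu : u ≫ i.chart.c.hom.left = g ≫ v.1 := by
      simp only [u, Category.assoc, Scheme.Hom.isoOpensRange_inv_comp, g]
      exact pullback.condition.symm
    let v' : Lifts D.obj (g ≫ x₀) := ⟨g ≫ v.1, by rw [Category.assoc, v.2]⟩
    have hg : (g ≫ x₀) ≫ p = (g ≫ x₁) ≫ p := by rw [Category.assoc, hx, Category.assoc]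
    let u' : Lifts ((toDD p).obj i.chart.U).obj (g ≫ x₀) :=
      ⟨u, by rw [← Over.w i.chart.c.hom, reassoc_of% hu, v.2]⟩
    rw [← reassoc_of% D.φ_natural g x₀ x₁ hx hg v v' rfl,
      i.chart.c.comm _ _ hg u' v' hu.symm, Category.assoc, hq]
    show pullback.lift _ (u ≫ pullback.snd p i.chart.U.hom) _ ≫ _ ≫ _ = _
    rw [pullback.lift_snd_assoc, Category.assoc, ← hq, reassoc_of% hu]
  let K : D ⟶ (toDD p).obj (glued D) := ⟨Over.homMk k (pullback.lift_fst _ _ _),
    fun T x₀ x₁ hx v w hv => by
      refine pullback.hom_ext ?_ ?_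
      · refine (pullback.lift_fst _ _ _).trans ?_
        simp only [k, Category.assoc, Over.homMk_left, pullback.lift_fst]
        exact (D.φ x₀ x₁ hx v).2.symm
      · refine (pullback.lift_snd _ _ _).trans ?_
        rw [hv]
        simp only [k, Category.assoc, Over.homMk_left, pullback.lift_snd]
        exact (inv x₀ x₁ hx v).symm⟩
  have : IsIso K.hom := by
    have : IsIso ((Over.forget X).map K.hom) := inferInstanceAs (IsIso k)
    exact isIso_of_reflects_iso K.hom (Over.forget X)
  exact ⟨glued D, ⟨(ddIso K).symm⟩⟩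

end Groth.Agent.H13Desc.Eff
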