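import Groth.Agent.H13Desc.Eff.IndQA
import Groth.Agent.H13Desc.QuasiAffineDescent

/-!
Effectiveness of fpqc descent data with ind-quasi-affine structure morphisms.
-/

set_option backward.isDefEq.respectTransparency false
set_option backward.isDefEq.respectTransparency.types false
set_option linter.style.haveILetI false
set_option linter.unusedSectionVars false

universe u

open CategoryTheory CategoryTheory.Limits AlgebraicGeometry
open Desc TopologicalSpace

namespace Groth.Agent.H13Desc.Eff.IndQA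

/-- Ind-quasi-affine morphisms, as a morphism property. -/
abbrev indQA : MorphismProperty Scheme.{u} := fun _ _ f => MoreMor.IsIndQuasiAffineHom f

instance : (indQA.{u}).RespectsIso :=
  MorphismProperty.RespectsIso.mk _
    (fun e _ hf => H7Flat.indQA_comp _ _ (H7Flat.indQA_of_isImmersion e.hom) hf)
    (fun e _ hf => H7Flat.indQA_comp _ _ hf (H7Flat.indQA_of_isImmersion e.hom))

instance : (indQA.{u}).IsStableUnderBaseChange :=
  MorphismProperty.IsStableUnderBaseChange.mk' fun _ _ _ f g _ hg => by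
    exact H7Flat.indQA_baseChange (IsPullback.of_hasPullback f g).flip hg

/-- Ind-quasi-affineness is local on the target. -/
theorem indQA_of_cover {X Y : Scheme.{u}} (f : X ⟶ Y)
    (h : ∀ y : Y, ∃ (X' Y' : Scheme.{u}) (f' : X' ⟶ Y') (g' : X' ⟶ X) (g : Y' ⟶ Y),
      IsOpenImmersion g ∧ y ∈ Set.range g ∧ IsPullback g' f' f g ∧ MoreMor.IsIndQuasiAffineHom f') :
    MoreMor.IsIndQuasiAffineHom f := by
  rw [H7Flat.indQA_iff]
  intro V hV U hU hle
  obtain ⟨k, hk⟩ := H7Flat.exists_lift f hle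
  have : IsAffine V.toScheme := hV
  have : CompactSpace U.toScheme := isCompact_iff_compactSpace.1 hU
  have : QuasiCompact k := (quasiCompact_iff_compactSpace k).2 inferInstance
  refine Groth.Agent.H13Desc.QuasiAffineDescent.isQuasiAffine_top k (H11QAff.isQuasiAffine_of_cover k fun y => ?_)
  obtain ⟨X', Y', f', g', g, hg, hy, sq, hf'⟩ := h y.1
  have : IsOpenImmersion g' := MorphismProperty.of_isPullback sq.flip hg
  obtain ⟨A, hA, hyA, hAle⟩ := exists_isAffineOpen_mem_and_subset (x := y.1) (U := V ⊓ g.opensRange)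
    ⟨y.2, hy⟩
  have hA' : IsAffineOpen (V.ι ⁻¹ᵁ A) := hA.preimage_of_isOpenImmersion V.ι
    (by rw [Scheme.Opens.opensRange_ι]; exact fun z hz => (hAle hz).1)
  refine ⟨V.ι ⁻¹ᵁ A, hA', hyA, ?_⟩
  let P : X.Opens := U.ι ''ᵁ (k ⁻¹ᵁ (V.ι ⁻¹ᵁ A))
  have hPc : IsCompact (P : Set X) :=
    (k.isCompact_preimage hA'.isCompact).image U.ι.continuous
  have hPA : ∀ x ∈ P, f x ∈ A := by
    rintro _ ⟨z, hz, rfl⟩
    refine (congrArg (· ∈ A) (show f (U.ι z) = V.ι (k z) from congr($hk.symm z))).mpr ?_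
    exact hz
  have hPg : P ≤ g'.opensRange := fun x hx => by
    obtain ⟨w, hw⟩ : f x ∈ Set.range g := (hAle (hPA x hx)).2
    obtain ⟨z, hz, -⟩ := Scheme.exists_preimage_of_isPullback sq x w hw.symm
    exact ⟨z, hz⟩
  have hc' : IsCompact (g' ⁻¹ᵁ P : Set X') :=
    g'.isOpenEmbedding.isInducing.isCompact_preimage' hPc hPg
  have := (H7Flat.indQA_iff f').1 hf' (g ⁻¹ᵁ A)
    (hA.preimage_of_isOpenImmersion g fun z hz => (hAle hz).2) (g' ⁻¹ᵁ P) hc' fun z hz => by
      show g (f' z) ∈ A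
      rw [show g (f' z) = f (g' z) from congr($(sq.w.symm) z)]
      exact hPA _ hz
  have e : g' ''ᵁ (g' ⁻¹ᵁ P) = P := by
    rw [Scheme.Hom.image_preimage_eq_opensRange_inf]
    exact inf_eq_right.2 hPg
  exact H11QAff.isQuasiAffine_of_iso
    (U.ι.isoImage (k ⁻¹ᵁ (V.ι ⁻¹ᵁ A)) ≪≫ X.isoOfEq e.symm ≪≫ (g'.isoImage (g' ⁻¹ᵁ P)).symm)

theorem indQA_sigmaMap (m : ℕ) (Y V : Fin m → Scheme.{u}) (q : ∀ j, Y j ⟶ V j)
    (hq : ∀ j, indQA (q j)) : indQA (Limits.Sigma.map q) := by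
  refine indQA_of_cover _ fun y => ?_
  obtain ⟨k, z, rfl⟩ := (sigmaOpenCover V).exists_eq y
  have sq : IsPullback (Sigma.ι Y k) (q k) (Limits.Sigma.map q) (Sigma.ι V k) := by
    refine (IsOpenImmersion.isPullback _ _ _ _ (Limits.Sigma.ι_map q k) ?_).flip
    apply le_antisymm
    · rintro x ⟨w, hxy⟩
      obtain ⟨l, w', rfl⟩ := (sigmaOpenCover Y).exists_eq x
      rw [show (sigmaOpenCover Y).f l = Sigma.ι Y l from rfl, ← Scheme.Hom.comp_apply,
        Limits.Sigma.ι_map, Scheme.Hom.comp_apply] at hxy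
      obtain ⟨rfl⟩ := (sigmaι_eq_iff V k l w (q l w')).mp hxy
      exact ⟨w', rfl⟩
    · rintro _ ⟨x, rfl⟩
      refine ⟨q k x, ?_⟩
      rw [← Scheme.Hom.comp_apply, ← Scheme.Hom.comp_apply, Limits.Sigma.ι_map]
  exact ⟨_, _, q k, Sigma.ι Y k, Sigma.ι V k, inferInstance, ⟨z, rfl⟩, sq, hq k⟩

/-- fpqc descent data with ind-quasi-affine structure morphisms are effective. -/
theorem isEffective {S : Scheme.{u}} {ι : Type u} {X : ι → Scheme.{u}} (f : ∀ i, X i ⟶ S)
    (hf : Presieve.ofArrows X f ∈ Scheme.fpqcPrecoverage S) (D : Desc.SchDDFam f)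
    (hD : ∀ i, MoreMor.IsIndQuasiAffineHom (D.obj i).hom) : D.IsEffective := by
  refine isEffective_of_affine_case indQA indQA_sigmaMap (fun X S p _ _ _ _ D hD => ?_) hf D hD
  refine isEffective_affine D fun U hU => ?_
  exact (H7Flat.indQA_iff D.obj.hom).1 hD ⊤ (isAffineOpen_top X) U hU (fun _ _ => trivial)

end Groth.Agent.H13Desc.Eff.IndQA
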