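import Groth.Agent.H13Desc.SchDD
import Groth.Agent.H13Desc.Eff.Cover

/-!
Open charts of a descent datum for schemes: effective open sub-data, their morphisms and intersections.
-/

set_option backward.isDefEq.respectTransparency false
set_option backward.isDefEq.respectTransparency.types false
set_option linter.style.haveILetI false
set_option linter.unusedSectionVars false

universe u

open CategoryTheory CategoryTheory.Limits AlgebraicGeometry
open Desc

namespace Groth.Agent.H13Desc.Eff

variable {X S : Scheme.{u}} {p : X ⟶ S}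

/-- An isomorphism of descent data from an isomorphism of the underlying schemes. -/
noncomputable def ddIso {D E : SchDD p} (f : D ⟶ E) [IsIso f.hom] : D ≅ E where
  hom := f
  inv := ⟨inv f.hom, fun T x₀ x₁ h v w hw => by
    have e : v.1 = w.1 ≫ f.hom.left := by
      rw [hw, Category.assoc, ← Over.comp_left, IsIso.inv_hom_id, Over.id_left, Category.comp_id]
    rw [f.comm x₀ x₁ h w v e, Category.assoc, ← Over.comp_left, IsIso.hom_inv_id, Over.id_left,
      Category.comp_id]⟩
  hom_inv_id := by ext : 1; simp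
  inv_hom_id := by ext : 1; simp

instance {D E : SchDD p} (e : D ≅ E) : IsIso e.hom.hom.left :=
  ⟨e.inv.hom.left, by rw [← Over.comp_left, ← SchDD.comp_hom, e.hom_inv_id]; rfl,
    by rw [← Over.comp_left, ← SchDD.comp_hom, e.inv_hom_id]; rfl⟩

/-- Pullback square of the canonical datum of a morphism. -/
theorem isPullback_map (p : X ⟶ S) {U U' : Over S} (m : U ⟶ U') :
    IsPullback ((toDD p).map m).hom.left (pullback.snd p U.hom) (pullback.snd p U'.hom) m.left := by
  refine IsPullback.of_right ?_ (toDD_map_left p m) (IsPullback.of_hasPullback p U'.hom)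
  have e : ((toDD p).map m).hom.left ≫ pullback.fst p U'.hom = pullback.fst p U.hom :=
    Over.w ((toDD p).map m).hom
  rw [e, Over.w m]
  exact IsPullback.of_hasPullback p U.hom

/-- An effective open sub-datum. -/
structure Chart (D : SchDD p) where
  /-- the descended scheme -/
  U : Over S
  /-- its comparison map -/
  c : (toDD p).obj U ⟶ D
  isOpen : IsOpenImmersion c.hom.left

variable {D : SchDD p}

namespace Chart

instance (C : Chart D) : IsOpenImmersion C.c.hom.left := C.isOpen

/-- The open subscheme covered by a chart. -/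
noncomputable def O (C : Chart D) : D.obj.left.Opens := C.c.hom.left.opensRange

theorem cancel (C : Chart D) {E : SchDD p} (a b : E ⟶ (toDD p).obj C.U) (h : a ≫ C.c = b ≫ C.c) :
    a = b := by
  ext : 2
  exact (cancel_mono C.c.hom.left).mp congr(($h).hom.left)

variable [Surjective p] [Flat p] [IsCover p]

theorem exists_lift (C : Chart D) {T : Over S} (a : (toDD p).obj T ⟶ D)
    (h : Set.range a.hom.left ⊆ (C.O : Set D.obj.left)) :
    ∃ g : T ⟶ C.U, (toDD p).map g ≫ C.c = a := by
  let l := IsOpenImmersion.lift C.c.hom.left a.hom.left h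
  have hl : l ≫ C.c.hom.left = a.hom.left := IsOpenImmersion.lift_fac _ _ _
  have hw : l ≫ ((toDD p).obj C.U).obj.hom = ((toDD p).obj T).obj.hom := by
    rw [← Over.w C.c.hom, reassoc_of% hl, Over.w a.hom]
  let b : (toDD p).obj T ⟶ (toDD p).obj C.U := ⟨Over.homMk l hw, fun T' x₀ x₁ hx v w hv => by
    let w' : Lifts D.obj x₀ := ⟨w.1 ≫ C.c.hom.left, by rw [Category.assoc, Over.w C.c.hom]; exact w.2⟩
    rw [← cancel_mono C.c.hom.left, ← C.c.comm x₀ x₁ hx w w' rfl,
      a.comm x₀ x₁ hx v w' (by
        show w.1 ≫ C.c.hom.left = _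
        rw [hv, Category.assoc]; exact congrArg (v.1 ≫ ·) hl), Category.assoc]
    exact congrArg (_ ≫ ·) hl.symm⟩
  have : (toDD p).Full := toDD_full p
  obtain ⟨g, hg⟩ := (toDD p).map_surjective b
  refine ⟨g, ?_⟩
  rw [hg]
  ext : 2
  exact hl

theorem hom_unique (C : Chart D) {T : Over S} {g g' : T ⟶ C.U}
    (h : (toDD p).map g ≫ C.c = (toDD p).map g' ≫ C.c) : g = g' := by
  have := toDD_faithful p
  exact (toDD p).map_injective (C.cancel _ _ h)

theorem isOpenImmersion_of_comm (C C' : Chart D) (g : C'.U ⟶ C.U)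
    (h : (toDD p).map g ≫ C.c = C'.c) : IsOpenImmersion g.left := by
  have : IsOpenImmersion (((toDD p).map g).hom.left ≫ C.c.hom.left) := by
    rw [← Over.comp_left, ← SchDD.comp_hom, h]
    infer_instance
  have h1 : IsOpenImmersion ((toDD p).map g).hom.left :=
    IsOpenImmersion.of_comp _ C.c.hom.left
  exact IsCover.descend (pullback.snd p C.U.hom) @IsOpenImmersion (isPullback_map p g) h1

/-- The intersection of two charts is a chart. -/
theorem exists_inf (C₁ C₂ : Chart D) : ∃ C : Chart D, C.O = C₁.O ⊓ C₂.O := by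
  let s := pullback.snd p C₁.U.hom
  let P : Set (pullback p C₁.U.hom : Scheme.{u}) := C₁.c.hom.left ⁻¹' (C₂.O : Set D.obj.left)
  have sat : s ⁻¹' (s '' P) = P := by
    refine Set.Subset.antisymm ?_ (Set.subset_preimage_image _ _)
    rintro z' ⟨z, hz, hzz⟩
    obtain ⟨π, hπ₀, hπ₁⟩ := Scheme.Pullback.exists_preimage_pullback (f := s) (g := s) z z' hzz
    let K := pullback s s
    let a₀ := K.fromSpecResidueField π ≫ pullback.fst s s
    let a₁ := K.fromSpecResidueField π ≫ pullback.snd s s
    have ha : a₀ ≫ s = a₁ ≫ s := by simp only [a₀, a₁, Category.assoc, pullback.condition]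
    let x₀ := a₀ ≫ pullback.fst p C₁.U.hom
    let x₁ := a₁ ≫ pullback.fst p C₁.U.hom
    have hx : x₀ ≫ p = x₁ ≫ p := by
      simp only [x₀, x₁, Category.assoc, pullback.condition]
      rw [← Category.assoc, ← Category.assoc]
      exact congrArg (· ≫ C₁.U.hom) ha
    let v₀ : Lifts ((toDD p).obj C₁.U).obj x₀ := ⟨a₀, rfl⟩
    let w₀ : Lifts D.obj x₀ :=
      ⟨a₀ ≫ C₁.c.hom.left, by rw [Category.assoc, Over.w C₁.c.hom]; rfl⟩
    have e1 : (D.φ x₀ x₁ hx w₀).1 = a₁ ≫ C₁.c.hom.left := by
      rw [C₁.c.comm x₀ x₁ hx v₀ w₀ rfl]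
      congr 1
      exact pullback.hom_ext (pullback.lift_fst _ _ _) ((pullback.lift_snd _ _ _).trans ha)
    obtain ⟨pt⟩ : Nonempty (Spec (K.residueField π)) := inferInstance
    have hr : Set.range (a₀ ≫ C₁.c.hom.left) ⊆ Set.range C₂.c.hom.left := by
      rintro _ ⟨t, rfl⟩
      show C₁.c.hom.left (pullback.fst s s (K.fromSpecResidueField π t)) ∈ Set.range C₂.c.hom.left
      rw [Scheme.fromSpecResidueField_apply, hπ₀]
      exact hz
    let u := IsOpenImmersion.lift C₂.c.hom.left (a₀ ≫ C₁.c.hom.left) hr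
    have hu : u ≫ C₂.c.hom.left = a₀ ≫ C₁.c.hom.left := IsOpenImmersion.lift_fac _ _ _
    let v : Lifts ((toDD p).obj C₂.U).obj x₀ :=
      ⟨u, by rw [← Over.w C₂.c.hom, reassoc_of% hu, Over.w C₁.c.hom]; rfl⟩
    have e2 : (D.φ x₀ x₁ hx w₀).1 = _ ≫ C₂.c.hom.left := C₂.c.comm x₀ x₁ hx v w₀ hu.symm
    have e3 := congr(($(e1.symm.trans e2)) pt)
    rw [show (a₁ ≫ C₁.c.hom.left) pt = C₁.c.hom.left (pullback.snd s s (K.fromSpecResidueField π pt))
      from rfl, Scheme.fromSpecResidueField_apply, hπ₁] at e3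
    show C₁.c.hom.left z' ∈ Set.range C₂.c.hom.left
    rw [e3]
    exact ⟨_, rfl⟩
  have hW : IsOpen (s '' P) := by
    refine IsCover.isOpen_of_preimage s _ ?_
    rw [sat]
    exact C₂.O.2.preimage C₁.c.hom.left.continuous
  let W : C₁.U.left.Opens := ⟨s '' P, hW⟩
  let incl : (Over.mk (W.ι ≫ C₁.U.hom) : Over S) ⟶ C₁.U := Over.homMk W.ι rfl
  have : IsOpenImmersion ((toDD p).map incl).hom.left :=
    MorphismProperty.of_isPullback (isPullback_map p incl).flip (inferInstanceAs (IsOpenImmersion W.ι))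
  have ho : IsOpenImmersion ((toDD p).map incl ≫ C₁.c).hom.left :=
    inferInstanceAs (IsOpenImmersion (((toDD p).map incl).hom.left ≫ C₁.c.hom.left))
  refine ⟨⟨_, (toDD p).map incl ≫ C₁.c, ho⟩, TopologicalSpace.Opens.ext ?_⟩
  show Set.range (((toDD p).map incl).hom.left ≫ C₁.c.hom.left) = _
  have hrg : Set.range ((toDD p).map incl).hom.left = P := by
    refine Set.Subset.antisymm ?_ ?_
    · rintro _ ⟨z, rfl⟩
      rw [← sat, Set.mem_preimage]
      show (((toDD p).map incl).hom.left ≫ pullback.snd p C₁.U.hom) z ∈ _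
      rw [(isPullback_map p incl).w]
      exact (pullback.snd p (Over.mk (W.ι ≫ C₁.U.hom)).hom z).2
    · intro z hz
      obtain ⟨y, hy, -⟩ := Scheme.exists_preimage_of_isPullback (isPullback_map p incl) z
        (⟨s z, Set.mem_image_of_mem s hz⟩ : W.toScheme) rfl
      exact ⟨y, hy⟩
  rw [Scheme.Hom.comp_base, TopCat.coe_comp, Set.range_comp, hrg,
    Set.image_preimage_eq_inter_range, Set.inter_comm]
  rfl

end Chart

end Groth.Agent.H13Desc.Eff
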