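import Groth.Agent.H13Desc.DescFam

/-!
Extension of descent data along a refinement of families, given the descended objects.
-/

set_option backward.isDefEq.respectTransparency false
set_option backward.isDefEq.respectTransparency.types false
set_option linter.style.haveILetI false
set_option linter.unusedSectionVars false

universe w' w u

open CategoryTheory CategoryTheory.Limits AlgebraicGeometry
open Desc

namespace Groth.Agent.H13Desc.Eff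

variable {S : Scheme.{u}} {ι : Type w} {κ : Type w'} {U : ι → Scheme.{u}} {V : κ → Scheme.{u}}
  {u : ∀ i, U i ⟶ S} {v : ∀ j, V j ⟶ S} {α : ι → κ} (g : ∀ i, U i ⟶ V (α i))

/-- The component of the refinement over a fixed index. -/
noncomputable def fib {j : κ} (i : {i // α i = j}) : U i.1 ⟶ V j := g i.1 ≫ eqToHom (congrArg V i.2)

/-- A local lift of a point of `V j`. -/
structure Loc {j : κ} {T T' : Scheme.{u}} (x : T ⟶ V j) (h : T' ⟶ T) where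
  /-- the index -/
  i : {i // α i = j}
  /-- the lift -/
  r : T' ⟶ U i.1
  w : r ≫ fib g i = h ≫ x

/-- Objects over the `V j` restricting to a descent datum over the `U i`. -/
structure Glued (D : SchDDFam u) where
  /-- the objects -/
  E : ∀ j, Over (V j)
  /-- the comparison of points -/
  θ : ∀ {j : κ} (i : {i // α i = j}) {T : Scheme.{u}} (r : T ⟶ U i.1),
    Lifts (E j) (r ≫ fib g i) ≃ Lifts (D.obj i.1) r
  θ_natural : ∀ {j : κ} (i : {i // α i = j}) {T T' : Scheme.{u}} (h : T' ⟶ T) (r : T ⟶ U i.1)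
    (e : Lifts (E j) (r ≫ fib g i)) (e' : Lifts (E j) ((h ≫ r) ≫ fib g i)),
    e'.1 = h ≫ e.1 → (θ i (h ≫ r) e').1 = h ≫ (θ i r e).1
  θ_compat : ∀ {j : κ} (i i' : {i // α i = j}) {T : Scheme.{u}} (r : T ⟶ U i.1) (r' : T ⟶ U i'.1)
    (hr : r ≫ u i.1 = r' ≫ u i'.1) (e : Lifts (E j) (r ≫ fib g i)) (e' : Lifts (E j) (r' ≫ fib g i')),
    r ≫ fib g i = r' ≫ fib g i' → e.1 = e'.1 → D.φ r r' hr (θ i r e) = θ i' r' e'

variable (hw : ∀ i, g i ≫ v (α i) = u i) (hcov : ∀ (j : κ) {T : Scheme.{u}} (x : T ⟶ V j),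
  ∃ R : Sieve T, R ∈ Scheme.fpqcTopology T ∧ ∀ ⦃T' : Scheme.{u}⦄ (h : T' ⟶ T), R h → Nonempty (Loc g x h))

include hw in
theorem fib_comp {j : κ} (i : {i // α i = j}) : fib g i ≫ v j = u i.1 := by
  obtain ⟨i, rfl⟩ := i
  simp [fib, hw]

include hw in
theorem Loc.compat {j₀ j₁ : κ} {T T' : Scheme.{u}} {x₀ : T ⟶ V j₀} {x₁ : T ⟶ V j₁} {h : T' ⟶ T}
    (hx : x₀ ≫ v j₀ = x₁ ≫ v j₁) (L₀ : Loc g x₀ h) (L₁ : Loc g x₁ h) :
    L₀.r ≫ u L₀.i.1 = L₁.r ≫ u L₁.i.1 := by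
  rw [← fib_comp g hw L₀.i, ← fib_comp g hw L₁.i, reassoc_of% L₀.w, reassoc_of% L₁.w, hx]

variable {g} {D : SchDDFam u} (G : Glued g D)

/-- The point of `E` under a local lift. -/
def pt {j : κ} {T T' : Scheme.{u}} {x : T ⟶ V j} {h : T' ⟶ T} (L : Loc g x h) (e : Lifts (G.E j) x) :
    Lifts (G.E j) (L.r ≫ fib g L.i) :=
  ⟨h ≫ e.1, by rw [Category.assoc, e.2, L.w]⟩

include hw in
theorem phi_indep {j₀ j₁ : κ} {T T' : Scheme.{u}} {x₀ : T ⟶ V j₀} {x₁ : T ⟶ V j₁} {h : T' ⟶ T}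
    (hx : x₀ ≫ v j₀ = x₁ ≫ v j₁) (L₀ L₀' : Loc g x₀ h) (L₁ L₁' : Loc g x₁ h) (e : Lifts (G.E j₀) x₀)
    (e' : Lifts (G.E j₁) x₁)
    (he : D.φ L₀.r L₁.r (Loc.compat g hw hx L₀ L₁) (G.θ L₀.i L₀.r (pt G L₀ e)) =
      G.θ L₁.i L₁.r (pt G L₁ e')) :
    D.φ L₀'.r L₁'.r (Loc.compat g hw hx L₀' L₁') (G.θ L₀'.i L₀'.r (pt G L₀' e)) =
      G.θ L₁'.i L₁'.r (pt G L₁' e') := by
  rw [← G.θ_compat L₀.i L₀'.i L₀.r L₀'.r (Loc.compat g hw rfl L₀ L₀') (pt G L₀ e) (pt G L₀' e)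
      (L₀.w.trans L₀'.w.symm) rfl,
    ← G.θ_compat L₁.i L₁'.i L₁.r L₁'.r (Loc.compat g hw rfl L₁ L₁') (pt G L₁ e') (pt G L₁' e')
      (L₁.w.trans L₁'.w.symm) rfl, ← he, D.φ_comp, D.φ_comp]

/-- The gluing relation on points of the objects `E`. -/
def Rel {j₀ j₁ : κ} {T : Scheme.{u}} (x₀ : T ⟶ V j₀) (x₁ : T ⟶ V j₁) (hx : x₀ ≫ v j₀ = x₁ ≫ v j₁)
    (e : Lifts (G.E j₀) x₀) (e' : Lifts (G.E j₁) x₁) : Prop :=
  ∀ ⦃T' : Scheme.{u}⦄ (h : T' ⟶ T) (L₀ : Loc g x₀ h) (L₁ : Loc g x₁ h),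
    D.φ L₀.r L₁.r (Loc.compat g hw hx L₀ L₁) (G.θ L₀.i L₀.r (pt G L₀ e)) = G.θ L₁.i L₁.r (pt G L₁ e')

theorem rel_symm {j₀ j₁ : κ} {T : Scheme.{u}} {x₀ : T ⟶ V j₀} {x₁ : T ⟶ V j₁}
    {hx : x₀ ≫ v j₀ = x₁ ≫ v j₁} {e : Lifts (G.E j₀) x₀} {e' : Lifts (G.E j₁) x₁}
    (h : Rel hw G x₀ x₁ hx e e') : Rel hw G x₁ x₀ hx.symm e' e := fun T' k L₁ L₀ => by
  rw [← h k L₀ L₁, D.φ_comp, D.φ_self]

include hcov in
theorem rel_unique {j₀ j₁ : κ} {T : Scheme.{u}} {x₀ : T ⟶ V j₀} {x₁ : T ⟶ V j₁}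
    {hx : x₀ ≫ v j₀ = x₁ ≫ v j₁} {e : Lifts (G.E j₀) x₀} {e₁ e₂ : Lifts (G.E j₁) x₁}
    (h₁ : Rel hw G x₀ x₁ hx e e₁) (h₂ : Rel hw G x₀ x₁ hx e e₂) : e₁ = e₂ := by
  obtain ⟨R₀, hR₀, hl₀⟩ := hcov j₀ x₀
  obtain ⟨R₁, hR₁, hl₁⟩ := hcov j₁ x₁
  refine Subtype.ext (hom_eq_of_sieve (Scheme.fpqcTopology.intersection_covering hR₀ hR₁) _ _
    fun T' k hk => ?_)
  obtain ⟨L₀⟩ := hl₀ k hk.1
  obtain ⟨L₁⟩ := hl₁ k hk.2
  exact congrArg Subtype.val ((G.θ L₁.i L₁.r).injective ((h₁ k L₀ L₁).symm.trans (h₂ k L₀ L₁)))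

include hcov in
theorem rel_trans {j₀ j₁ j₂ : κ} {T : Scheme.{u}} {x₀ : T ⟶ V j₀} {x₁ : T ⟶ V j₁} {x₂ : T ⟶ V j₂}
    {h₀₁ : x₀ ≫ v j₀ = x₁ ≫ v j₁} {h₁₂ : x₁ ≫ v j₁ = x₂ ≫ v j₂} {e₀ : Lifts (G.E j₀) x₀}
    {e₁ : Lifts (G.E j₁) x₁} {e₂ : Lifts (G.E j₂) x₂}
    (h : Rel hw G x₀ x₁ h₀₁ e₀ e₁) (h' : Rel hw G x₁ x₂ h₁₂ e₁ e₂) :
    Rel hw G x₀ x₂ (h₀₁.trans h₁₂) e₀ e₂ := by
  intro T' k L₀ L₂
  obtain ⟨R₁, hR₁, hl₁⟩ := hcov j₁ x₁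
  refine Subtype.ext (hom_eq_of_sieve (Scheme.fpqcTopology.pullback_stable k hR₁) _ _ fun T'' l hl => ?_)
  obtain ⟨L₁⟩ := hl₁ (l ≫ k) hl
  let L₀' : Loc g x₀ (l ≫ k) := ⟨L₀.i, l ≫ L₀.r, by rw [Category.assoc, L₀.w, Category.assoc]⟩
  let L₂' : Loc g x₂ (l ≫ k) := ⟨L₂.i, l ≫ L₂.r, by rw [Category.assoc, L₂.w, Category.assoc]⟩
  have e1 := h (l ≫ k) L₀' L₁
  have e2 := h' (l ≫ k) L₁ L₂'
  rw [← e1, D.φ_comp] at e2
  have a0 : (G.θ L₀.i (l ≫ L₀.r) (pt G L₀' e₀)).1 = l ≫ (G.θ L₀.i L₀.r (pt G L₀ e₀)).1 :=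
    G.θ_natural _ l _ _ _ (Category.assoc _ _ _)
  have a2 : (G.θ L₂.i (l ≫ L₂.r) (pt G L₂' e₂)).1 = l ≫ (G.θ L₂.i L₂.r (pt G L₂ e₂)).1 :=
    G.θ_natural _ l _ _ _ (Category.assoc _ _ _)
  rw [← a2, ← congrArg Subtype.val e2]
  exact (D.φ_natural l _ _ _ _ _ rfl rfl _ _ _ a0).symm

include hcov in
theorem rel_exists {j₀ j₁ : κ} {T : Scheme.{u}} (x₀ : T ⟶ V j₀) (x₁ : T ⟶ V j₁)
    (hx : x₀ ≫ v j₀ = x₁ ≫ v j₁) (e : Lifts (G.E j₀) x₀) : ∃ e', Rel hw G x₀ x₁ hx e e' := by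
  obtain ⟨R₀, hR₀, hl₀⟩ := hcov j₀ x₀
  obtain ⟨R₁, hR₁, hl₁⟩ := hcov j₁ x₁
  have hR := Scheme.fpqcTopology.intersection_covering hR₀ hR₁
  let val : ∀ {T' : Scheme.{u}} {k : T' ⟶ T} (L₀ : Loc g x₀ k) (L₁ : Loc g x₁ k),
      Lifts (G.E j₁) (L₁.r ≫ fib g L₁.i) := fun L₀ L₁ =>
    (G.θ L₁.i L₁.r).symm (D.φ L₀.r L₁.r (Loc.compat g hw hx L₀ L₁) (G.θ L₀.i L₀.r (pt G L₀ e)))
  have indep : ∀ {T' : Scheme.{u}} {k : T' ⟶ T} (L₀ L₀' : Loc g x₀ k) (L₁ L₁' : Loc g x₁ k),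
      (val L₀ L₁).1 = (val L₀' L₁').1 := by
    intro T' k L₀ L₀' L₁ L₁'
    have e1 := G.θ_compat L₁.i L₁'.i L₁.r L₁'.r (Loc.compat g hw rfl L₁ L₁') (val L₀ L₁)
      ⟨(val L₀ L₁).1, (val L₀ L₁).2.trans (L₁.w.trans L₁'.w.symm)⟩ (L₁.w.trans L₁'.w.symm) rfl
    simp only [val, Equiv.apply_symm_apply] at e1
    rw [D.φ_comp] at e1
    have e0 := G.θ_compat L₀.i L₀'.i L₀.r L₀'.r (Loc.compat g hw rfl L₀ L₀') (pt G L₀ e) (pt G L₀' e)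
      (L₀.w.trans L₀'.w.symm) rfl
    simp only [val]
    rw [← e0, D.φ_comp, e1, Equiv.symm_apply_apply]
  have natu : ∀ {T' T'' : Scheme.{u}} {k : T' ⟶ T} (l : T'' ⟶ T') (L₀ : Loc g x₀ k) (L₁ : Loc g x₁ k)
      (M₀ : Loc g x₀ (l ≫ k)) (M₁ : Loc g x₁ (l ≫ k)), (val M₀ M₁).1 = l ≫ (val L₀ L₁).1 := by
    intro T' T'' k l L₀ L₁ M₀ M₁
    rw [indep M₀ ⟨L₀.i, l ≫ L₀.r, by rw [Category.assoc, L₀.w, Category.assoc]⟩ M₁
      ⟨L₁.i, l ≫ L₁.r, by rw [Category.assoc, L₁.w, Category.assoc]⟩]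
    refine congrArg Subtype.val (show val ⟨L₀.i, l ≫ L₀.r, _⟩ ⟨L₁.i, l ≫ L₁.r, _⟩ =
      ⟨l ≫ (val L₀ L₁).1, by rw [Category.assoc, (val L₀ L₁).2, Category.assoc]⟩ from
        (Equiv.symm_apply_eq _).mpr (Subtype.ext ?_))
    rw [G.θ_natural L₁.i l L₁.r (val L₀ L₁) _ rfl]
    simp only [val, Equiv.apply_symm_apply]
    exact D.φ_natural l _ _ _ _ _ rfl rfl _ _ _ (G.θ_natural _ l _ _ _ (Category.assoc _ _ _))
  obtain ⟨a, ha⟩ := exists_glue hR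
    (fun T' k hk => (val (hl₀ k hk.1).some (hl₁ k hk.2).some).1)
    (fun T' T'' k l hk => natu l _ _ _ _)
  refine ⟨⟨a, hom_eq_of_sieve hR _ _ fun T' k hk => ?_⟩, fun T' k L₀ L₁ => ?_⟩
  · rw [← Category.assoc, ha k hk]
    exact (val _ _).2.trans (hl₁ k hk.2).some.w
  · refine ((G.θ L₁.i L₁.r).symm_apply_eq).mp (Subtype.ext
      (hom_eq_of_sieve (Scheme.fpqcTopology.pullback_stable k hR) _ _ fun T'' l hl => ?_))
    show l ≫ (val L₀ L₁).1 = l ≫ k ≫ a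
    rw [← Category.assoc l k, ha (l ≫ k) hl, natu l L₀ L₁]

include hcov in
/-- The extended descent datum. -/
noncomputable def Glued.datum : SchDDFam v where
  obj := G.E
  φ T j₀ j₁ x₀ x₁ hx :=
    { toFun := fun e => (rel_exists hw hcov G x₀ x₁ hx e).choose
      invFun := fun e => (rel_exists hw hcov G x₁ x₀ hx.symm e).choose
      left_inv := fun e => rel_unique hw hcov G
        (rel_exists hw hcov G x₁ x₀ hx.symm _).choose_spec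
        (rel_symm hw G (rel_exists hw hcov G x₀ x₁ hx e).choose_spec)
      right_inv := fun e => rel_unique hw hcov G
        (rel_exists hw hcov G x₀ x₁ hx _).choose_spec
        (rel_symm hw G (rel_exists hw hcov G x₁ x₀ hx.symm e).choose_spec) }
  φ_natural T T' k j₀ j₁ x₀ x₁ hx y₀ y₁ hy₀ hy₁ hy e e' he := by
    subst hy₀ hy₁
    have hr : Rel hw G (k ≫ x₀) (k ≫ x₁) hy e' ⟨k ≫ (rel_exists hw hcov G x₀ x₁ hx e).choose.1,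
        by rw [Category.assoc, (rel_exists hw hcov G x₀ x₁ hx e).choose.2]⟩ := by
      intro T'' l L₀ L₁
      let M₀ : Loc g x₀ (l ≫ k) := ⟨L₀.i, L₀.r, by rw [L₀.w, Category.assoc]⟩
      let M₁ : Loc g x₁ (l ≫ k) := ⟨L₁.i, L₁.r, by rw [L₁.w, Category.assoc]⟩
      have h1 := (rel_exists hw hcov G x₀ x₁ hx e).choose_spec (l ≫ k) M₀ M₁
      have p0 : pt G L₀ e' = pt G M₀ e :=
        Subtype.ext (by show l ≫ e'.1 = (l ≫ k) ≫ e.1; rw [he, Category.assoc])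
      refine Eq.trans ?_ (h1.trans ?_)
      · exact congrArg (fun z => D.φ L₀.r L₁.r (Loc.compat g hw hy L₀ L₁) (G.θ L₀.i L₀.r z)) p0
      · exact congrArg (G.θ L₁.i L₁.r) (Subtype.ext (Category.assoc _ _ _))
    exact congrArg Subtype.val (rel_unique hw hcov G (rel_exists hw hcov G _ _ hy e').choose_spec hr)
  φ_self T j x e := rel_unique hw hcov G (rel_exists hw hcov G x x rfl e).choose_spec
    fun T' k L₀ L₁ => G.θ_compat L₀.i L₁.i L₀.r L₁.r _ _ _ (L₀.w.trans L₁.w.symm) rfl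
  φ_comp T j₀ j₁ j₂ x₀ x₁ x₂ h₀₁ h₁₂ e := (rel_unique hw hcov G
    (rel_exists hw hcov G x₀ x₂ (h₀₁.trans h₁₂) e).choose_spec
    (rel_trans hw hcov G (rel_exists hw hcov G x₀ x₁ h₀₁ e).choose_spec
      (rel_exists hw hcov G x₁ x₂ h₁₂ _).choose_spec)).symm

include hcov in
/-- The pulled-back extension is the original datum. -/
theorem Glued.pull_iso :
    Nonempty ((pullDDFam (f := v) (f' := u) (α := α) (p := 𝟙 S) (p' := g)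
      (fun i => (hw i).trans (Category.comp_id (u i)).symm)).obj (G.datum hw hcov) ≅ D) := by
  have w' : ∀ i, g i ≫ v (α i) = u i ≫ 𝟙 S := fun i => (hw i).trans (Category.comp_id (u i)).symm
  have hf : ∀ i, fib g (⟨i, rfl⟩ : {i' // α i' = α i}) = g i := fun i => by simp [fib]
  let cast : ∀ i {T : Scheme.{u}} (r : T ⟶ U i), Lifts (G.E (α i)) (r ≫ g i) ≃
      Lifts (G.E (α i)) (r ≫ fib g (⟨i, rfl⟩ : {i' // α i' = α i})) := fun i T r =>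
    Equiv.subtypeEquivRight fun a => by rw [hf]
  let c : ∀ i {T : Scheme.{u}} (r : T ⟶ U i),
      Lifts (((pullDDFam w').obj (G.datum hw hcov)).obj i) r ≃ Lifts (D.obj i) r := fun i T r =>
    ((pullPts w' (G.datum hw hcov) i r).trans (cast i r)).trans (G.θ ⟨i, rfl⟩ r)
  refine ⟨ddFamIso (fun i => liftsIso (fun T r => c i r) (fun T T' k r r' hr e e' he => by
    subst hr
    refine G.θ_natural ⟨i, rfl⟩ k r _ _ ?_
    exact pullPts_natural w' (G.datum hw hcov) k r (k ≫ r) e e' he)) ?_⟩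
  intro T i i' r r' hrr e e₂ he
  rw [comp_liftsIso_hom] at he ⊢
  obtain rfl := Subtype.ext he
  refine congrArg Subtype.val ?_
  let a := pullPts w' (G.datum hw hcov) i r e
  have hs := (rel_exists hw hcov G (r ≫ g i) (r' ≫ g i') (pull_compat w' r r' hrr) a).choose_spec (𝟙 T)
    ⟨⟨i, rfl⟩, r, by simp [hf]⟩ ⟨⟨i', rfl⟩, r', by simp [hf]⟩
  have e1 := pull_phi w' (G.datum hw hcov) r r' hrr e
  simp only [c, Equiv.trans_apply]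
  rw [e1]
  refine Eq.trans ?_ (hs.trans ?_)
  · exact congrArg (fun z => D.φ r r' _ (G.θ ⟨i, rfl⟩ r z)) (Subtype.ext (Category.id_comp _).symm)
  · exact congrArg (fun z => G.θ ⟨i', rfl⟩ r' z) (Subtype.ext (Category.id_comp _))

end Groth.Agent.H13Desc.Eff
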