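import Groth.Agent.H13Desc.Eff.Zariski
import Groth.Agent.H13Desc.Eff.Glue
import Groth.Agent.H13Desc.Eff.Refine

/-!
Effectiveness for descent data relative to fpqc families.
-/

set_option backward.isDefEq.respectTransparency false
set_option backward.isDefEq.respectTransparency.types false
set_option linter.style.haveILetI false
set_option linter.unusedSectionVars false

universe w u

open CategoryTheory CategoryTheory.Limits AlgebraicGeometry
open Desc

namespace Groth.Agent.H13Desc.Eff

/-- The morphism from the disjoint union of an fpqc family is an fpqc covering. -/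
theorem isCover_sigmaDesc {ι : Type u} {S : Scheme.{u}} {U : ι → Scheme.{u}} (u : ∀ i, U i ⟶ S)
    (hu : Presieve.ofArrows U u ∈ Scheme.fpqcPrecoverage S) :
    Flat (Sigma.desc u) ∧ Surjective (Sigma.desc u) ∧ IsCover (Sigma.desc u) := by
  have hfl : ∀ i, Flat (u i) := fpqc_flat hu
  have hF : Flat (Sigma.desc u) := inferInstance
  have hS : Surjective (Sigma.desc u) := ⟨fun y => by
    obtain ⟨i, z, hz⟩ := fpqc_covers hu y
    exact ⟨Sigma.ι U i z, by rw [← Scheme.Hom.comp_apply, Sigma.ι_desc]; exact hz⟩⟩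
  refine ⟨hF, hS, ⟨?_, ?_⟩⟩
  · rw [← PreZeroHypercover.presieve₀_singleton.{u, u + 1, u}, Scheme.presieve₀_mem_qcPrecoverage_iff]
    have := fpqc_quasiCompactCover hu
    exact QuasiCompactCover.of_hom (𝒱 := PreZeroHypercover.mk ι U u)
      { s₀ := fun _ => PUnit.unit
        h₀ := fun i => Sigma.ι U i
        w₀ := fun i => Sigma.ι_desc u i }
  · rw [← Presieve.ofArrows_pUnit.{u}]
    exact (Scheme.ofArrows_mem_precoverage_iff (P := @Flat)).mpr
      ⟨fun y => ⟨PUnit.unit, hS.surj y⟩, fun _ => hF⟩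

/-- A morphism to a finite disjoint union is the disjoint union of its pullbacks to the members. -/
theorem of_sigma_pullbacks (P : MorphismProperty Scheme.{u}) [P.RespectsIso] {m : ℕ}
    {A B : Fin m → Scheme.{u}} (q : ∀ k, A k ⟶ B k) {Z : Scheme.{u}} (f : Z ⟶ ∐ B) (a : ∀ k, A k ⟶ Z)
    (ha : ∀ k, IsPullback (q k) (a k) (Sigma.ι B k) f) (h : P (Limits.Sigma.map q)) : P f := by
  let d : ∐ A ⟶ Z := Sigma.desc a
  have hd : d ≫ f = Limits.Sigma.map q := Sigma.hom_ext _ _ fun k => by
    rw [Limits.Sigma.ι_map, Sigma.ι_desc_assoc]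
    exact (ha k).w.symm
  have hsig : ∀ k, IsPullback (q k) (Sigma.ι A k) (Sigma.ι B k) (Limits.Sigma.map q) := fun k => by
    refine IsOpenImmersion.isPullback _ _ _ _ (Limits.Sigma.ι_map q k) ?_
    apply le_antisymm
    · rintro x ⟨y, hxy⟩
      obtain ⟨l, z, rfl⟩ := (sigmaOpenCover A).exists_eq x
      rw [show (sigmaOpenCover A).f l = Sigma.ι A l from rfl, ← Scheme.Hom.comp_apply, Limits.Sigma.ι_map,
        Scheme.Hom.comp_apply] at hxy
      obtain ⟨rfl⟩ := (sigmaι_eq_iff B k l y (q l z)).mp hxy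
      exact ⟨z, rfl⟩
    · rintro _ ⟨x, rfl⟩
      refine ⟨q k x, ?_⟩
      rw [← Scheme.Hom.comp_apply, ← Scheme.Hom.comp_apply, Limits.Sigma.ι_map]
  have : IsIso d := by
    refine IsZariskiLocalAtTarget.of_openCover (P := MorphismProperty.isomorphisms Scheme)
      ((sigmaOpenCover B).pullback₁ f) fun k => ?_
    -- the restriction to the part over a member
    have e := (ha k).flip
    have s : IsPullback (Sigma.ι A k) (𝟙 (A k)) d (a k) := by
      have h' : IsPullback (Sigma.ι A k) (𝟙 (A k) ≫ q k) (d ≫ f) (Sigma.ι B k) := by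
        rw [Category.id_comp, hd]
        exact (hsig k).flip
      exact IsPullback.of_bot h' (by rw [Category.id_comp]; exact Sigma.ι_desc _ _) e
    have s' : IsPullback (Sigma.ι A k) (e.isoPullback.hom) d (pullback.fst f (Sigma.ι B k)) :=
      IsPullback.of_iso s (Iso.refl _) (Iso.refl _) e.isoPullback (Iso.refl _) (by simp) (by simp)
        (by simp) (by simp)
    show IsIso (pullback.snd d (pullback.fst f (Sigma.ι B k)))
    rw [← s'.isoPullback_inv_snd]
    infer_instance
  rw [← hd, P.cancel_left_of_respectsIso] at h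
  exact h

variable {ι : Type u} {S : Scheme.{u}} {U : ι → Scheme.{u}} {u : ∀ i, U i ⟶ S}

/-- A family datum is effective as soon as its disjoint union is. -/
theorem isEffective_of_sigma (D : SchDDFam u) (Z : Over S)
    (e : (toDD (Sigma.desc u)).obj Z ≅ sigmaDD D) : D.IsEffective := by
  let canon : ∀ (i : ι) {T : Scheme.{u}} (r : T ⟶ U i),
      Lifts (((toDDFam u).obj Z).obj i) r ≃
        Lifts ((toDD (Sigma.desc u)).obj Z).obj (r ≫ Sigma.ι U i) := fun i T r =>
    { toFun := fun a => ⟨pullback.lift (r ≫ Sigma.ι U i) (a.1 ≫ pullback.snd (u i) Z.hom) (by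
          have ha : a.1 ≫ pullback.fst (u i) Z.hom = r := a.2
          rw [Category.assoc, Sigma.ι_desc, Category.assoc, ← pullback.condition, reassoc_of% ha]),
        pullback.lift_fst _ _ _⟩
      invFun := fun b => ⟨pullback.lift r (b.1 ≫ pullback.snd (Sigma.desc u) Z.hom) (by
          have hb : b.1 ≫ pullback.fst (Sigma.desc u) Z.hom = r ≫ Sigma.ι U i := b.2
          rw [Category.assoc, ← pullback.condition, reassoc_of% hb, Sigma.ι_desc]),
        pullback.lift_fst _ _ _⟩
      left_inv := fun a => Subtype.ext (pullback.hom_ext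
        ((pullback.lift_fst _ _ _).trans a.2.symm) (by simp))
      right_inv := fun b => Subtype.ext (pullback.hom_ext
        ((pullback.lift_fst _ _ _).trans b.2.symm) (by simp)) }
  let c : ∀ (i : ι) {T : Scheme.{u}} (r : T ⟶ U i),
      Lifts (((toDDFam u).obj Z).obj i) r ≃ Lifts (D.obj i) r := fun i T r =>
    ((canon i r).trans (ptsEquiv e _)).trans (sigmaPts D i r)
  refine ⟨Z, ⟨ddFamIso (fun i => liftsIso (fun T r => c i r) (fun T T' k r r' hr a a' ha => ?_)) ?_⟩⟩
  · subst hr
    apply (isPullback_sigmaMap (fun l => (D.obj l).hom) i).hom_ext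
    · simp only [c, Category.assoc]
      exact (sigmaPts D i _ _).2.trans (congrArg (k ≫ ·) (sigmaPts D i r _).2.symm)
    · simp only [c, Category.assoc, Equiv.trans_apply]
      refine (sigmaPts_val D i _ _).trans (Eq.trans ?_ (congrArg (k ≫ ·) (sigmaPts_val D i r _)).symm)
      show pullback.lift _ (a'.1 ≫ _) _ ≫ _ = k ≫ pullback.lift _ (a.1 ≫ _) _ ≫ _
      rw [← Category.assoc k]
      congr 1
      exact pullback.hom_ext (by simp) (by simp [ha])
  · intro T i i' r r' hrr a b hb
    rw [comp_liftsIso_hom] at hb ⊢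
    obtain rfl := Subtype.ext hb
    refine congrArg Subtype.val ?_
    simp only [c, Equiv.trans_apply]
    have hq : (r ≫ Sigma.ι U i) ≫ Sigma.desc u = (r' ≫ Sigma.ι U i') ≫ Sigma.desc u := by
      rw [Category.assoc, Category.assoc, Sigma.ι_desc, Sigma.ι_desc, hrr]
    refine (sigmaDD_phi D r r' hrr hq _).trans (congrArg (sigmaPts D i' r') ?_)
    refine Subtype.ext ((e.hom.comm _ _ hq (canon i r a) (ptsEquiv e _ (canon i r a)) rfl).trans ?_)
    refine congrArg (· ≫ e.hom.hom.left) (pullback.hom_ext ?_ ?_)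
    · exact (pullback.lift_fst _ _ _).trans (pullback.lift_fst _ _ _).symm
    · refine (pullback.lift_snd _ _ _).trans ?_
      refine Eq.trans ?_ (pullback.lift_snd _ _ _).symm
      show pullback.lift _ (a.1 ≫ _) _ ≫ _ = _
      simp [toDDFam, canonicalDDFam]

/-- Effectiveness for fpqc families reduces to coverings of affine schemes by affine schemes. -/
theorem isEffective_of_affine_case (P : MorphismProperty Scheme.{u}) [P.IsStableUnderBaseChange]
    (h2 : ∀ (m : ℕ) (Y V : Fin m → Scheme.{u}) (q : ∀ j, Y j ⟶ V j),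
      (∀ j, P (q j)) → P (Limits.Sigma.map q))
    (h3 : ∀ (X S : Scheme.{u}) (p : X ⟶ S), IsAffine X → IsAffine S → Flat p → Surjective p →
      ∀ D : Desc.SchDD p, P D.obj.hom → ∃ U : Over S, Nonempty ((Desc.toDD p).obj U ≅ D))
    (hu : Presieve.ofArrows U u ∈ Scheme.fpqcPrecoverage S) (D : SchDDFam u)
    (hD : ∀ i, P (D.obj i).hom) : D.IsEffective := by
  obtain ⟨_, _, _⟩ := isCover_sigmaDesc u hu
  suffices h : ∃ Z : Over S, Nonempty ((toDD (Sigma.desc u)).obj Z ≅ sigmaDD D) by
    obtain ⟨Z, ⟨e⟩⟩ := h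
    exact isEffective_of_sigma D Z e
  refine isEffective_of_charts fun a => ?_
  obtain ⟨_, ⟨W : S.Opens, hW, rfl⟩, haW, -⟩ := S.isBasis_affineOpens.exists_subset_of_mem_open
    (Set.mem_univ (((sigmaDD D).obj.hom ≫ Sigma.desc u) a)) isOpen_univ
  obtain ⟨n, k, V, g, hV, hg, _, _, _⟩ := fpqc_exists_affine_refinement hu W hW
  let π : (∐ fun l => (V l).toScheme) ⟶ ∐ U := Sigma.desc fun l => (V l).ι ≫ Sigma.ι U (k l)
  have hc : π ≫ Sigma.desc u = Sigma.desc g ≫ W.ι := Sigma.hom_ext _ _ fun l => by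
    simp [π, hg]
  have hP : P (pullW (sigmaDD D) π (Sigma.desc g) hc).obj.hom := by
    let q : ∀ l, pullback (D.obj (k l)).hom (V l).ι ⟶ (V l).toScheme := fun l =>
      pullback.snd (D.obj (k l)).hom (V l).ι
    have big : ∀ l, IsPullback (q l)
        (pullback.fst (D.obj (k l)).hom (V l).ι ≫ Sigma.ι (fun i => (D.obj i).left) (k l))
        (Sigma.ι (fun l => (V l).toScheme) l ≫ π) (sigmaObj D).hom := fun l => by
      rw [Sigma.ι_desc]
      exact (IsPullback.of_hasPullback _ _).flip.paste_vert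
        (isPullback_sigmaMap (fun i => (D.obj i).hom) (k l))
    have hb : IsPullback (pullback.snd (sigmaObj D).hom π) (pullback.fst (sigmaObj D).hom π) π
        (sigmaObj D).hom := (IsPullback.of_hasPullback _ _).flip
    let a : ∀ l, pullback (D.obj (k l)).hom (V l).ι ⟶ pullback (sigmaObj D).hom π := fun l =>
      hb.lift (q l ≫ Sigma.ι (fun l => (V l).toScheme) l)
        (pullback.fst (D.obj (k l)).hom (V l).ι ≫ Sigma.ι (fun i => (D.obj i).left) (k l))
        (by rw [Category.assoc]; exact (big l).w)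
    refine of_sigma_pullbacks P q _ a (fun l => ?_) (h2 n _ _ q fun l =>
      MorphismProperty.pullback_snd _ _ (hD (k l)))
    have b := big l
    rw [← show a l ≫ pullback.fst (sigmaObj D).hom π = _ from hb.lift_snd _ _ _] at b
    exact IsPullback.of_bot b (hb.lift_fst _ _ _).symm hb
  have : ∀ l, IsAffine (V l).toScheme := hV
  have : IsAffine W.toScheme := hW
  obtain ⟨Z, ⟨e⟩⟩ := h3 _ _ (Sigma.desc g) inferInstance inferInstance inferInstance inferInstance _ hP
  obtain ⟨C, hC⟩ := exists_chart_of_refinement (sigmaDD D) π (Sigma.desc g) hc Z e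
  exact ⟨C, hC haW⟩

end Groth.Agent.H13Desc.Eff
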