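import Groth.Agent.H13Desc.Eff.Affine
import Groth.Agent.H13Desc.Eff.Saturate
import Groth.Agent.H13Grpd.InvariantAffine

/-!
Descent along finite locally free morphisms.
-/

set_option backward.isDefEq.respectTransparency false
set_option backward.isDefEq.respectTransparency.types false
set_option linter.style.haveILetI false
set_option linter.unusedSectionVars false

universe u

open CategoryTheory CategoryTheory.Limits AlgebraicGeometry
open Desc TopologicalSpace

namespace Groth.Agent.H13Desc.Eff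

variable {X S : Scheme.{u}} {p : X ⟶ S} (D : SchDD p)

theorem src_snd_compat : src D ≫ D.obj.hom ≫ p = pullback.snd (D.obj.hom ≫ p) p ≫ p := pullback.condition

theorem comp_aux : (pullback.snd (src D) (act D) ≫ src D) ≫ D.obj.hom ≫ p =
    (pullback.fst (src D) (act D) ≫ pullback.snd (D.obj.hom ≫ p) p) ≫ p := by
  have h : act D ≫ D.obj.hom ≫ p = src D ≫ D.obj.hom ≫ p := by
    rw [← Category.assoc, act_hom, src_snd_compat]
  rw [Category.assoc, Category.assoc, ← h, ← src_snd_compat]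
  exact (pullback.condition_assoc (f := src D) (g := act D) _).symm

/-- Composition of the equivalence relation. -/
noncomputable def compRel : pullback (src D) (act D) ⟶ Rel₂ D :=
  pullback.lift (pullback.snd (src D) (act D) ≫ src D)
    (pullback.fst (src D) (act D) ≫ pullback.snd (D.obj.hom ≫ p) p) (comp_aux D)

theorem compRel_src {T : Scheme.{u}} (α β : T ⟶ Rel₂ D) (h : α ≫ src D = β ≫ act D) :
    (pullback.lift α β h ≫ compRel D) ≫ src D = β ≫ src D := by
  have : compRel D ≫ src D = pullback.snd (src D) (act D) ≫ src D := pullback.lift_fst _ _ _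
  rw [Category.assoc, this, pullback.lift_snd_assoc]

theorem compRel_snd {T : Scheme.{u}} (α β : T ⟶ Rel₂ D) (h : α ≫ src D = β ≫ act D) :
    (pullback.lift α β h ≫ compRel D) ≫ pullback.snd (D.obj.hom ≫ p) p =
      α ≫ pullback.snd (D.obj.hom ≫ p) p := by
  rw [Category.assoc, compRel, pullback.lift_snd, pullback.lift_fst_assoc]

theorem rel_ext {T : Scheme.{u}} {a b : T ⟶ Rel₂ D} (h₁ : a ≫ src D = b ≫ src D)
    (h₂ : a ≫ pullback.snd (D.obj.hom ≫ p) p = b ≫ pullback.snd (D.obj.hom ≫ p) p) : a = b :=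
  pullback.hom_ext h₁ h₂

theorem comp_act_eq {T : Scheme.{u}} (a : T ⟶ Rel₂ D) :
    a ≫ act D = (D.φ (a ≫ src D ≫ D.obj.hom) (a ≫ pullback.snd (D.obj.hom ≫ p) p)
      (by simp only [Category.assoc]; rw [src_snd_compat]) ⟨a ≫ src D, Category.assoc _ _ _⟩).1 := by
  rw [phi_eq_act]
  congr 1
  exact rel_ext D (pullback.lift_fst _ _ _).symm (pullback.lift_snd _ _ _).symm

theorem compRel_act {T : Scheme.{u}} (α β : T ⟶ Rel₂ D) (h : α ≫ src D = β ≫ act D) :
    (pullback.lift α β h ≫ compRel D) ≫ act D = α ≫ act D := by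
  have e₁ : β ≫ pullback.snd (D.obj.hom ≫ p) p = α ≫ src D ≫ D.obj.hom := by
    rw [← act_hom, ← reassoc_of% h]
  have h₀ : (β ≫ src D ≫ D.obj.hom) ≫ p = (α ≫ src D ≫ D.obj.hom) ≫ p := by
    rw [← e₁]
    simp only [Category.assoc]
    rw [src_snd_compat]
  have h₁ : (α ≫ src D ≫ D.obj.hom) ≫ p = (α ≫ pullback.snd (D.obj.hom ≫ p) p) ≫ p := by
    simp only [Category.assoc]
    rw [src_snd_compat]
  rw [comp_act_eq D α, comp_act_eq D (pullback.lift α β h ≫ compRel D)]
  refine (phi_congr'' D ?_ (compRel_snd D α β h) _ (h₀.trans h₁) _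
    ⟨β ≫ src D, Category.assoc _ _ _⟩ (compRel_src D α β h)).trans ?_
  · rw [← Category.assoc, compRel_src, Category.assoc]
  rw [← D.φ_comp _ _ _ h₀ h₁]
  refine congrArg (fun z => (D.φ _ _ h₁ z).1) (Subtype.ext ?_)
  show _ = α ≫ src D
  rw [h, phi_eq_act]
  congr 1
  exact rel_ext D (pullback.lift_fst _ _ _) ((pullback.lift_snd _ _ _).trans e₁.symm)

/-- The unit of the equivalence relation. -/
noncomputable def unitRel : D.obj.left ⟶ Rel₂ D :=
  pullback.lift (𝟙 _) D.obj.hom (Category.id_comp _)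

theorem unitRel_src : unitRel D ≫ src D = 𝟙 _ := pullback.lift_fst _ _ _

theorem unitRel_act : unitRel D ≫ act D = 𝟙 _ := by
  rw [unitRel, ← phi_eq_act D D.obj.hom D.obj.hom rfl ⟨𝟙 _, Category.id_comp _⟩, D.φ_self]

theorem unitRel_snd : unitRel D ≫ pullback.snd (D.obj.hom ≫ p) p = D.obj.hom := pullback.lift_snd _ _ _

theorem swap_snd : swap D ≫ pullback.snd (D.obj.hom ≫ p) p = src D ≫ D.obj.hom := pullback.lift_snd _ _ _

/-- The groupoid of a descent datum. -/
noncomputable def groupoid : Grpd.GroupoidScheme S where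
  U := D.obj.left
  R := Rel₂ D
  pU := D.obj.hom ≫ p
  pR := src D ≫ D.obj.hom ≫ p
  s := src D
  t := act D
  e := unitRel D
  i := swap D
  c := compRel D
  s_over := rfl
  t_over := by rw [← Category.assoc, act_hom, src_snd_compat]
  comp_s α β h := compRel_src D α β h
  comp_t α β h := compRel_act D α β h
  assoc α β γ h₁ h₂ := rel_ext D (by simp only [compRel_src]) (by simp only [compRel_snd])
  e_s := unitRel_src D
  e_t := unitRel_act D
  comp_e α := rel_ext D (by rw [compRel_src, Category.assoc, Category.assoc, unitRel_src, Category.comp_id])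
    (by rw [compRel_snd])
  e_comp α := rel_ext D (by rw [compRel_src])
    (by rw [compRel_snd, Category.assoc, Category.assoc, unitRel_snd, act_hom])
  i_s := swap_src D
  i_t := swap_act D
  comp_i α := rel_ext D
    (by rw [compRel_src, Category.assoc, Category.assoc, Category.assoc, swap_src, unitRel_src, Category.comp_id])
    (by rw [compRel_snd, Category.assoc, Category.assoc, unitRel_snd, act_hom])
  i_comp α := rel_ext D
    (by rw [compRel_src, Category.assoc, Category.assoc, unitRel_src, Category.comp_id])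
    (by rw [compRel_snd, Category.assoc, Category.assoc, Category.assoc, swap_snd, unitRel_snd])

instance [IsFinite p] : IsFinite (groupoid D).s := inferInstanceAs (IsFinite (pullback.fst (D.obj.hom ≫ p) p))
instance [Flat p] : Flat (groupoid D).s := inferInstanceAs (Flat (pullback.fst (D.obj.hom ≫ p) p))
instance [LocallyOfFinitePresentation p] : LocallyOfFinitePresentation (groupoid D).s :=
  inferInstanceAs (LocallyOfFinitePresentation (pullback.fst (D.obj.hom ≫ p) p))

theorem groupoid_orbit_over {v w : D.obj.left} (h : ∃ r : Rel₂ D, src D r = v ∧ act D r = w) :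
    p (D.obj.hom w) = p (D.obj.hom v) := by
  obtain ⟨r, rfl, rfl⟩ := h
  have e : act D ≫ D.obj.hom ≫ p = src D ≫ D.obj.hom ≫ p := (groupoid D).t_over
  have := congr(($e) r)
  simpa using this

/-- The invariant opens for the groupoid are saturated. -/
theorem saturated_of_invariant {O : D.obj.left.Opens} (hO : src D ⁻¹ᵁ O = act D ⁻¹ᵁ O) : Saturated D O := by
  rintro T x₀ x₁ h v hv _ ⟨z, rfl⟩
  rw [phi_eq_act, Scheme.Hom.comp_apply]
  show pullback.lift v.1 x₁ (pair_compat D h v) z ∈ act D ⁻¹ᵁ O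
  rw [← hO]
  show (pullback.lift v.1 x₁ _ ≫ pullback.fst (D.obj.hom ≫ p) p) z ∈ O
  rw [pullback.lift_fst]
  exact hv ⟨z, rfl⟩

/-- Descent along finite locally free morphisms of data with finite fibre subsets in affine opens. -/
theorem isEffective_finLocFree [Surjective p] [IsFinite p] [Flat p] [LocallyOfFinitePresentation p]
    (hV : ∀ (y : S) (s : Finset D.obj.left), (∀ v ∈ s, p (D.obj.hom v) = y) →
      (∃ v, ∀ w ∈ s, ∃ r : Rel₂ D, src D r = v ∧ act D r = w) →
      ∃ U : D.obj.left.Opens, IsAffineOpen U ∧ ∀ v ∈ s, v ∈ U) :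
    ∃ Z : Over S, Nonempty ((toDD p).obj Z ≅ D) := by
  classical
  refine isEffective_of_charts fun v => ?_
  let G := groupoid D
  have hfin : (Groth.Agent.H13Grpd.orbit G v).Finite := (G.s.finite_preimage_singleton v).image _
  obtain ⟨U, hU, hUv⟩ := hV (p (D.obj.hom v)) hfin.toFinset (fun w hw => by
    obtain ⟨r, hr, hrw⟩ := hfin.mem_toFinset.mp hw
    exact groupoid_orbit_over D ⟨r, hr, hrw⟩) ⟨v, fun w hw => by
    obtain ⟨r, hr, hrw⟩ := hfin.mem_toFinset.mp hw
    exact ⟨r, hr, hrw⟩⟩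
  obtain ⟨_, ⟨W : S.Opens, hW, rfl⟩, hvW, -⟩ := S.isBasis_affineOpens.exists_subset_of_mem_open
    (Set.mem_univ (p (D.obj.hom v))) isOpen_univ
  have hsub : Groth.Agent.H13Grpd.orbit G v ⊆ ((U ⊓ (D.obj.hom ≫ p) ⁻¹ᵁ W : D.obj.left.Opens) : Set D.obj.left) := fun w hw => by
    refine ⟨hUv w (hfin.mem_toFinset.mpr hw), ?_⟩
    show p (D.obj.hom w) ∈ W
    obtain ⟨r, hr, hrw⟩ := hw
    rw [groupoid_orbit_over D ⟨r, hr, hrw⟩]
    exact hvW
  obtain ⟨f, hEf, hfW⟩ := Groth.Agent.H13Grpd.exists_basicOpen_finite hU hfin hsub inf_le_left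
  obtain ⟨O, hOa, hvO, hOf, hOinv⟩ := Groth.Agent.H13Grpd.exists_invariant_affine G v (hU.basicOpen f)
    fun r hr => hEf ⟨r, hr, rfl⟩
  have hO : Saturated D O := saturated_of_invariant D hOinv
  have hOW : O ≤ (D.obj.hom ≫ p) ⁻¹ᵁ W := hOf.trans (hfW.trans inf_le_right)
  let f' : O.toScheme ⟶ X := O.ι ≫ D.obj.hom
  have hr : Set.range f' ⊆ Set.range (p ⁻¹ᵁ W).ι := by
    rintro _ ⟨a, rfl⟩
    rw [Scheme.Opens.range_ι]
    exact hOW a.2
  have : Surjective (pullback.fst f' (p ⁻¹ᵁ W).ι) := ⟨fun a => by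
    obtain ⟨b, hb⟩ := hr ⟨a, rfl⟩
    obtain ⟨c, hc, -⟩ := Scheme.Pullback.exists_preimage_pullback a b hb.symm
    exact ⟨c, hc⟩⟩
  have : IsIso (pullback.fst f' (p ⁻¹ᵁ W).ι) :=
    (isIso_iff_isOpenImmersion_and_epi_base _).mpr
      ⟨inferInstance, (TopCat.epi_iff_surjective _).mpr (pullback.fst f' (p ⁻¹ᵁ W).ι).surjective⟩
  have : IsAffine O.toScheme := hOa
  have : IsAffine (pullback (restrict hO).obj.hom (p ⁻¹ᵁ W).ι) :=
    IsAffine.of_isIso (pullback.fst f' (p ⁻¹ᵁ W).ι)
  have : IsAffine (p ⁻¹ᵁ W).toScheme := hW.preimage p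
  have : Surjective (p ∣_ W) := IsZariskiLocalAtTarget.restrict ‹Surjective p› W
  obtain ⟨C, hC⟩ := exists_chart_of_affine (restrict hO) hW (p ⁻¹ᵁ W).ι (p ∣_ W)
    (morphismRestrict_ι p W).symm (fun x hx => by rw [Scheme.Opens.range_ι]; exact hx)
  have ho : IsOpenImmersion (C.c ≫ restrictIncl hO).hom.left :=
    inferInstanceAs (IsOpenImmersion (C.c.hom.left ≫ O.ι))
  obtain ⟨a, ha⟩ := hC (show (⟨v, hvO⟩ : O.toScheme) ∈ ((restrict hO).obj.hom ≫ p) ⁻¹ᵁ W from hOW hvO)
  refine ⟨⟨C.U, C.c ≫ restrictIncl hO, ho⟩, a, ?_⟩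
  show (C.c.hom.left ≫ O.ι) a = v
  rw [Scheme.Hom.comp_apply, ha]
  rfl

end Groth.Agent.H13Desc.Eff
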