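import Groth.Agent.H13Desc.Eff.Fam
import Groth.Agent.H13Desc.Eff.Saturate
import Groth.Agent.H13Desc.Eff.QAff
import Groth.Agent.H13Desc.Immersion
import Groth.Agent.H7Flat.IndQuasiAffine
import Mathlib.AlgebraicGeometry.Morphisms.IsIso
import Mathlib.AlgebraicGeometry.IdealSheaf.Subscheme

/-!
Descent of ind-quasi-affine schemes along fpqc coverings.
-/

set_option backward.isDefEq.respectTransparency false
set_option backward.isDefEq.respectTransparency.types false
set_option linter.style.haveILetI false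
set_option linter.unusedSectionVars false

universe u

open CategoryTheory CategoryTheory.Limits AlgebraicGeometry
open Desc TopologicalSpace

namespace Groth.Agent.H13Desc.Eff.IndQA

theorem isIso_restrict_basicOpen {U P : Scheme.{u}} [IsAffine P] (κ : U ⟶ P) (b : Γ(P, ⊤))
    (hD : IsAffineOpen (κ ⁻¹ᵁ P.basicOpen b))
    (hsurj : ∀ g : Γ(U, κ ⁻¹ᵁ P.basicOpen b), ∃ (h : Γ(P, ⊤)) (n : ℕ),
      g * κ.appLE ⊤ (κ ⁻¹ᵁ P.basicOpen b) (by simp) b ^ n = κ.appLE ⊤ _ (by simp) h)
    (hinj : ∀ h : Γ(P, ⊤), κ.appLE ⊤ (κ ⁻¹ᵁ P.basicOpen b) (by simp) h = 0 → ∃ N : ℕ, b ^ N * h = 0) :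
    IsIso (κ ∣_ P.basicOpen b) := by
  let R := P.presheaf.map (homOfLE (le_top : P.basicOpen b ≤ ⊤)).op
  have : IsAffine (P.basicOpen b).toScheme := (isAffineOpen_top P).basicOpen b
  have : IsAffine (κ ⁻¹ᵁ P.basicOpen b).toScheme := hD
  have hR : ∀ h, κ.app (P.basicOpen b) (R h) = κ.appLE ⊤ (κ ⁻¹ᵁ P.basicOpen b) (by simp) h := fun h => by
    rw [Scheme.Hom.app_eq_appLE, ← CommRingCat.comp_apply, Scheme.Hom.map_appLE]
  have hu : IsUnit (R b) := RingedSpace.isUnit_res_basicOpen _ b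
  have hloc := (isAffineOpen_top P).isLocalization_basicOpen b
  have hsur : ∀ y : Γ(P, P.basicOpen b), ∃ (h : Γ(P, ⊤)) (n : ℕ), y * R b ^ n = R h := fun y => by
    obtain ⟨⟨h, ⟨_, n, rfl⟩⟩, hh⟩ := IsLocalization.surj (Submonoid.powers b) y
    exact ⟨h, n, by rw [← map_pow]; exact hh⟩
  have key : Function.Bijective (κ.app (P.basicOpen b)).hom := by
    refine ⟨(injective_iff_map_eq_zero _).2 fun y hy => ?_, fun g => ?_⟩
    · obtain ⟨h, n, hn⟩ := hsur y
      obtain ⟨N, hN⟩ := hinj h (by rw [← hR, ← hn, map_mul, hy, zero_mul])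
      have : R b ^ N * R h = 0 := by rw [← map_pow, ← map_mul, hN, map_zero]
      rw [(hu.pow N).mul_right_eq_zero] at this
      exact (hu.pow n).mul_left_eq_zero.mp (hn.trans this)
    · obtain ⟨h, n, hn⟩ := hsurj g
      obtain ⟨y, hy⟩ : ∃ y, y * R b ^ n = R h :=
        ⟨R h * (↑(hu.pow n).unit⁻¹ : Γ(P, P.basicOpen b)), by
          rw [mul_assoc, IsUnit.val_inv_mul, mul_one]⟩
      refine ⟨y, ((hu.pow n).map (κ.app (P.basicOpen b)).hom).mul_left_inj.mp ?_⟩
      calc κ.app _ y * κ.app _ (R b ^ n) = κ.app _ (R h) := by rw [← map_mul, hy]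
        _ = g * κ.app _ (R b ^ n) := by rw [hR, ← hn, map_pow, hR]
  have hiso : IsIso (κ.app (P.basicOpen b)) := (ConcreteCategory.isIso_iff_bijective _).2 key
  refine (HasAffineProperty.iff_of_isAffine (P := MorphismProperty.isomorphisms Scheme)).2
    ⟨inferInstance, ?_⟩
  have hV : ∀ V, V = P.basicOpen b → IsIso (κ.app V) := fun V e => by subst e; exact hiso
  rw [morphismRestrict_appTop]
  exact @IsIso.comp_isIso _ _ _ _ _ _ _ (hV _ (Scheme.Opens.ι_image_top _)) inferInstance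

variable {X S : Scheme.{u}} {p : X ⟶ S} (D : SchDD p)

/-- The unit of the equivalence relation. -/
noncomputable def unit₂ : D.obj.left ⟶ Rel₂ D :=
  pullback.lift (𝟙 _) D.obj.hom (by rw [Category.id_comp])

theorem unit₂_src : unit₂ D ≫ src D = 𝟙 _ := pullback.lift_fst _ _ _

theorem unit₂_act : unit₂ D ≫ act D = 𝟙 _ := by
  rw [unit₂, ← phi_eq_act D D.obj.hom D.obj.hom rfl ⟨𝟙 _, Category.id_comp _⟩, D.φ_self]

/-- Transitivity of the equivalence relation. -/
theorem act_act {T : Scheme.{u}} (a b c : T ⟶ Rel₂ D) (h1 : b ≫ src D = a ≫ act D)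
    (h2 : c ≫ src D = a ≫ src D)
    (h3 : b ≫ pullback.snd (D.obj.hom ≫ p) p = c ≫ pullback.snd (D.obj.hom ≫ p) p) :
    b ≫ act D = c ≫ act D := by
  let y₀ := a ≫ src D ≫ D.obj.hom
  let y₁ := a ≫ pullback.snd (D.obj.hom ≫ p) p
  let y₂ := b ≫ pullback.snd (D.obj.hom ≫ p) p
  have h01 : y₀ ≫ p = y₁ ≫ p := by
    simp only [y₀, y₁, src, Category.assoc]
    exact congrArg (a ≫ ·) pullback.condition
  have h12 : y₁ ≫ p = y₂ ≫ p := by
    have e1 : b ≫ src D ≫ D.obj.hom = y₁ := by rw [reassoc_of% h1, act_hom]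
    rw [← e1]
    simp only [y₂, src, Category.assoc]
    exact congrArg (b ≫ ·) pullback.condition
  let v₀ : Lifts D.obj y₀ := ⟨a ≫ src D, Category.assoc _ _ _⟩
  have e0 : (D.φ y₀ y₁ h01 v₀).1 = a ≫ act D := by
    rw [phi_eq_act D y₀ y₁ h01 v₀]
    congr 1
    exact pullback.hom_ext (pullback.lift_fst _ _ _) (pullback.lift_snd _ _ _)
  have := congrArg Subtype.val (D.φ_comp y₀ y₁ y₂ h01 h12 v₀)
  rw [phi_eq_act D y₁ y₂, phi_eq_act D y₀ y₂] at this
  refine Eq.trans ?_ (this.trans ?_)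
  · congr 1
    exact pullback.hom_ext (h1.trans ((pullback.lift_fst _ _ _).trans e0).symm)
      (pullback.lift_snd _ _ _).symm
  · congr 1
    exact pullback.hom_ext ((pullback.lift_fst _ _ _).trans h2.symm)
      ((pullback.lift_snd _ _ _).trans h3)

/-- The saturation of a set. -/
def satSet (s : Set D.obj.left) : Set D.obj.left := act D '' (src D ⁻¹' s)

theorem subset_satSet (s : Set D.obj.left) : s ⊆ satSet D s := fun v hv =>
  ⟨unit₂ D v, by rwa [Set.mem_preimage, ← Scheme.Hom.comp_apply, unit₂_src],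
    by rw [← Scheme.Hom.comp_apply, unit₂_act]; rfl⟩

theorem act_swap_apply (r : Rel₂ D) : act D (swap D r) = src D r := by
  rw [← Scheme.Hom.comp_apply, swap_act]

theorem src_swap_apply (r : Rel₂ D) : src D (swap D r) = act D r := by
  rw [← Scheme.Hom.comp_apply, swap_src]

theorem mem_satSet_of_src {s : Set D.obj.left} {r : Rel₂ D} (h : src D r ∈ satSet D s) :
    act D r ∈ satSet D s := by
  obtain ⟨q, hq, e⟩ := h
  obtain ⟨π, hπ₁, hπ₂⟩ := Scheme.Pullback.exists_preimage_pullback (f := act D) (g := src D) q r e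
  let a := pullback.fst (act D) (src D)
  let b := pullback.snd (act D) (src D)
  have hab : b ≫ src D = a ≫ act D := pullback.condition.symm
  let c : pullback (act D) (src D) ⟶ Rel₂ D :=
    pullback.lift (a ≫ src D) (b ≫ pullback.snd (D.obj.hom ≫ p) p) (by
      have e1 : (b ≫ src D ≫ D.obj.hom) ≫ p = (a ≫ pullback.snd (D.obj.hom ≫ p) p) ≫ p := by
        rw [reassoc_of% hab, act_hom]
      simp only [src, Category.assoc] at e1 ⊢
      rw [pullback.condition] at e1 ⊢
      exact e1.symm)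
  have hc : b ≫ act D = c ≫ act D := act_act D a b c hab (pullback.lift_fst _ _ _)
    (pullback.lift_snd _ _ _).symm
  refine ⟨c π, ?_, ?_⟩
  · rw [Set.mem_preimage, ← Scheme.Hom.comp_apply,
      show c ≫ src D = a ≫ src D from pullback.lift_fst _ _ _, Scheme.Hom.comp_apply, hπ₁]
    exact hq
  · rw [← Scheme.Hom.comp_apply, ← hc, Scheme.Hom.comp_apply, hπ₂]

theorem mem_satSet_of_act {s : Set D.obj.left} {r : Rel₂ D} (h : act D r ∈ satSet D s) :
    src D r ∈ satSet D s := by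
  rw [← act_swap_apply]
  exact mem_satSet_of_src D (by rwa [src_swap_apply])

theorem satSet_inter_eq_empty {s t : Set D.obj.left} (h : satSet D s ∩ t = ∅) :
    satSet D s ∩ satSet D t = ∅ := by
  refine Set.eq_empty_of_forall_notMem fun x ⟨hx, r, hr, e⟩ => ?_
  have h1 : src D r ∈ satSet D s := mem_satSet_of_act D (e ▸ hx)
  exact Set.eq_empty_iff_forall_notMem.1 h _ ⟨h1, hr⟩

variable [IsAffineHom p] [Flat p]

instance : IsAffineHom (src D) := MorphismProperty.pullback_fst _ _ ‹IsAffineHom p›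
instance : Flat (src D) := by unfold src; infer_instance
instance : IsAffineHom (act D) := by rw [← swap_src]; infer_instance
instance : Flat (act D) := by rw [← swap_src]; infer_instance

theorem exists_specializes_of_mem_closure {Z : Set D.obj.left} (hZ : IsClosed Z) {y : D.obj.left}
    (hy : y ∈ closure (satSet D Z)) : ∃ x ∈ satSet D Z, x ⤳ y := by
  let K := Scheme.IdealSheafData.vanishingIdeal
    (⟨src D ⁻¹' Z, hZ.preimage (src D).continuous⟩ : Closeds (Rel₂ D))
  have hK : Set.range K.subschemeι = src D ⁻¹' Z := by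
    rw [Scheme.IdealSheafData.range_subschemeι, Scheme.IdealSheafData.coe_support_vanishingIdeal]
    rfl
  have e : Set.range (K.subschemeι ≫ act D) = satSet D Z := by
    rw [Scheme.Hom.comp_base, TopCat.coe_comp, Set.range_comp, hK]
    rfl
  rw [← e] at hy ⊢
  obtain ⟨x, hx⟩ := exists_specializes_of_mem_closure_range _ y hy
  exact ⟨_, ⟨x, rfl⟩, hx⟩

theorem exists_saturated_open {U₀ U₂ : D.obj.left.Opens}
    (h : satSet D (U₀ : Set D.obj.left) ⊆ (U₂ : Set D.obj.left)) :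
    ∃ O : D.obj.left.Opens, Saturated D O ∧ U₀ ≤ O ∧ O ≤ U₂ := by
  let Z : Set D.obj.left := (U₂ : Set D.obj.left)ᶜ
  let C := closure (satSet D Z)
  have hZ : IsClosed Z := U₂.2.isClosed_compl
  have hC : ∀ r : Rel₂ D, src D r ∈ C → act D r ∈ C := fun r hr => by
    obtain ⟨x, hx, hxy⟩ := exists_specializes_of_mem_closure D hZ hr
    obtain ⟨r', hr', e⟩ := Flat.generalizingMap (src D) hxy
    exact (hr'.map (act D).continuous).mem_closed isClosed_closure
      (subset_closure (mem_satSet_of_src D (e ▸ hx)))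
  have hd : ∀ v ∈ satSet D (U₀ : Set D.obj.left), v ∉ C := by
    rintro _ ⟨r, hr, rfl⟩ hv
    obtain ⟨x, hx, hxy⟩ := exists_specializes_of_mem_closure D hZ hv
    obtain ⟨r', hr', e⟩ := Flat.generalizingMap (act D) hxy
    have h1 : src D r' ∈ U₀ := (hr'.map (src D).continuous).mem_open U₀.2 hr
    have h2 : x ∈ satSet D (U₀ : Set D.obj.left) := ⟨r', h1, e⟩
    have h3 : satSet D (U₀ : Set D.obj.left) ∩ satSet D Z = ∅ := satSet_inter_eq_empty D
      (Set.eq_empty_of_forall_notMem fun w ⟨a, b⟩ => b (h a))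
    exact Set.eq_empty_iff_forall_notMem.1 h3 x ⟨h2, hx⟩
  refine ⟨⟨Cᶜ, isClosed_closure.isOpen_compl⟩, ?_, fun v hv => hd v (subset_satSet D _ hv),
    fun v hv => by_contra fun hv' => hv (subset_closure (subset_satSet D Z hv'))⟩
  rintro T x₀ x₁ hx v hv _ ⟨t, rfl⟩ hc
  refine hv ⟨t, rfl⟩ ?_
  rw [phi_eq_act, Scheme.Hom.comp_apply] at hc
  have h1 := hC (swap D (pullback.lift v.1 x₁ (pair_compat D hx v) t)) (by rwa [src_swap_apply])
  rw [act_swap_apply, ← Scheme.Hom.comp_apply] at h1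
  rwa [src, pullback.lift_fst] at h1

/-- Separatedness of a scheme all of whose quasi-compact opens are quasi-affine. -/
theorem quasiSeparatedSpace_of_qaff {V : Scheme.{u}}
    (h : ∀ U : V.Opens, IsCompact (U : Set V) → U.toScheme.IsQuasiAffine) : QuasiSeparatedSpace V := by
  refine ⟨fun A B hA hA' hB hB' => ?_⟩
  let W : V.Opens := ⟨A, hA⟩ ⊔ ⟨B, hB⟩
  have := h W (by simpa [W] using hA'.union hB')
  have : W.toScheme.IsSeparated := inferInstance
  have : QuasiSeparatedSpace W.toScheme :=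
    quasiSeparatedSpace_of_quasiSeparated (terminal.from W.toScheme)
  have hs : IsQuasiSeparated (W : Set V) :=
    (isQuasiSeparated_iff_quasiSeparatedSpace _ W.2).2 ‹QuasiSeparatedSpace W.toScheme›
  exact hs A B (by simp [W]) hA hA' (by simp [W]) hB hB'

set_option maxHeartbeats 800000 in
/-- A saturated open inside a quasi-affine open is effective. -/
theorem exists_chart_of_le [IsAffine X] [IsAffine S] [Surjective p] [QuasiSeparatedSpace D.obj.left]
    (U₂ U₃ : D.obj.left.Opens) [U₂.toScheme.IsQuasiAffine] [U₃.toScheme.IsQuasiAffine]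
    (h23 : ∀ r : Rel₂ D, src D r ∈ U₂ → act D r ∈ U₃) {O : D.obj.left.Opens} (hO : Saturated D O)
    (hO2 : O ≤ U₂) : ∃ C : Chart D, C.O = O := by
  let uu : U₂.toScheme ⟶ S := U₂.ι ≫ D.obj.hom ≫ p
  let cU : pullback uu p ⟶ U₂.toScheme := pullback.fst _ _
  let cW : pullback uu p ⟶ X := pullback.snd _ _
  let j : pullback uu p ⟶ Rel₂ D := pullback.lift (cU ≫ U₂.ι) cW (by
    simpa [uu, cU, cW] using pullback.condition (f := uu) (g := p))
  have hjs : j ≫ src D = cU ≫ U₂.ι := pullback.lift_fst _ _ _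
  have hjx : j ≫ pullback.snd (D.obj.hom ≫ p) p = cW := pullback.lift_snd _ _ _
  let a := j ≫ act D
  have ha : a ≫ D.obj.hom = cW := by rw [Category.assoc, act_hom, hjx]
  let δ : U₂.toScheme ⟶ pullback uu p :=
    pullback.lift (𝟙 _) (U₂.ι ≫ D.obj.hom) (by simp [uu])
  have hδj : δ ≫ j = U₂.ι ≫ unit₂ D := by
    apply pullback.hom_ext
    · show (δ ≫ j) ≫ src D = (U₂.ι ≫ unit₂ D) ≫ src D
      rw [Category.assoc, Category.assoc, hjs, unit₂_src, Category.comp_id, ← Category.assoc,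
        show δ ≫ cU = 𝟙 _ from pullback.lift_fst _ _ _, Category.id_comp]
    · show (δ ≫ j) ≫ pullback.snd (D.obj.hom ≫ p) p = (U₂.ι ≫ unit₂ D) ≫ pullback.snd (D.obj.hom ≫ p) p
      rw [Category.assoc, Category.assoc, hjx, show unit₂ D ≫ pullback.snd (D.obj.hom ≫ p) p = D.obj.hom
        from pullback.lift_snd _ _ _]
      exact pullback.lift_snd _ _ _
  have hδa : δ ≫ a = U₂.ι := by rw [reassoc_of% hδj, unit₂_act, Category.comp_id]
  have : IsAffineHom cU := MorphismProperty.pullback_fst uu p inferInstance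
  have : (pullback uu p).IsQuasiAffine := Scheme.IsQuasiAffine.of_isAffineHom cU
  have haU₃ : Set.range a ⊆ (U₃ : Set D.obj.left) := by
    rintro _ ⟨z, rfl⟩
    refine h23 (j z) ?_
    rw [← Scheme.Hom.comp_apply, hjs]
    exact (cU z).2
  let a₃ : pullback uu p ⟶ U₃.toScheme := IsOpenImmersion.lift U₃.ι a (by rwa [Scheme.Opens.range_ι])
  have ha₃ : a₃ ≫ U₃.ι = a := IsOpenImmersion.lift_fac _ _ _
  let R₀ : (pullback uu p).Opens := a ⁻¹ᵁ U₂
  have : QuasiCompact a := quasiCompact_of_compactSpace _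
  have : CompactSpace R₀.toScheme := isCompact_iff_compactSpace.1
    (a.isCompact_preimage (isCompact_iff_compactSpace.2 (inferInstance : CompactSpace U₂.toScheme)))
  have : R₀.toScheme.IsQuasiAffine := Scheme.IsQuasiAffine.of_isImmersion R₀.ι
  let s : R₀.toScheme ⟶ U₂.toScheme := R₀.ι ≫ cU
  let t : R₀.toScheme ⟶ U₂.toScheme := a.resLE U₂ R₀ le_rfl
  have ht : t ≫ U₂.ι = R₀.ι ≫ a := Scheme.Hom.resLE_comp_ι _ _
  have hst : s ≫ uu = t ≫ uu := by
    simp only [s, uu, Category.assoc, reassoc_of% ht, reassoc_of% ha]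
    exact congrArg (R₀.ι ≫ ·) pullback.condition
  let cR : pullback (s ≫ uu) p ⟶ R₀.toScheme := pullback.fst _ _
  let wR : pullback (s ≫ uu) p ⟶ X := pullback.snd _ _
  have : IsAffineHom cR := MorphismProperty.pullback_fst (s ≫ uu) p inferInstance
  have : (pullback (s ≫ uu) p).IsQuasiAffine := Scheme.IsQuasiAffine.of_isAffineHom cR
  let p₁ : pullback (s ≫ uu) p ⟶ pullback uu p := pullback.lift (cR ≫ s) wR (by
    exact (Category.assoc _ _ _).trans pullback.condition)
  let p₂ : pullback (s ≫ uu) p ⟶ pullback uu p := pullback.lift (cR ≫ t) wR (by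
    exact ((Category.assoc _ _ _).trans (congrArg (cR ≫ ·) hst.symm)).trans pullback.condition)
  have hp₁U : p₁ ≫ cU = cR ≫ s := pullback.lift_fst _ _ _
  have hp₁W : p₁ ≫ cW = wR := pullback.lift_snd _ _ _
  have hp₂U : p₂ ≫ cU = cR ≫ t := pullback.lift_fst _ _ _
  have hp₂W : p₂ ≫ cW = wR := pullback.lift_snd _ _ _
  have hpa : p₁ ≫ a = p₂ ≫ a := by
    have := act_act D (cR ≫ R₀.ι ≫ j) (p₂ ≫ j) (p₁ ≫ j)
      (by simp only [Category.assoc, hjs, reassoc_of% hp₂U, ht]; rfl)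
      (by simp only [Category.assoc, hjs, reassoc_of% hp₁U, s])
      (by simp only [Category.assoc, hjx, hp₁W, hp₂W])
    simpa [a, Category.assoc] using this.symm
  have hpa₃ : p₁ ≫ a₃ = p₂ ≫ a₃ := by
    refine (cancel_mono U₃.ι).mp ?_
    simp only [Category.assoc, ha₃]
    exact hpa
  -- invariant functions and the scheme they define
  let B₀ := RingHom.eqLocus s.appTop.hom t.appTop.hom
  let ι₀ : CommRingCat.of B₀ ⟶ Γ(U₂.toScheme, ⊤) := CommRingCat.ofHom B₀.subtype
  let α₀ : Γ(S, ⊤) ⟶ CommRingCat.of B₀ :=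
    CommRingCat.ofHom (uu.appTop.hom.codRestrict B₀ fun x => congr(($(hst)).appTop.hom x))
  let u₀ : U₂.toScheme ⟶ Spec (CommRingCat.of B₀) := U₂.toScheme.toSpecΓ ≫ Spec.map ι₀
  let z₀ : Spec (CommRingCat.of B₀) ⟶ S := Spec.map α₀ ≫ S.isoSpec.inv
  have hu₀ : u₀ ≫ z₀ = uu := by
    simp only [u₀, z₀, Category.assoc]
    rw [← Spec.map_comp_assoc, show α₀ ≫ ι₀ = uu.appTop from rfl, ← Scheme.toSpecΓ_naturality_assoc]
    simp [Scheme.isoSpec]
  have happ : u₀.appTop = (Scheme.ΓSpecIso (CommRingCat.of B₀)).hom ≫ ι₀ := by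
    rw [Scheme.Hom.comp_appTop, Scheme.toSpecΓ_appTop, Scheme.ΓSpecIso_naturality]
  have hinj : Function.Injective u₀.appTop.hom := by
    rw [happ, CommRingCat.hom_comp, RingHom.coe_comp]
    exact Subtype.val_injective.comp
      (ConcreteCategory.bijective_of_isIso (Scheme.ΓSpecIso (CommRingCat.of B₀)).hom).injective
  have hrange : ∀ x, s.appTop.hom x = t.appTop.hom x ↔ x ∈ Set.range u₀.appTop.hom := by
    intro x
    rw [happ, CommRingCat.hom_comp, RingHom.coe_comp, Set.range_comp,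
      (ConcreteCategory.bijective_of_isIso (Scheme.ΓSpecIso (CommRingCat.of B₀)).hom).surjective.range_eq,
      Set.image_univ]
    exact ⟨fun h => ⟨⟨x, h⟩, rfl⟩, by rintro ⟨⟨y, hy⟩, rfl⟩; exact hy⟩
  have hst₀ : s ≫ u₀ = t ≫ u₀ := ext_of_isAffine (by ext x; exact (hrange _).2 ⟨x, rfl⟩)
  let Z₀ : Over S := Over.mk z₀
  have : IsAffine Z₀.left := inferInstanceAs (IsAffine (Spec (CommRingCat.of B₀)))
  have : IsAffine (pullback p Z₀.hom) := inferInstanceAs (IsAffine (pullback p z₀))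
  let u₀' : pullback uu p ⟶ pullback p Z₀.hom :=
    pullback.lift cW (cU ≫ u₀) (by
      rw [Category.assoc, show u₀ ≫ Z₀.hom = uu from hu₀]; exact pullback.condition.symm)
  obtain ⟨hinj', hrange'⟩ := H13AlgSp.injective_and_range_of_flat (r := p.appTop) p.flat_appTop
    (isPushout_appTop_of_isPullback (IsPullback.of_hasPullback p Z₀.hom).flip).flip
    (H12AlgSp.isPushout_appTop_of_flat (IsPullback.of_hasPullback uu p)).flip
    (H12AlgSp.isPushout_appTop_of_flat (IsPullback.of_hasPullback (s ≫ uu) p)).flip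
    (ι := u₀.appTop) (by rw [← Scheme.Hom.comp_appTop, show u₀ ≫ Z₀.hom = uu from hu₀])
    (f := s.appTop) (g := t.appTop) (by rw [← Scheme.Hom.comp_appTop])
    (by rw [← Scheme.Hom.comp_appTop, hst]) hinj hrange
    (ι' := u₀'.appTop) (by rw [← Scheme.Hom.comp_appTop, pullback.lift_fst])
    (by rw [← Scheme.Hom.comp_appTop, ← Scheme.Hom.comp_appTop, pullback.lift_snd])
    (f' := p₁.appTop) (g' := p₂.appTop) (by rw [← Scheme.Hom.comp_appTop, hp₁W])
    (by rw [← Scheme.Hom.comp_appTop, ← Scheme.Hom.comp_appTop, hp₁U])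
    (by rw [← Scheme.Hom.comp_appTop, hp₂W])
    (by rw [← Scheme.Hom.comp_appTop, ← Scheme.Hom.comp_appTop, hp₂U])
  have hp : p₁ ≫ u₀' = p₂ ≫ u₀' := by
    apply pullback.hom_ext
    · simp only [Category.assoc, u₀', pullback.lift_fst, hp₁W, hp₂W]
    · simp only [Category.assoc, u₀', pullback.lift_snd, reassoc_of% hp₁U, reassoc_of% hp₂U, hst₀]
  let κ : U₂.toScheme ⟶ pullback p Z₀.hom := δ ≫ u₀'
  have hκfst : κ ≫ pullback.fst p Z₀.hom = U₂.ι ≫ D.obj.hom := by
    simp [κ, u₀', δ, cW]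
  have hκsnd : κ ≫ pullback.snd p Z₀.hom = u₀ := by
    simp only [κ, u₀', δ, cU, Category.assoc, pullback.lift_snd, pullback.lift_fst_assoc]
    exact Category.id_comp _
  -- local inversion
  have hloc : ∀ f : Γ(U₃.toScheme, ⊤), IsAffineOpen (U₃.toScheme.basicOpen f) →
      U₃.toScheme.basicOpen f ≤ U₃.ι ⁻¹ᵁ U₂ → ∃ b : Γ(pullback p Z₀.hom, ⊤),
      IsIso (κ ∣_ (pullback p Z₀.hom).basicOpen b) ∧
        κ ⁻¹ᵁ (pullback p Z₀.hom).basicOpen b = U₂.ι ⁻¹ᵁ (U₃.ι ''ᵁ U₃.toScheme.basicOpen f) := by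
    intro f hf hf2
    have h23' : U₂ ≤ U₃ := fun v hv => by
      have := h23 (unit₂ D v) (by rwa [← Scheme.Hom.comp_apply, unit₂_src])
      rwa [← Scheme.Hom.comp_apply, unit₂_act] at this
    let i₂ : U₂.toScheme ⟶ U₃.toScheme := D.obj.left.homOfLE h23'
    have hi₂ : δ ≫ a₃ = i₂ := by
      rw [← cancel_mono U₃.ι, Category.assoc, ha₃, hδa, Scheme.homOfLE_ι]
    let y := a₃.appTop f
    obtain ⟨b, hb⟩ := hrange' y congr(($(hpa₃)).appTop.hom f)
    have hbf : κ.appTop b = i₂.appTop f := by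
      rw [show κ.appTop b = δ.appTop (u₀'.appTop b) from rfl, hb, ← hi₂]; rfl
    have hpre : κ ⁻¹ᵁ (pullback p Z₀.hom).basicOpen b = i₂ ⁻¹ᵁ U₃.toScheme.basicOpen f := by
      rw [Scheme.preimage_basicOpen_top, hbf, Scheme.preimage_basicOpen_top]
    have hrg : U₃.toScheme.basicOpen f ≤ i₂.opensRange := fun z hz => by
      refine ⟨⟨z.1, hf2 hz⟩, Subtype.ext ?_⟩
      exact congr(($(D.obj.left.homOfLE_ι h23')) ⟨z.1, hf2 hz⟩)
    refine ⟨b, isIso_restrict_basicOpen κ b
      (by rw [hpre]; exact hf.preimage_of_isOpenImmersion i₂ hrg) (fun g => ?_) (fun h hh => ?_), ?_⟩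
    · have : IsIso (i₂.app (U₃.toScheme.basicOpen f)) := Scheme.Hom.isIso_app i₂ _ hrg
      obtain ⟨g₃, hg₃⟩ := (ConcreteCategory.bijective_of_isIso (i₂.app (U₃.toScheme.basicOpen f))).2
        (U₂.toScheme.presheaf.map (eqToHom hpre.symm).op g)
      have := isLocalization_basicOpen_of_qcqs (X := U₃.toScheme) (U := ⊤) isCompact_univ
        (isQuasiSeparated_univ) f
      obtain ⟨⟨h₀, ⟨_, n, rfl⟩⟩, hh₀⟩ := IsLocalization.surj (Submonoid.powers f) g₃
      obtain ⟨b₀, hb₀⟩ := hrange' (a₃.appTop h₀) congr(($(hpa₃)).appTop.hom h₀)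
      have hb₀f : κ.appTop b₀ = i₂.appTop h₀ := by
        rw [show κ.appTop b₀ = δ.appTop (u₀'.appTop b₀) from rfl, hb₀, ← hi₂]; rfl
      refine ⟨b₀, n, ?_⟩
      have hi : ∀ c, i₂.appLE ⊤ (κ ⁻¹ᵁ (pullback p Z₀.hom).basicOpen b) (by simp) c =
          U₂.toScheme.presheaf.map (eqToHom hpre).op
            (i₂.app (U₃.toScheme.basicOpen f) (U₃.toScheme.presheaf.map (homOfLE le_top).op c)) := by
        intro c
        simp only [Scheme.Hom.app_eq_appLE, ← CommRingCat.comp_apply, Scheme.Hom.map_appLE,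
          Scheme.Hom.appLE_map]
      have hk : ∀ c d, κ.appTop c = i₂.appTop d →
          κ.appLE ⊤ (κ ⁻¹ᵁ (pullback p Z₀.hom).basicOpen b) (by simp) c =
            i₂.appLE ⊤ (κ ⁻¹ᵁ (pullback p Z₀.hom).basicOpen b) (by simp) d := fun c d e => by
        simp only [Scheme.Hom.appLE, CommRingCat.comp_apply]
        exact congrArg _ e
      have hg : U₂.toScheme.presheaf.map (eqToHom hpre).op (i₂.app (U₃.toScheme.basicOpen f) g₃) = g := by
        rw [hg₃, ← CommRingCat.comp_apply, ← Functor.map_comp]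
        simp
        rfl
      rw [hk _ _ hbf, hk _ _ hb₀f, hi, hi, ← hg, ← map_pow, ← map_pow, ← map_mul, ← map_mul]
      exact congrArg (fun c => U₂.toScheme.presheaf.map (eqToHom hpre).op
        (i₂.app (U₃.toScheme.basicOpen f) c)) (by rw [map_pow] at hh₀; exact hh₀)
    · let W : (pullback uu p).Opens := (pullback uu p).basicOpen y
      have hW : W ≤ a ⁻¹ᵁ U₂ := by
        intro z hz
        have : a₃ z ∈ U₃.toScheme.basicOpen f := by
          have hz' : z ∈ (pullback uu p).basicOpen y := hz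
          rw [← Scheme.preimage_basicOpen_top] at hz'; exact hz'
        show a z ∈ U₂
        rw [← ha₃]
        exact hf2 this
      let r : W.toScheme ⟶ R₀.toScheme := (pullback uu p).homOfLE hW
      have hr : r ≫ R₀.ι = W.ι := Scheme.homOfLE_ι _ _
      let r' : W.toScheme ⟶ pullback (s ≫ uu) p := pullback.lift r (W.ι ≫ cW) (by
        simp only [s, Category.assoc, reassoc_of% hr]
        exact congrArg (W.ι ≫ ·) pullback.condition)
      have h1 : r' ≫ p₁ = W.ι := by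
        apply pullback.hom_ext
        · show (r' ≫ p₁) ≫ cU = W.ι ≫ cU
          rw [Category.assoc, hp₁U, pullback.lift_fst_assoc, reassoc_of% hr]
        · show (r' ≫ p₁) ≫ cW = W.ι ≫ cW
          rw [Category.assoc, hp₁W, pullback.lift_snd]
      have h2 : r' ≫ p₂ = (r ≫ t) ≫ δ := by
        apply pullback.hom_ext
        · show (r' ≫ p₂) ≫ cU = ((r ≫ t) ≫ δ) ≫ cU
          simp only [Category.assoc, hp₂U, r', cR, pullback.lift_fst_assoc, δ, cU, pullback.lift_fst,
            Category.comp_id]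
        · show (r' ≫ p₂) ≫ cW = ((r ≫ t) ≫ δ) ≫ cW
          simp only [Category.assoc, hp₂W, r', wR, pullback.lift_snd, δ, cW,
            reassoc_of% ht, ha, reassoc_of% hr]
      have h3 : W.ι ≫ u₀' = (r ≫ t) ≫ κ := by
        rw [← h1, Category.assoc, hp, ← Category.assoc, h2, Category.assoc]
      have h4 : (⊤ : W.toScheme.Opens) ≤ (r ≫ t) ⁻¹ᵁ (κ ⁻¹ᵁ (pullback p Z₀.hom).basicOpen b) := by
        rintro z -
        show (r ≫ t) z ∈ κ ⁻¹ᵁ (pullback p Z₀.hom).basicOpen b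
        rw [hpre]
        have hmem : a₃ z.1 ∈ U₃.toScheme.basicOpen f := by
          have : z.1 ∈ (pullback uu p).basicOpen y := z.2
          rw [← Scheme.preimage_basicOpen_top] at this
          exact this
        have e : i₂ ((r ≫ t) z) = a₃ z.1 := U₃.ι.isOpenEmbedding.injective (by
          show (((r ≫ t) ≫ i₂) ≫ U₃.ι) z = (W.ι ≫ a₃ ≫ U₃.ι) z
          rw [ha₃, Category.assoc (r ≫ t), show i₂ ≫ U₃.ι = U₂.ι from Scheme.homOfLE_ι _ _,
            Category.assoc, ht, reassoc_of% hr])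
        show i₂ ((r ≫ t) z) ∈ U₃.toScheme.basicOpen f
        rwa [e]
      have hz : W.ι.appTop (u₀'.appTop h) = 0 := by
        rw [← CommRingCat.comp_apply, ← Scheme.Hom.comp_appTop, h3, Scheme.Hom.comp_appTop,
          CommRingCat.comp_apply]
        have := congrArg ((r ≫ t).appLE _ ⊤ h4).hom hh
        rw [map_zero] at this
        refine Eq.trans ?_ this
        rw [← CommRingCat.comp_apply, ← CommRingCat.comp_apply, Scheme.Hom.appLE_comp_appLE,
          ← Scheme.Hom.comp_appTop]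
        simp only [Scheme.Hom.appTop, Scheme.Hom.app_eq_appLE]
        rfl
      obtain ⟨N, hN⟩ := exists_pow_mul_eq_zero_of_res_basicOpen_eq_zero_of_isCompact (pullback uu p)
        (U := ⊤) isCompact_univ (u₀'.appTop h) y (by
          have e : W ≤ W.ι ''ᵁ ⊤ := (Scheme.Opens.ι_image_top W).ge
          have := congrArg ((pullback uu p).presheaf.map (homOfLE e).op).hom hz
          rw [map_zero] at this
          refine Eq.trans ?_ this
          rw [Scheme.Opens.ι_appTop]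
          exact ConcreteCategory.congr_hom
            (((pullback uu p).presheaf.map_comp (homOfLE (le_top : W.ι ''ᵁ ⊤ ≤ ⊤)).op (homOfLE e).op)) _)
      exact ⟨N, hinj' (by rw [map_mul, map_pow, hb, map_zero]; exact hN)⟩
    · rw [hpre]
      ext z
      exact ⟨fun hz => ⟨_, hz, congr(($(D.obj.left.homOfLE_ι h23')) z)⟩, fun ⟨w, hw, e⟩ => by
        have : i₂ z = w := U₃.ι.isOpenEmbedding.injective
          ((congr(($(D.obj.left.homOfLE_ι h23')) z)).trans e.symm)
        exact (congrArg (· ∈ U₃.toScheme.basicOpen f) this).mpr hw⟩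
  have hlocal : ∀ v : U₂.toScheme, ∃ b : Γ(pullback p Z₀.hom, ⊤),
      v ∈ κ ⁻¹ᵁ (pullback p Z₀.hom).basicOpen b ∧ IsIso (κ ∣_ (pullback p Z₀.hom).basicOpen b) := by
    intro v
    have hv3 : v.1 ∈ U₃ := by
      have := h23 (unit₂ D v.1) (by rw [← Scheme.Hom.comp_apply, unit₂_src]; exact v.2)
      rwa [← Scheme.Hom.comp_apply, unit₂_act] at this
    obtain ⟨_, ⟨f, hf, rfl⟩, hvf, hf2⟩ := Opens.isBasis_iff_nbhd.mp
      (Scheme.IsQuasiAffine.isBasis_basicOpen U₃.toScheme) (U := U₃.ι ⁻¹ᵁ U₂) (x := ⟨v.1, hv3⟩) v.2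
    obtain ⟨b, hb, hpre⟩ := hloc f hf hf2
    have hv : v ∈ κ ⁻¹ᵁ (pullback p Z₀.hom).basicOpen b := by
      rw [hpre]
      exact ⟨⟨v.1, hv3⟩, hvf, rfl⟩
    exact ⟨b, hv, hb⟩
  have hinjκ : Function.Injective κ := by
    intro v w e
    obtain ⟨b, hv, hb⟩ := hlocal v
    have hw : κ w ∈ (pullback p Z₀.hom).basicOpen b := by rw [← e]; exact hv
    have : (κ ∣_ (pullback p Z₀.hom).basicOpen b) ⟨v, hv⟩ = (κ ∣_ (pullback p Z₀.hom).basicOpen b) ⟨w, hw⟩ := by
      apply Subtype.ext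
      show ((κ ∣_ _) ≫ Scheme.Opens.ι _) _ = ((κ ∣_ _) ≫ Scheme.Opens.ι _) _
      rw [morphismRestrict_ι]
      exact e
    exact congrArg Subtype.val ((Scheme.Hom.homeomorph (κ ∣_ _)).injective this)
  have hopen : ∀ v, ∃ A : U₂.toScheme.Opens, v ∈ A ∧ IsOpenImmersion (A.ι ≫ κ) := fun v => by
    obtain ⟨b, hv, hb⟩ := hlocal v
    exact ⟨_, hv, by rw [← morphismRestrict_ι]; infer_instance⟩
  choose A hA hAo using hopen
  have : IsOpenImmersion κ := by
    refine IsOpenImmersion.iff_isIso_stalkMap.mpr ⟨⟨⟨?_, hinjκ⟩, ?_⟩, fun v => ?_⟩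
    · refine ⟨le_antisymm κ.continuous.le_induced fun s hs => ?_⟩
      refine ⟨κ '' s, ?_, Set.preimage_image_eq _ hinjκ⟩
      rw [show κ '' s = ⋃ v, ((A v).ι ≫ κ).base '' ((A v).ι.base ⁻¹' s) by
        refine Set.Subset.antisymm ?_ (Set.iUnion_subset fun v => ?_)
        · rintro _ ⟨z, hz, rfl⟩
          exact Set.mem_iUnion.2 ⟨z, ⟨z, hA z⟩, hz, rfl⟩
        · rintro _ ⟨z, hz, rfl⟩
          exact ⟨_, hz, rfl⟩]
      exact isOpen_iUnion fun v => ((hAo v).1).isOpenMap _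
        (hs.preimage (A v).ι.continuous)
    · rw [show Set.range κ = ⋃ v, Set.range ((A v).ι ≫ κ) by
        refine Set.Subset.antisymm ?_ (Set.iUnion_subset fun v => ?_)
        · rintro _ ⟨z, rfl⟩
          exact Set.mem_iUnion.2 ⟨z, ⟨z, hA z⟩, rfl⟩
        · rintro _ ⟨z, rfl⟩
          exact ⟨_, rfl⟩]
      exact isOpen_iUnion fun v => ((hAo v).1).isOpen_range
    · have h1 := (IsOpenImmersion.iff_isIso_stalkMap.mp (hAo v)).2 ⟨v, hA v⟩
      rw [Scheme.Hom.stalkMap_comp] at h1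
      have h2 : IsIso ((A v).ι.stalkMap ⟨v, hA v⟩) :=
        (IsOpenImmersion.iff_isIso_stalkMap.mp inferInstance).2 _
      exact @IsIso.of_isIso_comp_right _ _ _ _ _ _ ((A v).ι.stalkMap ⟨v, hA v⟩) h2 h1
  -- the chart
  let ι₂ : O.toScheme ⟶ U₂.toScheme := D.obj.left.homOfLE hO2
  have hι₂ : ι₂ ≫ U₂.ι = O.ι := Scheme.homOfLE_ι _ _
  let k : O.toScheme ⟶ pullback p Z₀.hom := ι₂ ≫ κ
  have hkfst : k ≫ pullback.fst p Z₀.hom = O.ι ≫ D.obj.hom := by
    rw [Category.assoc, hκfst, reassoc_of% hι₂]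
  have hksnd : k ≫ pullback.snd p Z₀.hom = ι₂ ≫ u₀ := by rw [Category.assoc, hκsnd]
  -- the map to the envelope is invariant
  have hinv : ∀ {T : Scheme.{u}} (x₀ x₁ : T ⟶ X) (h : x₀ ≫ p = x₁ ≫ p)
      (v : Lifts (Over.mk (O.ι ≫ D.obj.hom)) x₀),
      (restrictMap hO x₀ x₁ h v).1 ≫ k = (Desc.canMap p Z₀ x₀ x₁ h ⟨v.1 ≫ k, by
        rw [Category.assoc]; exact (congrArg (v.1 ≫ ·) hkfst).trans v.2⟩).1 := by
    intro T x₀ x₁ h v
    let e : T ⟶ pullback uu p := pullback.lift (v.1 ≫ ι₂) x₁ (by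
      refine Eq.trans ?_ h
      refine Eq.trans ?_ (congrArg (· ≫ p) v.2)
      simp only [uu, Category.assoc, reassoc_of% hι₂]
      exact congrArg (v.1 ≫ ·) (Category.assoc _ _ _).symm)
    have hv : (restrictMap hO x₀ x₁ h v).1 ≫ O.ι = e ≫ a := by
      rw [restrictMap_val, phi_eq_act]
      refine Eq.trans ?_ (Category.assoc _ _ _)
      congr 1
      refine pullback.hom_ext ?_ ?_
      · refine (pullback.lift_fst _ _ _).trans ?_
        show v.1 ≫ O.ι = (e ≫ j) ≫ src D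
        simp only [e, Category.assoc, hjs, cU, pullback.lift_fst_assoc, hι₂]
      · refine (pullback.lift_snd _ _ _).trans ?_
        simp only [e, Category.assoc, hjx, cW, pullback.lift_snd]
    have hR : Set.range e ⊆ (R₀ : Set (pullback uu p :)) := by
      rintro _ ⟨z, rfl⟩
      show a (e z) ∈ U₂
      rw [← Scheme.Hom.comp_apply, ← hv]
      exact hO2 ((restrictMap hO x₀ x₁ h v).1 z).2
    let eR : T ⟶ R₀.toScheme := IsOpenImmersion.lift R₀.ι e (by rwa [Scheme.Opens.range_ι])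
    have heR : eR ≫ R₀.ι = e := IsOpenImmersion.lift_fac _ _ _
    have het : eR ≫ t = (restrictMap hO x₀ x₁ h v).1 ≫ ι₂ := by
      rw [← cancel_mono U₂.ι, Category.assoc, Category.assoc, ht, reassoc_of% heR, hι₂, hv]
    have hes : eR ≫ s = v.1 ≫ ι₂ := by
      rw [show eR ≫ s = e ≫ cU by simp only [s, ← Category.assoc, heR]]
      exact pullback.lift_fst _ _ _
    refine pullback.hom_ext ?_ ?_
    · refine ((Category.assoc _ _ _).trans (congrArg ((restrictMap hO x₀ x₁ h v).1 ≫ ·) hkfst)).trans ?_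
      exact (restrictMap hO x₀ x₁ h v).2.trans (pullback.lift_fst _ _ _).symm
    · refine Eq.trans ?_ (pullback.lift_snd _ _ _).symm
      simp only [Category.assoc, hksnd]
      rw [← Category.assoc, ← het, Category.assoc, ← hst₀, ← Category.assoc, hes, Category.assoc]
  let F : restrict hO ⟶ (toDD p).obj Z₀ := ⟨Over.homMk k hkfst, fun T x₀ x₁ h v w hw => by
    show (Desc.canMap p Z₀ x₀ x₁ h w).1 = (restrictMap hO x₀ x₁ h v).1 ≫ k
    rw [hinv x₀ x₁ h v]
    exact congrArg (fun w => (Desc.canMap p Z₀ x₀ x₁ h w).1) (Subtype.ext hw)⟩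
  -- the image is invariant
  let s' := pullback.snd p Z₀.hom
  have hsat : s' ⁻¹' (s' '' Set.range k) ⊆ Set.range k := by
    rintro y ⟨_, ⟨v, rfl⟩, e⟩
    obtain ⟨π, hπ₁, hπ₂⟩ := Scheme.Pullback.exists_preimage_pullback (f := s') (g := s') (k v) y e
    let a₁ := pullback.fst s' s'
    let a₂ := pullback.snd s' s'
    let g := pullback.fst a₁ k
    let v₁ := pullback.snd a₁ k
    have hg : g ≫ a₁ = v₁ ≫ k := pullback.condition
    obtain ⟨π', hπ'₁, -⟩ := Scheme.Pullback.exists_preimage_pullback (f := a₁) (g := k) π v hπ₁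
    let w : Lifts (Over.mk (O.ι ≫ D.obj.hom)) (v₁ ≫ k ≫ pullback.fst p Z₀.hom) :=
      ⟨v₁, by rw [hkfst]; rfl⟩
    have hx : (v₁ ≫ k ≫ pullback.fst p Z₀.hom) ≫ p = (g ≫ a₂ ≫ pullback.fst p Z₀.hom) ≫ p := by
      simp only [← reassoc_of% hg, Category.assoc, pullback.condition]
      rw [← Category.assoc a₁, ← Category.assoc a₂]
      exact congrArg (fun q => g ≫ q ≫ Z₀.hom) pullback.condition
    have := hinv _ _ hx w
    refine ⟨(restrictMap hO _ _ hx w).1 π', ?_⟩
    refine (congr($this π')).trans ?_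
    rw [← hπ₂, ← hπ'₁]
    show _ = (g ≫ a₂) π'
    refine congrArg (fun q : pullback a₁ k ⟶ pullback p Z₀.hom => q π') ?_
    refine pullback.hom_ext ?_ ?_
    · exact (pullback.lift_fst _ _ _).trans (Category.assoc _ _ _).symm
    · refine (pullback.lift_snd _ _ _).trans ?_
      show (v₁ ≫ k) ≫ s' = (g ≫ a₂) ≫ s'
      rw [← hg, Category.assoc, Category.assoc]
      exact congrArg (g ≫ ·) pullback.condition
  have hW : IsOpen (s' '' Set.range k) := by
    have hq : Topology.IsQuotientMap s'.base := Flat.isQuotientMap_of_surjective _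
    rw [← hq.isOpen_preimage,
      Set.Subset.antisymm hsat (Set.subset_preimage_image _ _)]
    exact k.isOpenEmbedding.isOpen_range
  let W : Z₀.left.Opens := ⟨_, hW⟩
  let incl : (Over.mk (W.ι ≫ Z₀.hom) : Over S) ⟶ Z₀ := Over.homMk W.ι rfl
  let m := ((toDD p).map incl).hom.left
  have sqm : IsPullback m (pullback.snd p _) s' W.ι := isPullback_map p incl
  have : IsOpenImmersion m :=
    MorphismProperty.of_isPullback sqm.flip (inferInstanceAs (IsOpenImmersion W.ι))
  have hm : Set.range m = Set.range k := by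
    refine Set.Subset.antisymm ?_ fun y hy => ?_
    · rintro _ ⟨z, rfl⟩
      refine hsat ?_
      show s' (m z) ∈ (W : Set Z₀.left)
      exact (congr(($(sqm.w)) z)) ▸ (pullback.snd p (Over.mk (W.ι ≫ Z₀.hom)).hom z).2
    · obtain ⟨z, hz, -⟩ := Scheme.exists_preimage_of_isPullback sqm y
        (⟨s' y, Set.mem_image_of_mem _ hy⟩ : W.toScheme) rfl
      exact ⟨z, hz⟩
  let k₁ := IsOpenImmersion.isoOfRangeEq k m hm.symm
  have hk₁ : k₁.hom ≫ m = k := IsOpenImmersion.isoOfRangeEq_hom_fac _ _ _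
  have hw1 : k₁.hom ≫ pullback.fst p (Over.mk (W.ι ≫ Z₀.hom)).hom = O.ι ≫ D.obj.hom := by
    rw [← hkfst, ← hk₁, Category.assoc]
    exact congrArg (k₁.hom ≫ ·) (Over.w ((toDD p).map incl).hom).symm
  let G : restrict hO ⟶ (toDD p).obj (Over.mk (W.ι ≫ Z₀.hom)) := ⟨Over.homMk k₁.hom hw1,
    fun T x₀ x₁ h v w hw => by
      refine (cancel_mono m).mp ?_
      let w' : Lifts ((toDD p).obj Z₀).obj x₀ := ⟨w.1 ≫ m, by
        rw [Category.assoc]
        exact (congrArg (w.1 ≫ ·) (Over.w ((toDD p).map incl).hom)).trans w.2⟩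
      rw [← ((toDD p).map incl).comm x₀ x₁ h w w' rfl, Category.assoc]
      show _ = _ ≫ k₁.hom ≫ m
      rw [hk₁]
      exact F.comm x₀ x₁ h v w' (by
        show w.1 ≫ m = v.1 ≫ k
        rw [hw, ← hk₁]
        exact Category.assoc _ _ _)⟩
  have : IsIso G.hom.left := inferInstanceAs (IsIso k₁.hom)
  have : IsIso G.hom := by
    have : IsIso ((Over.forget X).map G.hom) := ‹IsIso G.hom.left›
    exact isIso_of_reflects_iso G.hom (Over.forget X)
  exact exists_chart_of_restrict hO _ (ddIso G).symm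

theorem isEffective_affine [IsAffine X] [IsAffine S] [Surjective p]
    (h : ∀ U : D.obj.left.Opens, IsCompact (U : Set D.obj.left) → U.toScheme.IsQuasiAffine) :
    ∃ Z : Over S, Nonempty ((toDD p).obj Z ≅ D) := by
  have := quasiSeparatedSpace_of_qaff h
  refine isEffective_of_charts fun v => ?_
  obtain ⟨_, ⟨U₀ : D.obj.left.Opens, hU₀, rfl⟩, hv, -⟩ :=
    D.obj.left.isBasis_affineOpens.exists_subset_of_mem_open (Set.mem_univ v) isOpen_univ
  have hT : ∀ U : D.obj.left.Opens, IsCompact (U : Set D.obj.left) →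
      IsCompact (satSet D (U : Set D.obj.left)) := fun U hU =>
    ((src D).isCompact_preimage hU).image (act D).continuous
  obtain ⟨U₂, hc₂, h₂, -⟩ := H7Flat.exists_compactOpen_between (hT U₀ hU₀.isCompact) (W := ⊤)
    (Set.subset_univ _)
  obtain ⟨U₃, hc₃, h₃, -⟩ := H7Flat.exists_compactOpen_between (hT U₂ hc₂) (W := ⊤) (Set.subset_univ _)
  obtain ⟨O, hO, hO0, hO2⟩ := exists_saturated_open D h₂
  have := h U₂ hc₂
  have := h U₃ hc₃
  obtain ⟨C, hC⟩ := exists_chart_of_le D U₂ U₃ (fun r hr => h₃ ⟨r, hr, rfl⟩) hO hO2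
  exact ⟨C, hC.ge (hO0 hv)⟩

end Groth.Agent.H13Desc.Eff.IndQA
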