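import Groth.Agent.H13Desc.Eff.Extend

/-!
A descent datum for a family as a descent datum for the morphism from the disjoint union.
-/

set_option backward.isDefEq.respectTransparency false
set_option backward.isDefEq.respectTransparency.types false
set_option linter.style.haveILetI false
set_option linter.unusedSectionVars false

universe w u

open CategoryTheory CategoryTheory.Limits AlgebraicGeometry
open Desc

namespace Groth.Agent.H13Desc.Eff

/-- A morphism of disjoint unions is cartesian over each member. -/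
theorem isPullback_sigmaMap {ι : Type u} {A B : ι → Scheme.{u}} (f : ∀ i, A i ⟶ B i) (i : ι) :
    IsPullback (f i) (Sigma.ι A i) (Sigma.ι B i) (Limits.Sigma.map f) := by
  refine IsOpenImmersion.isPullback _ _ _ _ (Limits.Sigma.ι_map f i) ?_
  apply le_antisymm
  · rintro x ⟨y, hxy⟩
    obtain ⟨k, a, rfl⟩ := (sigmaOpenCover A).exists_eq x
    rw [show (sigmaOpenCover A).f k = Sigma.ι A k from rfl, ← Scheme.Hom.comp_apply, Limits.Sigma.ι_map,
      Scheme.Hom.comp_apply] at hxy
    obtain ⟨rfl⟩ := (sigmaι_eq_iff B i k y (f k a)).mp hxy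
    exact ⟨a, rfl⟩
  · rintro _ ⟨x, rfl⟩
    refine ⟨f i x, ?_⟩
    rw [← Scheme.Hom.comp_apply, ← Scheme.Hom.comp_apply, Limits.Sigma.ι_map]

section sigma

variable {S : Scheme.{u}} {ι : Type u} {X : ι → Scheme.{u}} {f : ∀ i, X i ⟶ S} (D : SchDDFam f)

/-- The disjoint union of the members of a descent datum. -/
noncomputable def sigmaObj : Over (∐ X) := Over.mk (Limits.Sigma.map fun i => (D.obj i).hom)

theorem fib_sigma {j : PUnit.{u + 1}} (i : {i : ι // PUnit.unit = j}) :
    fib (V := fun _ : PUnit.{u + 1} => ∐ X) (α := fun _ => PUnit.unit) (fun i => Sigma.ι X i) i =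
      Sigma.ι X i.1 := by
  simp [fib]

/-- Points of the disjoint union over a member. -/
noncomputable def sigmaPts (i : ι) {T : Scheme.{u}} (r : T ⟶ X i) :
    Lifts (sigmaObj D) (r ≫ Sigma.ι X i) ≃ Lifts (D.obj i) r where
  toFun e := ⟨(isPullback_sigmaMap (fun k => (D.obj k).hom) i).lift r e.1 e.2.symm,
    (isPullback_sigmaMap (fun k => (D.obj k).hom) i).lift_fst _ _ _⟩
  invFun v := ⟨v.1 ≫ Sigma.ι (fun k => (D.obj k).left) i, by
    show (v.1 ≫ Sigma.ι (fun k => (D.obj k).left) i) ≫ Limits.Sigma.map (fun k => (D.obj k).hom) = _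
    rw [Category.assoc, Limits.Sigma.ι_map, ← Category.assoc, v.2]⟩
  left_inv e := Subtype.ext ((isPullback_sigmaMap (fun k => (D.obj k).hom) i).lift_snd _ _ _)
  right_inv v := Subtype.ext ((isPullback_sigmaMap (fun k => (D.obj k).hom) i).hom_ext
    (((isPullback_sigmaMap (fun k => (D.obj k).hom) i).lift_fst _ _ _).trans v.2.symm)
    ((isPullback_sigmaMap (fun k => (D.obj k).hom) i).lift_snd _ _ _))

theorem sigmaPts_val (i : ι) {T : Scheme.{u}} (r : T ⟶ X i) (e : Lifts (sigmaObj D) (r ≫ Sigma.ι X i)) :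
    (sigmaPts D i r e).1 ≫ Sigma.ι (fun k => (D.obj k).left) i = e.1 :=
  (isPullback_sigmaMap (fun k => (D.obj k).hom) i).lift_snd _ _ _

/-- The objects of the extended datum. -/
noncomputable def sigmaGlued :
    Glued (V := fun _ : PUnit.{u + 1} => ∐ X) (α := fun _ => PUnit.unit) (fun i => Sigma.ι X i) D where
  E _ := sigmaObj D
  θ {j} i {T} r := (Equiv.subtypeEquivRight fun a => by rw [fib_sigma]).trans (sigmaPts D i.1 r)
  θ_natural {j} i {T T'} h r e e' he := by
    apply (isPullback_sigmaMap (fun k => (D.obj k).hom) i.1).hom_ext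
    · simp only [Equiv.trans_apply, Category.assoc]
      exact (sigmaPts D i.1 _ _).2.trans (congrArg (h ≫ ·) (sigmaPts D i.1 r _).2.symm)
    · simp only [Equiv.trans_apply, Category.assoc]
      rw [sigmaPts_val, sigmaPts_val]
      exact he
  θ_compat {j} i i' {T} r r' hr e e' hrr hee := by
    obtain ⟨i, hi⟩ := i
    obtain ⟨i', hi'⟩ := i'
    by_cases hT : IsEmpty T
    · exact Subtype.ext (isInitialOfIsEmpty.hom_ext _ _)
    · obtain ⟨t⟩ := not_isEmpty_iff.mp hT
      rw [fib_sigma, fib_sigma] at hrr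
      obtain rfl : i = i' := by
        have := congr(($hrr) t)
        rw [Scheme.Hom.comp_apply, Scheme.Hom.comp_apply] at this
        exact congrArg Sigma.fst ((sigmaι_eq_iff X i i' _ _).mp this)
      obtain rfl : r = r' := (cancel_mono (Sigma.ι X i)).mp hrr
      rw [D.φ_self]
      congr 1
      exact Subtype.ext hee

theorem sigma_hcov (j : PUnit.{u + 1}) {T : Scheme.{u}} (x : T ⟶ ∐ X) :
    ∃ R : Sieve T, R ∈ Scheme.fpqcTopology T ∧ ∀ ⦃T' : Scheme.{u}⦄ (h : T' ⟶ T), R h →
      Nonempty (Loc (V := fun _ : PUnit.{u + 1} => ∐ X) (α := fun _ => PUnit.unit) (j := j)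
        (fun i => Sigma.ι X i) x h) := by
  refine ⟨Sieve.pullback x (Sieve.generate (Presieve.ofArrows X (Sigma.ι X))),
    Scheme.fpqcTopology.pullback_stable _ (Precoverage.generate_mem_toGrothendieck
      (Scheme.zariskiPrecoverage_le_fpqcPrecoverage _ (sigmaOpenCover X).mem₀)), fun T' h hh => ?_⟩
  obtain ⟨_, r, _, ⟨i⟩, hr⟩ := hh
  exact ⟨⟨⟨i, rfl⟩, r, by rw [fib_sigma]; exact hr⟩⟩

theorem sigma_w (i : ι) : Sigma.ι X i ≫ Sigma.desc f = f i := Sigma.ι_desc f i

/-- The descent datum for the disjoint union. -/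
noncomputable def sigmaDD : SchDD (Sigma.desc f) :=
  (SchDDFam.toSchDD (Sigma.desc f)).obj
    ((sigmaGlued D).datum (v := fun _ : PUnit.{u + 1} => Sigma.desc f) sigma_w sigma_hcov)

theorem sigmaDD_obj : (sigmaDD D).obj = sigmaObj D := rfl

/-- The gluing of the disjoint union extends the gluing of the family. -/
theorem sigmaDD_phi {T : Scheme.{u}} {i i' : ι} (r : T ⟶ X i) (r' : T ⟶ X i') (h : r ≫ f i = r' ≫ f i')
    (h' : (r ≫ Sigma.ι X i) ≫ Sigma.desc f = (r' ≫ Sigma.ι X i') ≫ Sigma.desc f)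
    (e : Lifts (sigmaObj D) (r ≫ Sigma.ι X i)) :
    D.φ r r' h (sigmaPts D i r e) =
      sigmaPts D i' r' ((sigmaDD D).φ (r ≫ Sigma.ι X i) (r' ≫ Sigma.ι X i') h' e) := by
  have hs := (rel_exists (v := fun _ : PUnit.{u + 1} => Sigma.desc f) sigma_w sigma_hcov (sigmaGlued D)
    (j₀ := PUnit.unit) (j₁ := PUnit.unit) (r ≫ Sigma.ι X i) (r' ≫ Sigma.ι X i') h' e).choose_spec (𝟙 T)
    ⟨⟨i, rfl⟩, r, by rw [fib_sigma, Category.id_comp]⟩ ⟨⟨i', rfl⟩, r', by rw [fib_sigma, Category.id_comp]⟩
  refine Eq.trans ?_ (hs.trans ?_)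
  · exact congrArg (fun z => D.φ r r' h (sigmaPts D i r z)) (Subtype.ext (Category.id_comp _).symm)
  · exact congrArg (sigmaPts D i' r') (Subtype.ext (Category.id_comp _))

end sigma

end Groth.Agent.H13Desc.Eff
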