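import Groth.Agent.H13Desc.Eff.Sigma
import Groth.Agent.H13Desc.Eff.Glue
import Groth.Agent.H13Desc.Eff.Refine

/-!
Descent data along Zariski refinements.
-/

set_option backward.isDefEq.respectTransparency false
set_option backward.isDefEq.respectTransparency.types false
set_option linter.style.haveILetI false
set_option linter.unusedSectionVars false

universe w u

open CategoryTheory CategoryTheory.Limits AlgebraicGeometry
open Desc

namespace Groth.Agent.H13Desc.Eff

/-- Descent data relative to an isomorphism are effective. -/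
theorem exists_iso_of_isIso {W V : Scheme.{u}} (c : W ⟶ V) [IsIso c] (D : SchDD c) :
    ∃ Z : Over V, Nonempty ((toDD c).obj Z ≅ D) := by
  let Z : Over V := Over.mk (D.obj.hom ≫ c)
  let k : D ⟶ (toDD c).obj Z := ⟨Over.homMk (pullback.lift D.obj.hom (𝟙 _) (by rw [Category.id_comp]; rfl))
      (pullback.lift_fst _ _ _), fun T x₀ x₁ h v w hw => by
    have e : x₀ = x₁ := (cancel_mono c).mp h
    rw [phi_self'' _ e, phi_self'' _ e, hw]⟩
  have : IsIso k.hom := by
    have : IsIso ((Over.forget W).map k.hom) := by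
      show IsIso (pullback.lift D.obj.hom (𝟙 _) _)
      refine ⟨pullback.snd c Z.hom, pullback.lift_snd _ _ _, pullback.hom_ext ?_ ?_⟩
      · rw [Category.assoc, pullback.lift_fst, Category.id_comp, ← cancel_mono c, Category.assoc,
          pullback.condition]
        rfl
      · rw [Category.assoc, pullback.lift_snd, Category.id_comp, Category.comp_id]
    exact isIso_of_reflects_iso k.hom (Over.forget W)
  exact ⟨Z, ⟨(ddIso k).symm⟩⟩

/-- The isomorphism on points of an isomorphism of descent data. -/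
def ptsEquiv {X S : Scheme.{u}} {p : X ⟶ S} {D E : SchDD p} (e : D ≅ E) {T : Scheme.{u}} (x : T ⟶ X) :
    Lifts D.obj x ≃ Lifts E.obj x where
  toFun a := e.hom.push a
  invFun a := e.inv.push a
  left_inv a := Subtype.ext (by
    simp only [SchDD.Hom.push, Category.assoc, ← Over.comp_left, ← SchDD.comp_hom, e.hom_inv_id]
    exact Category.comp_id _)
  right_inv a := Subtype.ext (by
    simp only [SchDD.Hom.push, Category.assoc, ← Over.comp_left, ← SchDD.comp_hom, e.inv_hom_id]
    exact Category.comp_id _)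

variable {ι κ : Type u} {S : Scheme.{u}} {U : ι → Scheme.{u}} {V : κ → Scheme.{u}}
  {u : ∀ i, U i ⟶ S} {v : ∀ j, V j ⟶ S} {α : ι → κ} {g : ∀ i, U i ⟶ V (α i)}
  (hw : ∀ i, g i ≫ v (α i) = u i)
  (hcov : ∀ j, Presieve.ofArrows (fun i : {i // α i = j} => U i.1) (fun i => fib g i) ∈
    Scheme.zariskiPrecoverage (V j))

/-- The part of a descent datum over one member. -/
def fibDD (D : SchDDFam u) (j : κ) : SchDDFam (fun i : {i // α i = j} => fib g i) where
  obj i := D.obj i.1
  φ T i i' x₀ x₁ h := D.φ x₀ x₁ (by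
    rw [← fib_comp g hw i, ← fib_comp g hw i', reassoc_of% h])
  φ_natural T T' k i i' x₀ x₁ h y₀ y₁ hy₀ hy₁ h' a a' ha := D.φ_natural k _ _ _ _ _ hy₀ hy₁ _ a a' ha
  φ_self T i x a := D.φ_self x a
  φ_comp T i i' i'' x₀ x₁ x₂ h₀₁ h₁₂ a := D.φ_comp _ _ _ _ _ a

include hcov in
theorem loc_hcov (j : κ) {T : Scheme.{u}} (x : T ⟶ V j) :
    ∃ R : Sieve T, R ∈ Scheme.fpqcTopology T ∧ ∀ ⦃T' : Scheme.{u}⦄ (h : T' ⟶ T), R h →
      Nonempty (Loc g x h) := by
  refine ⟨Sieve.pullback x (Sieve.generate _), Scheme.fpqcTopology.pullback_stable _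
    (Precoverage.generate_mem_toGrothendieck (Scheme.zariskiPrecoverage_le_fpqcPrecoverage _ (hcov j))),
    fun T' h hh => ?_⟩
  obtain ⟨_, r, _, ⟨i⟩, hr⟩ := hh
  exact ⟨⟨i, r, hr⟩⟩

include hw hcov in
theorem exists_fib_effective (D : SchDDFam u) (j : κ) : ∃ E : Over (V j),
    Nonempty ((toDD (Sigma.desc fun i : {i // α i = j} => fib g i)).obj E ≅ sigmaDD (fibDD hw D j)) := by
  obtain ⟨hcv, hop⟩ := (Scheme.ofArrows_mem_precoverage_iff (P := @IsOpenImmersion)).mp (hcov j)
  let q := Sigma.desc fun i : {i // α i = j} => fib g i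
  have : ∀ i : {i // α i = j}, IsOpenImmersion (Sigma.ι (fun i : {i // α i = j} => U i.1) i ≫ q) :=
    fun i => by rw [Sigma.ι_desc]; exact hop i
  have : Flat q := (IsZariskiLocalAtSource.iff_of_openCover (P := @Flat) (sigmaOpenCover _)).mpr
    fun i => haveI := this i; (inferInstance : Flat (Sigma.ι (fun i : {i // α i = j} => U i.1) i ≫ q))
  have : LocallyOfFinitePresentation q :=
    (IsZariskiLocalAtSource.iff_of_openCover (P := @LocallyOfFinitePresentation) (sigmaOpenCover _)).mpr
      fun i => haveI := ‹∀ i : {i // α i = j}, IsOpenImmersion (Sigma.ι (fun i : {i // α i = j} => U i.1) i ≫ q)› i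
        (inferInstance : LocallyOfFinitePresentation (Sigma.ι (fun i : {i // α i = j} => U i.1) i ≫ q))
  have : Surjective q := ⟨fun y => by
    obtain ⟨i, z, hz⟩ := hcv y
    exact ⟨Sigma.ι (fun i : {i // α i = j} => U i.1) i z, by
      rw [← Scheme.Hom.comp_apply, Sigma.ι_desc]; exact hz⟩⟩
  refine isEffective_of_charts fun a => ?_
  obtain ⟨i, z, hz⟩ := hcv (((sigmaDD (fibDD hw D j)).obj.hom ≫ q) a)
  have := hop i
  have hc : Sigma.ι (fun i : {i // α i = j} => U i.1) i ≫ q =
      (fib g i).isoOpensRange.hom ≫ (fib g i).opensRange.ι := by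
    rw [Sigma.ι_desc, Scheme.Hom.isoOpensRange_hom_ι]
  obtain ⟨Z, ⟨e⟩⟩ := exists_iso_of_isIso (fib g i).isoOpensRange.hom
    (pullW (sigmaDD (fibDD hw D j)) (Sigma.ι (fun i : {i // α i = j} => U i.1) i)
      (fib g i).isoOpensRange.hom hc)
  obtain ⟨C, hC⟩ := exists_chart_of_refinement (sigmaDD (fibDD hw D j))
    (Sigma.ι (fun i : {i // α i = j} => U i.1) i) (fib g i).isoOpensRange.hom hc Z e
  exact ⟨C, hC ⟨z, hz⟩⟩

set_option maxHeartbeats 800000 in
include hw hcov in
theorem exists_glued (D : SchDDFam u) : Nonempty (Glued g D) := by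
  have key := exists_fib_effective hw hcov D
  choose E e using key
  let q : ∀ j, (∐ fun i : {i // α i = j} => U i.1) ⟶ V j := fun j => Sigma.desc fun i => fib g i
  let canon : ∀ j (i : {i // α i = j}) {T : Scheme.{u}} (r : T ⟶ U i.1),
      Lifts (E j) (r ≫ fib g i) ≃
        Lifts ((toDD (q j)).obj (E j)).obj (r ≫ Sigma.ι (fun i : {i // α i = j} => U i.1) i) := fun j i T r =>
    { toFun := fun a => ⟨pullback.lift (r ≫ Sigma.ι (fun i : {i // α i = j} => U i.1) i) a.1 (by
          rw [Category.assoc, Sigma.ι_desc, a.2]), pullback.lift_fst _ _ _⟩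
      invFun := fun b => ⟨b.1 ≫ pullback.snd (q j) (E j).hom, by
          rw [Category.assoc, ← pullback.condition]
          have hb : b.1 ≫ pullback.fst (q j) (E j).hom = r ≫ Sigma.ι (fun i : {i // α i = j} => U i.1) i := b.2
          rw [reassoc_of% hb, Sigma.ι_desc]⟩
      left_inv := fun a => Subtype.ext (pullback.lift_snd _ _ _)
      right_inv := fun b => Subtype.ext (pullback.hom_ext
        ((pullback.lift_fst _ _ _).trans b.2.symm) (pullback.lift_snd _ _ _)) }
  refine ⟨⟨E, fun {j} i {T} r => ((canon j i r).trans (ptsEquiv (e j).some _)).trans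
    (sigmaPts (fibDD hw D j) i r), ?_, ?_⟩⟩
  · intro j i T T' h r a a' ha
    apply (isPullback_sigmaMap (fun k => ((fibDD hw D j).obj k).hom) i).hom_ext
    · simp only [Category.assoc]
      exact (sigmaPts (fibDD hw D j) i _ _).2.trans (congrArg (h ≫ ·) (sigmaPts (fibDD hw D j) i r _).2.symm)
    · simp only [Category.assoc, Equiv.trans_apply]
      refine (sigmaPts_val (fibDD hw D j) i _ _).trans
        (Eq.trans ?_ (congrArg (h ≫ ·) (sigmaPts_val (fibDD hw D j) i r _)).symm)
      show pullback.lift _ a'.1 _ ≫ _ = h ≫ pullback.lift _ a.1 _ ≫ _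
      rw [← Category.assoc h]
      congr 1
      exact pullback.hom_ext (by simp) (by simp [ha])
  · intro j i i' T r r' hr a a' hrr haa
    simp only [Equiv.trans_apply]
    have hq : (r ≫ Sigma.ι (fun i : {i // α i = j} => U i.1) i) ≫ q j =
        (r' ≫ Sigma.ι (fun i : {i // α i = j} => U i.1) i') ≫ q j := by
      rw [Category.assoc, Category.assoc, Sigma.ι_desc, Sigma.ι_desc, hrr]
    refine (sigmaDD_phi (fibDD hw D j) r r' hrr hq _).trans (congrArg (sigmaPts (fibDD hw D j) i' r') ?_)
    refine Subtype.ext (((e j).some.hom.comm _ _ hq (canon j i r a)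
      (ptsEquiv (e j).some _ (canon j i r a)) rfl).trans ?_)
    refine congrArg (· ≫ (e j).some.hom.hom.left) ?_
    refine pullback.hom_ext ?_ ?_
    · exact (pullback.lift_fst _ _ _).trans (pullback.lift_fst _ _ _).symm
    · refine (pullback.lift_snd _ _ _).trans ?_
      show pullback.lift _ a.1 _ ≫ _ = pullback.lift _ a'.1 _ ≫ _
      rw [pullback.lift_snd, pullback.lift_snd, haa]

include hw hcov in
/-- Refining a family by Zariski coverings of its members does not change descent data. -/
theorem pullDDFam_isEquivalence_zariski :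
    (pullDDFam (f := v) (f' := u) (α := α) (p := 𝟙 S) (p' := g)
      (fun i => (hw i).trans (Category.comp_id (u i)).symm)).IsEquivalence := by
  have hL := hasFpqcLifts_of_refinement (f := v) (α := α) (p' := g)
    (fun j => Scheme.zariskiPrecoverage_le_fpqcPrecoverage _ (hcov j))
  have h1 := pullDDFam_full (w := fun i => (hw i).trans (Category.comp_id (u i)).symm) hL
  have h2 := pullDDFam_faithful (w := fun i => (hw i).trans (Category.comp_id (u i)).symm) hL
  have h3 : (pullDDFam (f := v) (f' := u) (α := α) (p := 𝟙 S) (p' := g)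
      (fun i => (hw i).trans (Category.comp_id (u i)).symm)).EssSurj := ⟨fun D => by
    obtain ⟨G⟩ := exists_glued hw hcov D
    exact ⟨_, G.pull_iso hw (loc_hcov hcov)⟩⟩
  exact { }

end Groth.Agent.H13Desc.Eff
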